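import Groth.Agent.L04.CMLoc
import Groth.Agent.L04.Depth2
import Groth.Agent.L21.Smooth.EtaleRegular
import Mathlib.RingTheory.RingHom.Flat
import Mathlib.RingTheory.Ideal.AssociatedPrime.Localization
import Mathlib.RingTheory.RegularLocalRing.Defs
import Mathlib.RingTheory.Flat.FaithfullyFlat.Algebra
import Groth.Prelude.Def_CAlg

/-!
# Faithfully flat extensions whose closed fibres are reduced points at every prime

For `A → B` flat local with `m_A B = m_B` the dimension, depth and regularity agree; globalised
for faithfully flat maps with this property at every prime of the target.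
-/

open IsLocalRing TensorProduct

namespace Groth.L05.Henselization

universe u

section Local

variable (A B : Type u) [CommRing A] [IsLocalRing A] [IsNoetherianRing A] [CommRing B]
  [IsLocalRing B] [IsNoetherianRing B] [Algebra A B] [Module.Flat A B]
  (h : (maximalIdeal A).map (algebraMap A B) = maximalIdeal B)

include h

omit [IsNoetherianRing A] [IsNoetherianRing B] in
theorem faithfullyFlat_of_map_maximalIdeal : Module.FaithfullyFlat A B := by
  haveI : IsLocalHom (algebraMap A B) :=
    ((IsLocalRing.local_hom_TFAE (algebraMap A B)).out 0 2 rfl rfl).mpr h.le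
  exact Module.FaithfullyFlat.of_flat_of_isLocalHom

theorem ringKrullDim_eq_of_map_maximalIdeal : ringKrullDim B = ringKrullDim A := by
  haveI : (maximalIdeal B).LiesOver (maximalIdeal A) := ⟨by
    have : maximalIdeal A ≤ (maximalIdeal B).comap (algebraMap A B) :=
      Ideal.map_le_iff_le_comap.mp h.le
    exact ((maximalIdeal.isMaximal A).eq_of_le (Ideal.IsPrime.comap _).ne_top this)⟩
  have hht := Ideal.height_eq_height_add_of_liesOver_of_hasGoingDown (maximalIdeal A) (maximalIdeal B)
  haveI : ((maximalIdeal A).map (algebraMap A B)).IsMaximal := h ▸ maximalIdeal.isMaximal B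
  letI : Field (B ⧸ (maximalIdeal A).map (algebraMap A B)) := Ideal.Quotient.field _
  have hbot : (maximalIdeal B).map (Ideal.Quotient.mk ((maximalIdeal A).map (algebraMap A B))) = ⊥ := by
    rw [Ideal.map_eq_bot_iff_le_ker, Ideal.mk_ker, h]
  rw [hbot, Ideal.height_bot, add_zero] at hht
  rw [← maximalIdeal_height_eq_ringKrullDim, ← maximalIdeal_height_eq_ringKrullDim, hht]

theorem spanFinrank_le_of_map_maximalIdeal :
    (maximalIdeal A).spanFinrank ≤ (maximalIdeal B).spanFinrank := by
  haveI := faithfullyFlat_of_map_maximalIdeal A B h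
  rw [IsLocalRing.spanFinrank_maximalIdeal_eq_finrank_cotangentSpace (R := B)]
  let f : maximalIdeal A → maximalIdeal B := fun a =>
    ⟨algebraMap A B a.1, h ▸ Ideal.mem_map_of_mem _ a.2⟩
  have hspan : Submodule.span B (Set.range f) = ⊤ := by
    refine Submodule.map_injective_of_injective (Submodule.injective_subtype (maximalIdeal B)) ?_
    rw [Submodule.map_span, Submodule.map_top, Submodule.range_subtype, ← Set.range_comp]
    exact (congrArg Ideal.span (show Set.range (Subtype.val ∘ f) =
      algebraMap A B '' (maximalIdeal A : Set A) by ext; simp [f])).trans h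
  have hc : Submodule.span (ResidueField B) (Set.range ((maximalIdeal B).toCotangent ∘ f)) = ⊤ := by
    rw [Set.range_comp]
    exact CotangentSpace.span_image_eq_top_iff.mpr hspan
  obtain ⟨b, hb, hbspan, hbli⟩ :=
    exists_linearIndependent (ResidueField B) (Set.range ((maximalIdeal B).toCotangent ∘ f))
  rw [hc] at hbspan
  haveI : Fintype b := hbli.setFinite.fintype
  choose g hg using fun y : b => hb y.2
  let t : Finset (maximalIdeal A) := Finset.univ.map ⟨g, fun y z hyz => Subtype.ext (by
    rw [← hg y, ← hg z, hyz])⟩
  have ht : Ideal.span (Subtype.val '' (t : Set (maximalIdeal A))) = maximalIdeal A := by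
    refine le_antisymm (Ideal.span_le.mpr (by rintro _ ⟨a, -, rfl⟩; exact a.2)) ?_
    have himg : Submodule.span B (f '' (t : Set (maximalIdeal A))) = ⊤ := by
      refine CotangentSpace.span_image_eq_top_iff.mp ?_
      rw [eq_top_iff, ← hbspan]
      refine Submodule.span_mono fun y hy => ?_
      exact ⟨f (g ⟨y, hy⟩), ⟨_, by simp [t], rfl⟩, hg ⟨y, hy⟩⟩
    have hmap : maximalIdeal B =
        (Ideal.span (Subtype.val '' (t : Set (maximalIdeal A)))).map (algebraMap A B) := by
      conv_lhs => rw [← Submodule.range_subtype (maximalIdeal B), ← Submodule.map_top, ← himg,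
        Submodule.map_span]
      rw [Ideal.map_span, ← Set.image_comp, ← Set.image_comp]
      rfl
    intro a ha
    rw [← Ideal.comap_map_eq_self_of_faithfullyFlat (B := B)
      (Ideal.span (Subtype.val '' (t : Set (maximalIdeal A)))), Ideal.mem_comap, ← hmap, ← h]
    exact Ideal.mem_map_of_mem _ ha
  conv_lhs => rw [← ht]
  refine (Submodule.spanFinrank_span_le_ncard_of_finite (t.finite_toSet.image _)).trans ?_
  refine (Set.ncard_image_le t.finite_toSet).trans (le_of_eq ?_)
  rw [Set.ncard_coe_finset, Finset.card_map, Finset.card_univ]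
  rw [← finrank_top (ResidueField B) (CotangentSpace B), ← hbspan, finrank_span_set_eq_card hbli,
    Set.toFinset_card]

theorem isRegularLocalRing_iff_of_map_maximalIdeal :
    IsRegularLocalRing A ↔ IsRegularLocalRing B := by
  refine ⟨fun _ => (Groth.L21.Smooth.regular_of_flat_of_map_maximalIdeal A B h).1, fun hB => ?_⟩
  refine IsRegularLocalRing.of_spanFinrank_maximalIdeal_le _ ?_
  rw [← ringKrullDim_eq_of_map_maximalIdeal A B h, ← IsRegularLocalRing.spanFinrank_maximalIdeal (R := B)]
  exact_mod_cast spanFinrank_le_of_map_maximalIdeal A B h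

theorem depth_eq_of_map_maximalIdeal : LocCoh.depth B B = LocCoh.depth A A := by
  haveI := faithfullyFlat_of_map_maximalIdeal A B h
  have h1 := (Groth.L04.idealDepth_baseChange (M := A) (B := B) (maximalIdeal A)).2 inferInstance
  rw [h] at h1
  rw [LocCoh.depth, LocCoh.depth, ← h1]
  exact (Groth.L04.idealDepth_congr (AlgebraTensorModule.rid A B B)).symm

theorem isCohenMacaulayLocalRing_iff_of_map_maximalIdeal :
    LocCoh.IsCohenMacaulayLocalRing A ↔ LocCoh.IsCohenMacaulayLocalRing B := by
  have hd := depth_eq_of_map_maximalIdeal A B h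
  have hk := ringKrullDim_eq_of_map_maximalIdeal A B h
  constructor <;> intro hX
  · have := hX.supportDim_eq_depth
    rw [Module.supportDim_self_eq_ringKrullDim] at this
    exact { supportDim_eq_depth := by rw [Module.supportDim_self_eq_ringKrullDim, hk, hd, this] }
  · have := hX.supportDim_eq_depth
    rw [Module.supportDim_self_eq_ringKrullDim, hk, hd] at this
    exact { supportDim_eq_depth := by rw [Module.supportDim_self_eq_ringKrullDim, this] }

omit h in
omit [IsNoetherianRing B] [Algebra A B] [Module.Flat A B] in
theorem maximalIdeal_mem_associatedPrimes_iff :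
    maximalIdeal A ∈ associatedPrimes A A ↔ ∃ z : A, z ≠ 0 ∧ ∀ a ∈ maximalIdeal A, a * z = 0 := by
  constructor
  · intro hm
    obtain ⟨-, z, hz⟩ := isAssociatedPrime_iff.1 hm
    refine ⟨z, fun h0 => (maximalIdeal.isMaximal A).ne_top ?_, fun a ha => ?_⟩
    · rw [hz, h0, eq_top_iff]
      intro a _
      simp
    · rw [hz] at ha
      simpa using ha
  · rintro ⟨z, hz0, hz⟩
    refine isAssociatedPrime_iff.2 ⟨inferInstance, z, ?_⟩
    refine ((maximalIdeal.isMaximal A).eq_of_le ?_ fun a ha => by simpa using hz a ha)
    intro ht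
    exact hz0 (by simpa using (Ideal.eq_top_iff_one _).1 ht)

theorem maximalIdeal_mem_associatedPrimes_iff_of_map :
    maximalIdeal A ∈ associatedPrimes A A ↔ maximalIdeal B ∈ associatedPrimes B B := by
  haveI := faithfullyFlat_of_map_maximalIdeal A B h
  rw [maximalIdeal_mem_associatedPrimes_iff, maximalIdeal_mem_associatedPrimes_iff]
  constructor
  · rintro ⟨z, hz0, hz⟩
    refine ⟨algebraMap A B z, fun h0 => hz0 (FaithfulSMul.algebraMap_injective A B
      (by rw [h0, map_zero])), fun b hb => ?_⟩
    have hle : (maximalIdeal A).map (algebraMap A B) ≤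
        LinearMap.ker (LinearMap.toSpanSingleton B B (algebraMap A B z)) := by
      rw [Ideal.map_le_iff_le_comap]
      intro a ha
      show algebraMap A B a • algebraMap A B z = 0
      rw [smul_eq_mul, ← map_mul, hz a ha, map_zero]
    exact hle (h ▸ hb)
  · rintro ⟨w, hw0, hw⟩
    rcases Groth.L04.exists_regular_or_killed (maximalIdeal A) A with ⟨r, hr, hreg⟩ | ⟨z, hz⟩
    · refine absurd ?_ hw0
      have hB : IsSMulRegular (B ⊗[A] A) r := hreg.lTensor B
      refine ((AlgebraTensorModule.rid A A B).isSMulRegular_congr r).mp hB ?_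
      simp only [smul_zero]
      rw [Algebra.smul_def]
      exact hw _ (h ▸ Ideal.mem_map_of_mem _ hr)
    · exact ⟨z, hz⟩

end Local

/-- The closed fibre at every prime of `S` is a point with reduced structure. -/
def HasReducedPointFibres (R S : Type u) [CommRing R] [CommRing S] [Algebra R S] : Prop :=
  ∀ P : Ideal S, P.IsPrime → ∀ x ∈ P,
    ∃ t ∉ P, t * x ∈ (P.comap (algebraMap R S)).map (algebraMap R S)

theorem HasReducedPointFibres.of_algEquiv {R S S' : Type u} [CommRing R] [CommRing S] [Algebra R S]
    [CommRing S'] [Algebra R S'] (e : S ≃ₐ[R] S') (h : HasReducedPointFibres R S) :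
    HasReducedPointFibres R S' := by
  intro P hP x hx
  obtain ⟨t, ht, htx⟩ := h (P.comap e.toAlgHom.toRingHom) (hP.comap _) (e.symm x)
    (by simpa using hx)
  refine ⟨e t, ht, ?_⟩
  have h1 := Ideal.mem_map_of_mem e.toAlgHom.toRingHom htx
  rw [Ideal.map_map, Ideal.comap_comap,
    show e.toAlgHom.toRingHom.comp (algebraMap R S) = algebraMap R S' from e.toAlgHom.comp_algebraMap,
    map_mul, show e.toAlgHom.toRingHom (e.symm x) = x from e.apply_symm_apply x] at h1
  exact h1

section Global

variable {R S : Type u} [CommRing R] [CommRing S] [Algebra R S] [IsNoetherianRing R]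
  [IsNoetherianRing S] [Module.FaithfullyFlat R S] (hS : HasReducedPointFibres R S)

include hS

omit [IsNoetherianRing R] [IsNoetherianRing S] in
theorem exists_local_algebra (p : Ideal R) [p.IsPrime] (P : Ideal S) [P.IsPrime]
    (hP : p = P.comap (algebraMap R S)) :
    ∃ (_ : Algebra (Localization.AtPrime p) (Localization.AtPrime P)),
      Module.Flat (Localization.AtPrime p) (Localization.AtPrime P) ∧
      (maximalIdeal (Localization.AtPrime p)).map
        (algebraMap (Localization.AtPrime p) (Localization.AtPrime P)) =
          maximalIdeal (Localization.AtPrime P) := by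
  let g := Localization.localRingHom p P (algebraMap R S) hP
  refine ⟨g.toAlgebra, RingHom.Flat.localRingHom (RingHom.flat_algebraMap_iff.mpr inferInstance) P p hP,
    le_antisymm ?_ ?_⟩
  · exact (((IsLocalRing.local_hom_TFAE g).out 0 2 rfl rfl).mp inferInstance)
  · show _ ≤ Ideal.map g _
    rw [← Localization.AtPrime.map_eq_maximalIdeal, ← Localization.AtPrime.map_eq_maximalIdeal,
      Ideal.map_map, show g.comp (algebraMap R (Localization.AtPrime p)) =
        (algebraMap S (Localization.AtPrime P)).comp (algebraMap R S) from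
          RingHom.ext fun r => Localization.localRingHom_to_map _ _ _ hP r, ← Ideal.map_map,
      Ideal.map_le_iff_le_comap]
    intro x hx
    obtain ⟨t, ht, htx⟩ := hS P inferInstance x hx
    rw [← hP] at htx
    have hu : IsUnit (algebraMap S (Localization.AtPrime P) t) :=
      IsLocalization.map_units (M := P.primeCompl) _ ⟨t, ht⟩
    rw [Ideal.mem_comap, ← Ideal.unit_mul_mem_iff_mem _ hu, ← map_mul]
    exact Ideal.mem_map_of_mem _ htx

omit hS [IsNoetherianRing R] [IsNoetherianRing S] in
theorem exists_prime_over (p : Ideal R) [p.IsPrime] :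
    ∃ P : Ideal S, P.IsPrime ∧ p = P.comap (algebraMap R S) := by
  obtain ⟨Q, hQ⟩ := PrimeSpectrum.comap_surjective_of_faithfullyFlat (B := S) ⟨p, inferInstance⟩
  exact ⟨Q.asIdeal, Q.isPrime, (congrArg PrimeSpectrum.asIdeal hQ).symm⟩

theorem mem_associatedPrimes_iff_comap (P : Ideal S) [P.IsPrime] :
    P ∈ associatedPrimes S S ↔ P.comap (algebraMap R S) ∈ associatedPrimes R R := by
  obtain ⟨i, hf, hm⟩ := exists_local_algebra hS (P.comap (algebraMap R S)) P rfl
  have key : ∀ {A : Type u} [CommRing A] [IsNoetherianRing A] (q : Ideal A) [q.IsPrime],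
      q ∈ associatedPrimes A A ↔ maximalIdeal (Localization.AtPrime q) ∈
        associatedPrimes (Localization.AtPrime q) (Localization.AtPrime q) := by
    intro A _ _ q _
    rw [← Module.associatedPrimes.preimage_comap_associatedPrimes_eq_associatedPrimes_of_isLocalizedModule
      q.primeCompl (Localization.AtPrime q) (Algebra.linearMap A (Localization.AtPrime q)),
      Set.mem_preimage, ← Ideal.under_def, Localization.AtPrime.under_maximalIdeal]
  rw [key P, key (P.comap (algebraMap R S))]
  exact (maximalIdeal_mem_associatedPrimes_iff_of_map _ _ hm).symm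

theorem height_eq_height_comap (p : Ideal R) [p.IsPrime] (P : Ideal S) [P.IsPrime]
    (hP : p = P.comap (algebraMap R S)) : P.height = p.height := by
  obtain ⟨i, hf, hm⟩ := exists_local_algebra hS p P hP
  have h1 := ringKrullDim_eq_of_map_maximalIdeal _ _ hm
  rw [IsLocalization.AtPrime.ringKrullDim_eq_height P, IsLocalization.AtPrime.ringKrullDim_eq_height p] at h1
  exact WithBot.coe_injective h1

theorem hasRk_iff (k : ℕ) : LocCoh.HasRk k S ↔ LocCoh.HasRk k R := by
  constructor <;> intro hk
  · intro p _ hp
    obtain ⟨P, hPp, hP⟩ := exists_prime_over (S := S) p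
    obtain ⟨i, hf, hm⟩ := exists_local_algebra hS p P hP
    exact (isRegularLocalRing_iff_of_map_maximalIdeal _ _ hm).mpr
      (hk P (by rwa [height_eq_height_comap hS p P hP]))
  · intro P _ hP
    obtain ⟨i, hf, hm⟩ := exists_local_algebra hS _ P rfl
    exact (isRegularLocalRing_iff_of_map_maximalIdeal _ _ hm).mp
      (hk (P.comap (algebraMap R S)) (by rwa [← height_eq_height_comap hS _ P rfl]))

theorem hasSk_iff (k : ℕ) : LocCoh.HasSk k S S ↔ LocCoh.HasSk k R R := by
  have key : ∀ (p : Ideal R) [p.IsPrime] (P : Ideal S) [P.IsPrime], p = P.comap (algebraMap R S) →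
      (Module.supportDim (Localization.AtPrime P) (LocalizedModule P.primeCompl S) =
        Module.supportDim (Localization.AtPrime p) (LocalizedModule p.primeCompl R)) ∧
      LocCoh.depth (Localization.AtPrime P) (LocalizedModule P.primeCompl S) =
        LocCoh.depth (Localization.AtPrime p) (LocalizedModule p.primeCompl R) := by
    intro p _ P _ hP
    obtain ⟨i, hf, hm⟩ := exists_local_algebra hS p P hP
    rw [Groth.L04.depth_localizedModule_self, Groth.L04.depth_localizedModule_self,
      Module.supportDim_eq_of_equiv (Groth.L04.localizedModuleSelfEquiv P),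
      Module.supportDim_eq_of_equiv (Groth.L04.localizedModuleSelfEquiv p),
      Module.supportDim_self_eq_ringKrullDim, Module.supportDim_self_eq_ringKrullDim]
    exact ⟨ringKrullDim_eq_of_map_maximalIdeal _ _ hm, depth_eq_of_map_maximalIdeal _ _ hm⟩
  constructor <;> intro hk
  · intro p _
    obtain ⟨P, hPp, hP⟩ := exists_prime_over (S := S) p
    rw [← (key p P hP).1, ← (key p P hP).2]
    exact hk P
  · intro P _
    rw [(key _ P rfl).1, (key _ P rfl).2]
    exact hk _

end Global

end Groth.L05.Henselization
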