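import Groth.Agent.L05.Henselization.Pair
import Mathlib.RingTheory.TensorProduct.Maps

/-!
# Étale neighbourhoods of a pair
-/

open CategoryTheory TensorProduct

namespace Groth.L05.Henselization

universe u

variable {A : Type u} [CommRing A] (I : Ideal A)

/-- `A'` is trivial modulo `I`: there is a section `A' → A/I` with kernel `IA'`. -/
theorem exists_section_iff {A' : Type u} [CommRing A'] [Algebra A A'] :
    Function.Bijective (Ideal.quotientMap (I.map (algebraMap A A')) (algebraMap A A') Ideal.le_comap_map) ↔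
      ∃ σ : A' →ₐ[A] A ⧸ I, RingHom.ker σ = I.map (algebraMap A A') := by
  set ρ := Ideal.quotientMap (I.map (algebraMap A A')) (algebraMap A A') Ideal.le_comap_map
  constructor
  · intro hb
    let e := RingEquiv.ofBijective ρ hb
    refine ⟨{ e.symm.toRingHom.comp (Ideal.Quotient.mk _) with
      commutes' := fun a => e.injective ?_ }, ?_⟩
    · show e (e.symm (Ideal.Quotient.mk _ (algebraMap A A' a))) = e (Ideal.Quotient.mk I a)
      rw [e.apply_symm_apply]
      rfl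
    · ext x
      show e.symm (Ideal.Quotient.mk _ x) = 0 ↔ _
      rw [map_eq_zero_iff _ e.symm.injective, Ideal.Quotient.eq_zero_iff_mem]
  · rintro ⟨σ, hσ⟩
    refine ⟨?_, fun q => ?_⟩
    · rw [injective_iff_map_eq_zero]
      intro q hq
      obtain ⟨a, rfl⟩ := Ideal.Quotient.mk_surjective q
      rw [Ideal.quotientMap_mk, Ideal.Quotient.eq_zero_iff_mem, ← hσ, RingHom.mem_ker, σ.commutes] at hq
      exact hq
    · obtain ⟨x, rfl⟩ := Ideal.Quotient.mk_surjective q
      obtain ⟨a, ha⟩ := Ideal.Quotient.mk_surjective (σ x)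
      refine ⟨Ideal.Quotient.mk I a, ?_⟩
      rw [Ideal.quotientMap_mk, Ideal.Quotient.eq, ← hσ, RingHom.mem_ker, map_sub, σ.commutes,
        ← ha, sub_eq_zero]
      rfl

theorem section_unique {A' : Type u} [CommRing A'] [Algebra A A'] {σ : A' →ₐ[A] A ⧸ I}
    (hσ : RingHom.ker σ = I.map (algebraMap A A')) {B : Type u} [CommRing B] [Algebra A B]
    {J : Ideal B} (hJ : I.map (algebraMap A B) ≤ J) (g g' : A' →ₐ[A] B) (x : A') :
    g x - g' x ∈ J := by
  obtain ⟨a, ha⟩ := Ideal.Quotient.mk_surjective (σ x)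
  have hmem : x - algebraMap A A' a ∈ I.map (algebraMap A A') := by
    rw [← hσ, RingHom.mem_ker, map_sub, σ.commutes, ← ha, sub_eq_zero]
    rfl
  have key : ∀ h : A' →ₐ[A] B, h x - algebraMap A B a ∈ J := fun h => by
    have := Ideal.mem_map_of_mem h.toRingHom hmem
    rw [Ideal.map_map, show h.toRingHom.comp (algebraMap A A') = algebraMap A B from h.comp_algebraMap,
      show h.toRingHom (x - algebraMap A A' a) = h (x - algebraMap A A' a) from rfl,
      map_sub, h.commutes] at this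
    exact hJ this
  simpa using J.sub_mem (key g) (key g')

/-- An étale neighbourhood of `(A, I)` has exactly one map to each henselian pair over `(A, I)`. -/
theorem existsUnique_algHom_of_section {A' : Type u} [CommRing A'] [Algebra A A'] [Algebra.Etale A A']
    {σ : A' →ₐ[A] A ⧸ I} (hσ : RingHom.ker σ = I.map (algebraMap A A'))
    {C : Type u} [CommRing C] [Algebra A C] (J : Ideal C) [HenselianRing C J]
    (hJ : I.map (algebraMap A C) ≤ J) : ∃! g : A' →ₐ[A] C, True := by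
  let τ : A' →ₐ[A] C ⧸ J := (Ideal.Quotient.liftₐ I (Algebra.ofId A (C ⧸ J)) fun i hi =>
    Ideal.Quotient.eq_zero_iff_mem.mpr (hJ (Ideal.mem_map_of_mem _ hi))).comp σ
  obtain ⟨g, hg, hgu⟩ := existsUnique_algHom_lift_etale J τ
  refine ⟨g, trivial, fun g' _ => hgu g' (AlgHom.ext fun x => ?_)⟩
  rw [← hg]
  exact Ideal.Quotient.eq.mpr (section_unique I hσ hJ g' g x)

theorem isPairHenselization_of_section {S H : Type u} [CommRing S] [Algebra A S] [Algebra.Etale A S]
    [CommRing H] [Algebra S H] [Algebra A H] [IsScalarTower A S H]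
    {σ : S →ₐ[A] A ⧸ I} (hσ : RingHom.ker σ = I.map (algebraMap A S))
    (hH : Hens2.IsPairHenselization S (I.map (algebraMap A S)) H) :
    Hens2.IsPairHenselization A I H := by
  have e : (I.map (algebraMap A S)).map (algebraMap S H) = I.map (algebraMap A H) := by
    rw [Ideal.map_map, ← IsScalarTower.algebraMap_eq]
  refine ⟨e ▸ hH.1, fun C _ J f hCJ hf => ?_⟩
  letI : Algebra A C := f.toAlgebra
  obtain ⟨g₀, -, hg₀⟩ := existsUnique_algHom_of_section I hσ J hf
  obtain ⟨g, hg, hgu⟩ := hH.2 C J g₀.toRingHom hCJ (by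
    rw [Ideal.map_map, show g₀.toRingHom.comp (algebraMap A S) = f from g₀.comp_algebraMap]
    exact hf)
  refine ⟨g, ?_, fun g' hg' => hgu g' ?_⟩
  · show g.comp (algebraMap A H) = f
    rw [IsScalarTower.algebraMap_eq A S H, ← RingHom.comp_assoc, hg]
    exact g₀.comp_algebraMap
  · replace hg' : g'.comp (algebraMap A H) = f := hg'
    let h : S →ₐ[A] C := { g'.comp (algebraMap S H) with
      commutes' := fun a => by
        show g' (algebraMap S H (algebraMap A S a)) = f a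
        rw [← IsScalarTower.algebraMap_apply]
        exact DFunLike.congr_fun hg' a }
    exact congrArg AlgHom.toRingHom (hg₀ h trivial)

/-- An étale algebra with a section modulo `I` shrinks to an étale neighbourhood. -/
theorem exists_refine {E : Type u} [CommRing E] [Algebra A E] [Algebra.Etale A E]
    (φ : E →ₐ[A] A ⧸ I) :
    ∃ (E' : Type u) (_ : CommRing E') (_ : Algebra A E') (_ : Algebra.Etale A E')
      (σ : E' →ₐ[A] A ⧸ I) (g : E →ₐ[A] E'),
      RingHom.ker σ = I.map (algebraMap A E') ∧ σ.comp g = φ := by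
  obtain ⟨e, -, he, hmem⟩ := Groth.L05.exists_idem_of_section φ
  haveI : Algebra.Etale E (Localization.Away e) := Algebra.Etale.of_isLocalizationAway e
  haveI : Algebra.Etale A (Localization.Away e) := Algebra.Etale.comp A E _
  let σ : Localization.Away e →ₐ[A] A ⧸ I := IsLocalization.liftAlgHom (M := Submonoid.powers e)
    (f := φ) (fun ⟨y, m, hy⟩ => by subst hy; simp [he])
  have hσφ : ∀ y, σ (algebraMap E _ y) = φ y := fun y =>
    IsLocalization.lift_eq (M := Submonoid.powers e) _ y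
  refine ⟨Localization.Away e, inferInstance, inferInstance, inferInstance, σ,
    IsScalarTower.toAlgHom A E _, ?_, AlgHom.ext hσφ⟩
  refine le_antisymm (fun z hz => ?_) (Ideal.map_le_iff_le_comap.mpr fun i hi => ?_)
  · obtain ⟨⟨y, s⟩, hys⟩ := IsLocalization.surj (Submonoid.powers e) z
    have hy : φ y = 0 := by
      rw [← hσφ, ← hys, map_mul, show σ z = 0 from hz, zero_mul]
    have h1 := Ideal.mem_map_of_mem (algebraMap E (Localization.Away e)) (hmem y hy)
    rw [Ideal.map_map, ← IsScalarTower.algebraMap_eq, map_mul, ← hys, mul_comm,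
      Ideal.unit_mul_mem_iff_mem _ (IsLocalization.Away.algebraMap_isUnit e), mul_comm,
      Ideal.unit_mul_mem_iff_mem _ (IsLocalization.map_units _ s)] at h1
    exact h1
  · rw [Ideal.mem_comap, RingHom.mem_ker, AlgHom.commutes]
    exact Ideal.Quotient.eq_zero_iff_mem.mpr hi

theorem directed_sections {A₁ A₂ : Type u} [CommRing A₁] [Algebra A A₁] [Algebra.Etale A A₁]
    [CommRing A₂] [Algebra A A₂] [Algebra.Etale A A₂] {σ₁ : A₁ →ₐ[A] A ⧸ I} {σ₂ : A₂ →ₐ[A] A ⧸ I}
    (h₁ : RingHom.ker σ₁ = I.map (algebraMap A A₁)) (h₂ : RingHom.ker σ₂ = I.map (algebraMap A A₂)) :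
    ∃ (A₃ : Type u) (_ : CommRing A₃) (_ : Algebra A A₃) (_ : Algebra.Etale A A₃)
      (σ : A₃ →ₐ[A] A ⧸ I), RingHom.ker σ = I.map (algebraMap A A₃) ∧
      Nonempty (A₁ →ₐ[A] A₃) ∧ Nonempty (A₂ →ₐ[A] A₃) := by
  haveI : Algebra.Etale A (A₁ ⊗[A] A₂) := Algebra.Etale.comp A A₁ _
  obtain ⟨E, i1, i2, i3, σ, g, hσ, -⟩ :=
    exists_refine I (Algebra.TensorProduct.lift σ₁ σ₂ fun _ _ => Commute.all _ _)
  exact ⟨E, i1, i2, i3, σ, hσ, ⟨g.comp Algebra.TensorProduct.includeLeft⟩,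
    ⟨g.comp Algebra.TensorProduct.includeRight⟩⟩

theorem coequalize_sections {A₁ A₂ : Type u} [CommRing A₁] [Algebra A A₁] [Algebra.Etale A A₁]
    [CommRing A₂] [Algebra A A₂] [Algebra.Etale A A₂] {σ₁ : A₁ →ₐ[A] A ⧸ I} {σ₂ : A₂ →ₐ[A] A ⧸ I}
    (h₁ : RingHom.ker σ₁ = I.map (algebraMap A A₁)) (_h₂ : RingHom.ker σ₂ = I.map (algebraMap A A₂))
    (f g : A₁ →ₐ[A] A₂) :
    ∃ (A₃ : Type u) (_ : CommRing A₃) (_ : Algebra A A₃) (_ : Algebra.Etale A A₃)
      (σ : A₃ →ₐ[A] A ⧸ I) (h : A₂ →ₐ[A] A₃),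
      RingHom.ker σ = I.map (algebraMap A A₃) ∧ h.comp f = h.comp g := by
  have hagree : σ₂.comp f = σ₂.comp g := AlgHom.ext fun x => by
    have := section_unique I h₁ (J := (⊥ : Ideal (A ⧸ I)))
      (by rw [Ideal.map_le_iff_le_comap]; exact fun i hi => by
            simpa using Ideal.Quotient.eq_zero_iff_mem.mpr hi)
      (σ₂.comp f) (σ₂.comp g) x
    exact sub_eq_zero.mp this
  obtain ⟨X, e₁, he₁⟩ := Obj.exists_obj A₁ (σ₂.comp f)
  obtain ⟨Y, e₂, he₂⟩ := Obj.exists_obj A₂ σ₂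
  have hcomp : ∀ k : A₁ →ₐ[A] A₂, σ₂.comp k = σ₂.comp f →
      Y.φ.comp (e₂.toAlgHom.comp (k.comp e₁.symm.toAlgHom)) = X.φ := by
    intro k hk
    rw [← AlgHom.comp_assoc, he₂, ← AlgHom.comp_assoc, hk, ← he₁]
    ext x
    exact congrArg X.φ (e₁.apply_symm_apply x)
  let f' : X ⟶ Y := ⟨_, hcomp f rfl⟩
  let g' : X ⟶ Y := ⟨_, hcomp g hagree.symm⟩
  obtain ⟨E, i1, i2, i3, σ, k, hσ, -⟩ := exists_refine I (IsFiltered.coeq f' g').φ
  refine ⟨E, i1, i2, i3, σ, (k.comp (IsFiltered.coeqHom f' g').1).comp e₂.toAlgHom, hσ,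
    AlgHom.ext fun x => ?_⟩
  have hx := congrArg (fun q : X ⟶ IsFiltered.coeq f' g' => q.1 (e₁ x))
    (IsFiltered.coeq_condition f' g')
  have hl : (f' ≫ IsFiltered.coeqHom f' g').1 (e₁ x) =
      (IsFiltered.coeqHom f' g').1 (e₂ (f x)) := by
    show (IsFiltered.coeqHom f' g').1 (e₂ (f (e₁.symm (e₁ x)))) = _
    rw [e₁.symm_apply_apply]
  have hr : (g' ≫ IsFiltered.coeqHom f' g').1 (e₁ x) =
      (IsFiltered.coeqHom f' g').1 (e₂ (g x)) := by
    show (IsFiltered.coeqHom f' g').1 (e₂ (g (e₁.symm (e₁ x)))) = _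
    rw [e₁.symm_apply_apply]
  show k ((IsFiltered.coeqHom f' g').1 (e₂ (f x))) = k ((IsFiltered.coeqHom f' g').1 (e₂ (g x)))
  rw [← hl, ← hr]
  exact congrArg k hx

variable {B : Type u} [CommRing B] [Algebra A B] (hB : Hens2.IsPairHenselization A I B)

include hB

theorem exists_section_lift (b : B) :
    ∃ (A' : Type u) (_ : CommRing A') (_ : Algebra A A') (_ : Algebra.Etale A A')
      (σ : A' →ₐ[A] A ⧸ I) (φ : A' →ₐ[A] B) (s : A'),
      RingHom.ker σ = I.map (algebraMap A A') ∧ φ s = b := by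
  obtain ⟨e, -⟩ := isPairHenselization_algEquiv A I (isPairHenselization A I) hB
  obtain ⟨X, x, hx⟩ := ι_surj (e.symm b)
  obtain ⟨E, i1, i2, i3, σ, g, hσ, hg⟩ := exists_refine I X.φ
  obtain ⟨Y, e', f, -, hf⟩ := Obj.exists_hom E σ g hg
  refine ⟨E, i1, i2, i3, σ, (e.toAlgHom.comp (ι Y)).comp e'.toAlgHom, g x, hσ, ?_⟩
  show e (ι Y (e' (g x))) = b
  rw [show e' (g x) = f.1 x by rw [hf]; rfl, ι_map, hx, e.apply_symm_apply]

theorem exists_section_killing {A' : Type u} [CommRing A'] [Algebra A A'] [Algebra.Etale A A']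
    {σ : A' →ₐ[A] A ⧸ I} (hσ : RingHom.ker σ = I.map (algebraMap A A'))
    (φ : A' →ₐ[A] B) (s : A') (hs : φ s = 0) :
    ∃ (A'' : Type u) (_ : CommRing A'') (_ : Algebra A A'') (_ : Algebra.Etale A A'')
      (σ' : A'' →ₐ[A] A ⧸ I), RingHom.ker σ' = I.map (algebraMap A A'') ∧
      ∃ ψ : A' →ₐ[A] A'', ψ s = 0 := by
  obtain ⟨e, -⟩ := isPairHenselization_algEquiv A I (isPairHenselization A I) hB
  obtain ⟨X, e', -⟩ := Obj.exists_obj A' σ
  haveI := hB.1
  obtain ⟨g₀, -, hu⟩ := existsUnique_algHom_of_section I hσ (I.map (algebraMap A B)) le_rfl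
  have h0 : ι X (e' s) = 0 := by
    apply e.injective
    rw [map_zero, ← hs]
    have := (hu ((e.toAlgHom.comp (ι X)).comp e'.toAlgHom) trivial).trans (hu φ trivial).symm
    exact DFunLike.congr_fun this s
  obtain ⟨Z, f, hf⟩ := ι_eq (h0.trans (map_zero (ι X)).symm)
  obtain ⟨E, i1, i2, i3, σ', k, hσ', -⟩ := exists_refine I Z.φ
  refine ⟨E, i1, i2, i3, σ', hσ', (k.comp f.1).comp e'.toAlgHom, ?_⟩
  show k (f.1 (e' s)) = 0
  rw [hf, map_zero, map_zero]

end Groth.L05.Henselization
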