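import Groth.Agent.L05.Henselization.Pair
import Groth.Prelude.Def_Hensel

/-!
# Henselization of a local ring
-/

open IsLocalRing

namespace Groth.L05.Henselization

universe u

theorem isLocalRing_col (A K : Type u) [CommRing A] [Field K] [Algebra A K] :
    IsLocalRing (Col A K) :=
  haveI : IsLocalHom (ε A K).toRingHom := ⟨fun _ hx => isUnit_of_isUnit_ε hx⟩
  RingHom.domain_isLocalRing (ε A K).toRingHom

variable (R : Type u) [CommRing R] [IsLocalRing R]

theorem isLocalRing_of_isPairHenselization {S : Type u} [CommRing S] [Algebra R S]
    (h : Hens2.IsPairHenselization R (maximalIdeal R) S) :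
    IsLocalRing S ∧ (maximalIdeal R).map (algebraMap R S) ≤ (⊥ : Ideal S).jacobson ∧
      ((maximalIdeal R).map (algebraMap R S)).IsMaximal := by
  have hb := quotientMap_pow_bijective R (maximalIdeal R) h 1
  rw [Function.Bijective] at hb
  have hmax : ((maximalIdeal R ^ 1).map (algebraMap R S)).IsMaximal := by
    refine Ideal.Quotient.maximal_of_isField _ ?_
    have hf : IsField (R ⧸ maximalIdeal R ^ 1) :=
      (Ideal.Quotient.maximal_ideal_iff_isField_quotient _).mp (by rw [pow_one]; exact maximalIdeal.isMaximal R)
    exact (RingEquiv.ofBijective (Ideal.quotientMap ((maximalIdeal R ^ 1).map (algebraMap R S))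
      (algebraMap R S) Ideal.le_comap_map) hb).symm.toMulEquiv.isField hf
  rw [pow_one] at hmax
  have hjac := h.1.jac
  refine ⟨IsLocalRing.of_unique_max_ideal ⟨_, hmax, fun M hM => ?_⟩, hjac, hmax⟩
  exact (hmax.eq_of_le hM.ne_top (hjac.trans (sInf_le ⟨bot_le, hM⟩))).symm

theorem map_maximalIdeal_of_isPairHenselization {S : Type u} [CommRing S] [IsLocalRing S]
    [Algebra R S] (h : Hens2.IsPairHenselization R (maximalIdeal R) S) :
    (maximalIdeal R).map (algebraMap R S) = maximalIdeal S :=
  IsLocalRing.eq_maximalIdeal (isLocalRing_of_isPairHenselization R h).2.2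

theorem isLocalHom_of_isPairHenselization {S : Type u} [CommRing S] [IsLocalRing S]
    [Algebra R S] (h : Hens2.IsPairHenselization R (maximalIdeal R) S) :
    IsLocalHom (algebraMap R S) :=
  ((IsLocalRing.local_hom_TFAE (algebraMap R S)).out 0 2 rfl rfl).mpr
    (map_maximalIdeal_of_isPairHenselization R h).le

/-- A henselization of the pair `(R, m)` is a henselization of the local ring. -/
theorem isHenselization_of_isPairHenselization {S : Type u} [CommRing S] [IsLocalRing S]
    [Algebra R S] [IsLocalHom (algebraMap R S)]
    (h : Hens2.IsPairHenselization R (maximalIdeal R) S) : Hensel.IsHenselization R S where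
  henselian := by
    haveI : HenselianRing S (maximalIdeal S) := map_maximalIdeal_of_isPairHenselization R h ▸ h.1
    exact Groth.L05.henselianLocalRing_of_henselianRing
  universal T _ _ f hf := h.2 T (maximalIdeal T) f inferInstance
    (((IsLocalRing.local_hom_TFAE f).out 0 2 rfl rfl).mp hf)

theorem exists_isHenselization : ∃ (S : Type u) (_ : CommRing S) (_ : IsLocalRing S)
    (_ : Algebra R S) (_ : IsLocalHom (algebraMap R S)), Hensel.IsHenselization R S := by
  have h := isPairHenselization R (maximalIdeal R)
  haveI := (isLocalRing_of_isPairHenselization R h).1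
  haveI := isLocalHom_of_isPairHenselization R h
  exact ⟨PairHens R (maximalIdeal R), inferInstance, inferInstance, inferInstance, inferInstance,
    isHenselization_of_isPairHenselization R h⟩

variable {R} in
/-- Two henselizations are isomorphic. -/
theorem isHenselization_algEquiv {S S' : Type u} [CommRing S] [IsLocalRing S] [Algebra R S]
    [IsLocalHom (algebraMap R S)] [hS : Hensel.IsHenselization R S] [CommRing S'] [IsLocalRing S']
    [Algebra R S'] [IsLocalHom (algebraMap R S')] [hS' : Hensel.IsHenselization R S'] :
    Nonempty (S ≃ₐ[R] S') := by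
  haveI := hS.henselian
  haveI := hS'.henselian
  obtain ⟨g, hg, -⟩ := hS.universal S' (algebraMap R S') inferInstance
  obtain ⟨g', hg', -⟩ := hS'.universal S (algebraMap R S) inferInstance
  have h1 : g'.comp g = RingHom.id S := by
    refine (hS.universal S (algebraMap R S) inferInstance).unique ?_ (RingHom.id_comp _)
    rw [RingHom.comp_assoc, hg, hg']
  have h2 : g.comp g' = RingHom.id S' := by
    refine (hS'.universal S' (algebraMap R S') inferInstance).unique ?_ (RingHom.id_comp _)
    rw [RingHom.comp_assoc, hg', hg]
  exact ⟨AlgEquiv.ofRingEquiv (f := RingEquiv.ofRingHom g g' h2 h1)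
    (fun a => DFunLike.congr_fun hg a)⟩

theorem isPairHenselization_of_algEquiv {A : Type u} [CommRing A] {I : Ideal A} {B B' : Type u}
    [CommRing B] [Algebra A B] [CommRing B'] [Algebra A B'] (e : B ≃ₐ[A] B')
    (h : Hens2.IsPairHenselization A I B) : Hens2.IsPairHenselization A I B' := by
  refine ⟨?_, fun C _ J f hCJ hf => ?_⟩
  · letI : Algebra B B' := e.toRingEquiv.toRingHom.toAlgebra
    haveI : Algebra.IsIntegral B B' :=
      Algebra.IsIntegral.of_surjective (Algebra.ofId B B') e.surjective
    haveI := h.1
    have h1 := Groth.L05.henselianRing_map_of_isIntegral (I.map (algebraMap A B)) B'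
    rwa [Ideal.map_map, show (algebraMap B B').comp (algebraMap A B) = algebraMap A B' from
      e.toAlgHom.comp_algebraMap] at h1
  · obtain ⟨g, hg, hgu⟩ := h.2 C J f hCJ hf
    refine ⟨g.comp e.symm.toRingEquiv.toRingHom, RingHom.ext fun a => ?_, fun g₂ hg₂ => ?_⟩
    · show g (e.symm (algebraMap A B' a)) = f a
      rw [e.symm.commutes]
      exact DFunLike.congr_fun hg a
    · have := hgu (g₂.comp e.toRingEquiv.toRingHom) (RingHom.ext fun a => by
        show g₂ (e (algebraMap A B a)) = f a
        rw [e.commutes]
        exact DFunLike.congr_fun hg₂ a)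
      refine RingHom.ext fun b => ?_
      have := DFunLike.congr_fun this (e.symm b)
      simpa using this

variable {R} in
/-- The henselization of a local ring is the henselization of the pair `(R, m)`. -/
theorem isPairHenselization_of_isHenselization {S : Type u} [CommRing S] [IsLocalRing S]
    [Algebra R S] [IsLocalHom (algebraMap R S)] [Hensel.IsHenselization R S] :
    Hens2.IsPairHenselization R (maximalIdeal R) S := by
  have h := isPairHenselization R (maximalIdeal R)
  haveI := (isLocalRing_of_isPairHenselization R h).1
  haveI := isLocalHom_of_isPairHenselization R h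
  haveI := isHenselization_of_isPairHenselization R h
  obtain ⟨e⟩ := isHenselization_algEquiv (R := R) (S := PairHens R (maximalIdeal R)) (S' := S)
  exact isPairHenselization_of_algEquiv e h

end Groth.L05.Henselization
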