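import Groth.Agent.L05.Henselization.Colimit
import Groth.Prelude.Def_Hens2

/-!
# Henselization of a pair
-/

open TensorProduct

namespace Groth.L05.Henselization

universe u

variable (A : Type u) [CommRing A] (I : Ideal A)

/-- The henselization of the pair `(A, I)`. -/
abbrev PairHens : Type u := Col A (A ⧸ I)

theorem ε_pair_surjective : Function.Surjective (ε A (A ⧸ I)) := fun q => by
  obtain ⟨a, rfl⟩ := Ideal.Quotient.mk_surjective q
  exact ⟨algebraMap A _ a, (ε A (A ⧸ I)).commutes a⟩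

theorem ker_ε_pair : RingHom.ker (ε A (A ⧸ I)) = I.map (algebraMap A (PairHens A I)) := by
  refine le_antisymm (ker_ε_le fun X x hx => ?_) (Ideal.map_le_iff_le_comap.mpr fun i hi => ?_)
  · obtain ⟨e, -, he, hmem⟩ := Groth.L05.exists_idem_of_section X.φ
    exact ⟨e, by rw [he]; exact isUnit_one, by rw [mul_comm]; exact hmem x hx⟩
  · rw [Ideal.mem_comap, RingHom.mem_ker, AlgHom.commutes]
    exact Ideal.Quotient.eq_zero_iff_mem.mpr hi

theorem isPairHenselization : Hens2.IsPairHenselization A I (PairHens A I) := by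
  refine ⟨ker_ε_pair A I ▸ henselianRing_ker_ε (ε_pair_surjective A I), ?_⟩
  intro C _ J f hCJ hfI
  letI : Algebra A C := f.toAlgebra
  let τ : A ⧸ I →ₐ[A] C ⧸ J := Ideal.Quotient.liftₐ I (Algebra.ofId A (C ⧸ J)) fun i hi =>
    Ideal.Quotient.eq_zero_iff_mem.mpr (hfI (Ideal.mem_map_of_mem f hi))
  obtain ⟨g, hg, hg'⟩ := existsUnique_algHom (A := A) J τ
  refine ⟨g.toRingHom, g.comp_algebraMap, fun g₂ hg₂ => ?_⟩
  let g₂' : PairHens A I →ₐ[A] C := { g₂ with commutes' := fun a => DFunLike.congr_fun hg₂ a }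
  suffices g₂' = g by rw [← this]
  refine hg' g₂' (AlgHom.ext fun b => ?_)
  obtain ⟨a, ha⟩ := Ideal.Quotient.mk_surjective (ε A (A ⧸ I) b)
  have hmem : b - algebraMap A _ a ∈ I.map (algebraMap A (PairHens A I)) := by
    rw [← ker_ε_pair, RingHom.mem_ker, map_sub, AlgHom.commutes, ← ha]
    exact sub_self _
  have h1 : g₂' (b - algebraMap A _ a) ∈ J := by
    have := Ideal.mem_map_of_mem g₂'.toRingHom hmem
    rw [Ideal.map_map, show g₂'.toRingHom.comp (algebraMap A (PairHens A I)) = f from hg₂] at this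
    exact hfI this
  rw [map_sub, AlgHom.commutes, ← Ideal.Quotient.eq] at h1
  show Ideal.Quotient.mk J (g₂' b) = τ (ε A (A ⧸ I) b)
  rw [h1, ← ha]
  rfl

theorem isPairHenselization_algEquiv {B B' : Type u} [CommRing B] [Algebra A B] [CommRing B']
    [Algebra A B'] (hB : Hens2.IsPairHenselization A I B) (hB' : Hens2.IsPairHenselization A I B') :
    ∃ e : B ≃ₐ[A] B', ∀ g : B →ₐ[A] B', g = e := by
  obtain ⟨g, hg, hgu⟩ := hB.2 B' _ (algebraMap A B') hB'.1 le_rfl
  obtain ⟨g', hg', -⟩ := hB'.2 B _ (algebraMap A B) hB.1 le_rfl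
  have h1 : g'.comp g = RingHom.id B := by
    refine (hB.2 B _ (algebraMap A B) hB.1 le_rfl).unique ?_ (RingHom.id_comp _)
    rw [RingHom.comp_assoc, hg, hg']
  have h2 : g.comp g' = RingHom.id B' := by
    refine (hB'.2 B' _ (algebraMap A B') hB'.1 le_rfl).unique ?_ (RingHom.id_comp _)
    rw [RingHom.comp_assoc, hg', hg]
  refine ⟨AlgEquiv.ofRingEquiv (f := RingEquiv.ofRingHom g g' h2 h1)
    (fun a => DFunLike.congr_fun hg a), fun φ => AlgHom.ext fun b => ?_⟩
  exact DFunLike.congr_fun (hgu φ.toRingHom φ.comp_algebraMap) b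

/-- Reduction modulo a power of `I` is bijective, from the universal property alone. -/
theorem quotientMap_pow_bijective {B : Type u} [CommRing B] [Algebra A B]
    (hB : Hens2.IsPairHenselization A I B) (n : ℕ) :
    Function.Bijective (Ideal.quotientMap ((I ^ n).map (algebraMap A B)) (algebraMap A B)
      Ideal.le_comap_map) := by
  rcases Nat.eq_zero_or_pos n with rfl | hn
  · haveI : Subsingleton (A ⧸ I ^ 0) := Ideal.Quotient.subsingleton_iff.mpr (by simp [Ideal.one_eq_top])
    haveI : Subsingleton (B ⧸ (I ^ 0).map (algebraMap A B)) :=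
      Ideal.Quotient.subsingleton_iff.mpr (by simp [Ideal.one_eq_top, Ideal.map_top])
    exact ⟨fun _ _ _ => Subsingleton.elim _ _, fun q => ⟨0, Subsingleton.elim _ _⟩⟩
  set In := I ^ n
  have hnil : ∀ {S : Type u} [CommRing S] (φ : A →+* S), In.map φ = ⊥ → HenselianRing S (I.map φ) := by
    intro S _ φ h0
    refine Groth.L05.henselianRing_of_nil _ fun x hx => ⟨n, ?_⟩
    have := Ideal.pow_mem_pow hx n
    rwa [← Ideal.map_pow, h0, Ideal.mem_bot] at this
  have hA := hnil (Ideal.Quotient.mk In) (Ideal.map_quotient_self In)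
  have hBn : HenselianRing (B ⧸ In.map (algebraMap A B))
      (I.map ((Ideal.Quotient.mk (In.map (algebraMap A B))).comp (algebraMap A B))) :=
    hnil _ (by rw [← Ideal.map_map, Ideal.map_quotient_self])
  obtain ⟨g, hg, -⟩ := hB.2 (A ⧸ In) _ (Ideal.Quotient.mk In) hA le_rfl
  set ρ := Ideal.quotientMap (In.map (algebraMap A B)) (algebraMap A B) Ideal.le_comap_map
  have hρg : ρ.comp g = Ideal.Quotient.mk (In.map (algebraMap A B)) := by
    refine (hB.2 _ _ ((Ideal.Quotient.mk (In.map (algebraMap A B))).comp (algebraMap A B)) hBn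
      le_rfl).unique ?_ rfl
    rw [RingHom.comp_assoc, hg]
    exact RingHom.ext fun a => rfl
  have hker : In.map (algebraMap A B) ≤ RingHom.ker g := by
    rw [Ideal.map_le_iff_le_comap]
    intro a ha
    rw [Ideal.mem_comap, RingHom.mem_ker, ← RingHom.comp_apply, hg]
    exact Ideal.Quotient.eq_zero_iff_mem.mpr ha
  refine ⟨fun x y hxy => ?_, fun q => ?_⟩
  · obtain ⟨a, rfl⟩ := Ideal.Quotient.mk_surjective x
    obtain ⟨b, rfl⟩ := Ideal.Quotient.mk_surjective y
    simp only [ρ, Ideal.quotientMap_mk, Ideal.Quotient.eq] at hxy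
    have := hker hxy
    rw [RingHom.mem_ker, map_sub, ← RingHom.comp_apply, ← RingHom.comp_apply g, hg,
      sub_eq_zero] at this
    exact this
  · obtain ⟨b, rfl⟩ := Ideal.Quotient.mk_surjective q
    exact ⟨g b, DFunLike.congr_fun hρg b⟩

theorem flat_of_isPairHenselization {B : Type u} [CommRing B] [Algebra A B]
    (hB : Hens2.IsPairHenselization A I B) : Module.Flat A B := by
  obtain ⟨e, -⟩ := isPairHenselization_algEquiv A I (isPairHenselization A I) hB
  haveI := flat (A := A) (K := A ⧸ I)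
  exact Module.Flat.of_linearEquiv e.symm.toLinearEquiv

end Groth.L05.Henselization
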