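import Groth.Agent.L05.Henselization.Strict
import Mathlib.RingTheory.Flat.FaithfullyFlat.Algebra

/-!
# Transfer of properties of the constructed (strict) henselization
-/

open IsLocalRing

namespace Groth.L05.Henselization

universe u

theorem faithfullyFlat_of_flat_local {R S : Type u} [CommRing R] [IsLocalRing R] [CommRing S]
    [IsLocalRing S] [Algebra R S] [IsLocalHom (algebraMap R S)] [Module.Flat R S] :
    Module.FaithfullyFlat R S :=
  Module.FaithfullyFlat.of_flat_of_isLocalHom

/-- Every strict henselization is the étale colimit along its residue field. -/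
theorem strictHenselization_algEquiv (R : Type u) [CommRing R] [IsLocalRing R] (S : Type u)
    [CommRing S] [IsLocalRing S] [Algebra R S] [IsLocalHom (algebraMap R S)]
    [hS : Hensel.IsStrictHenselization R S] :
    Nonempty (Col R (ResidueField S) ≃ₐ[R] S) := by
  haveI := hS.henselian
  haveI : IsSepClosed (ResidueField S) := hS.isSepClosure.sep_closed
  haveI : Algebra.IsSeparable (ResidueField R) (ResidueField S) := hS.isSepClosure.separable
  haveI := isLocalRing_col R (ResidueField S)
  haveI := isLocalHom_col R (ResidueField S)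
  haveI hC := isStrictHenselization_col R (ResidueField S)
  haveI := hC.henselian
  set K := ResidueField S
  set τ : K →+* ResidueField (Col R K) := (residueEquiv R K).symm.toRingHom
  set τ' : ResidueField (Col R K) →+* K := (residueEquiv R K).toRingHom
  have hτ' : τ'.comp (ResidueField.map (algebraMap R (Col R K))) =
      ResidueField.map (algebraMap R S) := by
    refine RingHom.ext fun x => ?_
    obtain ⟨r, rfl⟩ := residue_surjective x
    show residueEquiv R K (residue _ (algebraMap R (Col R K) r)) = residue S (algebraMap R S r)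
    rw [residueEquiv_residue, AlgHom.commutes]
    rfl
  have hτ : τ.comp (ResidueField.map (algebraMap R S)) =
      ResidueField.map (algebraMap R (Col R K)) := by
    rw [← hτ', ← RingHom.comp_assoc, show τ.comp τ' = RingHom.id _ from
      RingHom.ext fun x => (residueEquiv R K).symm_apply_apply x, RingHom.id_comp]
  obtain ⟨g, ⟨hg, hgr⟩, -⟩ := hS.universal (Col R K) (algebraMap R (Col R K)) τ hτ
  obtain ⟨g', ⟨hg', hgr'⟩, -⟩ := hC.universal S (algebraMap R S) τ' hτ'
  have h1 : g'.comp g = RingHom.id S := by
    refine (hS.universal S (algebraMap R S) (RingHom.id _) (RingHom.id_comp _)).unique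
      ⟨by rw [RingHom.comp_assoc, hg, hg'], fun x => ?_⟩ ⟨RingHom.id_comp _, fun x => rfl⟩
    show residue S (g' (g x)) = _
    rw [hgr', hgr]
    exact (residueEquiv R K).apply_symm_apply _
  have h2 : g.comp g' = RingHom.id (Col R K) := by
    refine (hC.universal (Col R K) (algebraMap R (Col R K)) (RingHom.id _)
      (RingHom.id_comp _)).unique
      ⟨by rw [RingHom.comp_assoc, hg', hg], fun x => ?_⟩ ⟨RingHom.id_comp _, fun x => rfl⟩
    show residue _ (g (g' x)) = _
    rw [hgr, hgr']
    exact (residueEquiv R K).symm_apply_apply _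
  exact ⟨AlgEquiv.ofRingEquiv (f := RingEquiv.ofRingHom g' g h1 h2)
    (fun a => DFunLike.congr_fun hg' a)⟩

theorem flat_of_isStrictHenselization (R : Type u) [CommRing R] [IsLocalRing R] (S : Type u)
    [CommRing S] [IsLocalRing S] [Algebra R S] [IsLocalHom (algebraMap R S)]
    [Hensel.IsStrictHenselization R S] : Module.Flat R S := by
  obtain ⟨e⟩ := strictHenselization_algEquiv R S
  haveI := flat (A := R) (K := ResidueField S)
  exact Module.Flat.of_linearEquiv e.symm.toLinearEquiv

theorem map_maximalIdeal_of_isStrictHenselization (R : Type u) [CommRing R] [IsLocalRing R]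
    (S : Type u) [CommRing S] [IsLocalRing S] [Algebra R S] [IsLocalHom (algebraMap R S)]
    [hS : Hensel.IsStrictHenselization R S] :
    (maximalIdeal R).map (algebraMap R S) = maximalIdeal S := by
  obtain ⟨e⟩ := strictHenselization_algEquiv R S
  haveI : Algebra.IsSeparable (ResidueField R) (ResidueField S) := hS.isSepClosure.separable
  haveI := isLocalRing_col R (ResidueField S)
  rw [← e.toAlgHom.comp_algebraMap, ← Ideal.map_map,
    ← maximalIdeal_col R (ResidueField S)]
  exact IsLocalRing.eq_maximalIdeal (Ideal.map_isMaximal_of_equiv e.toRingEquiv)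

theorem map_maximalIdeal_of_isHenselization (R : Type u) [CommRing R] [IsLocalRing R]
    (S : Type u) [CommRing S] [IsLocalRing S] [Algebra R S] [IsLocalHom (algebraMap R S)]
    [Hensel.IsHenselization R S] :
    (maximalIdeal R).map (algebraMap R S) = maximalIdeal S :=
  map_maximalIdeal_of_isPairHenselization R isPairHenselization_of_isHenselization

theorem flat_of_isHenselization (R : Type u) [CommRing R] [IsLocalRing R]
    (S : Type u) [CommRing S] [IsLocalRing S] [Algebra R S] [IsLocalHom (algebraMap R S)]
    [Hensel.IsHenselization R S] : Module.Flat R S :=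
  flat_of_isPairHenselization R (maximalIdeal R) isPairHenselization_of_isHenselization

theorem isIndEtale_of_algEquiv {A B B' : Type u} [CommRing A] [CommRing B] [Algebra A B]
    [CommRing B'] [Algebra A B'] (e : B ≃ₐ[A] B') (h : EtPBC.IsIndEtale A B) :
    EtPBC.IsIndEtale A B' := by
  rw [Groth.L27.IndEtale.isIndEtale_iff_exists_factor] at h ⊢
  intro P _ _ hP ψ
  obtain ⟨E, i1, i2, f, g, hE, hfg⟩ := h P (e.symm.toAlgHom.comp ψ)
  refine ⟨E, i1, i2, f, e.toAlgHom.comp g, hE, AlgHom.ext fun p => ?_⟩
  show e (g (f p)) = ψ p
  rw [show g (f p) = e.symm (ψ p) from DFunLike.congr_fun hfg p, e.apply_symm_apply]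

theorem isIndEtale_of_isHenselization (R : Type u) [CommRing R] [IsLocalRing R]
    (S : Type u) [CommRing S] [IsLocalRing S] [Algebra R S] [IsLocalHom (algebraMap R S)]
    [Hensel.IsHenselization R S] : EtPBC.IsIndEtale R S := by
  obtain ⟨e, -⟩ := isPairHenselization_algEquiv R (maximalIdeal R)
    (isPairHenselization R (maximalIdeal R)) (isPairHenselization_of_isHenselization (S := S))
  exact isIndEtale_of_algEquiv e isIndEtale

theorem isIndEtale_of_isStrictHenselization (R : Type u) [CommRing R] [IsLocalRing R] (S : Type u)
    [CommRing S] [IsLocalRing S] [Algebra R S] [IsLocalHom (algebraMap R S)]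
    [Hensel.IsStrictHenselization R S] : EtPBC.IsIndEtale R S := by
  obtain ⟨e⟩ := strictHenselization_algEquiv R S
  exact isIndEtale_of_algEquiv e isIndEtale

theorem residueField_map_bijective_of_isHenselization (R : Type u) [CommRing R] [IsLocalRing R]
    (S : Type u) [CommRing S] [IsLocalRing S] [Algebra R S] [IsLocalHom (algebraMap R S)]
    [Hensel.IsHenselization R S] :
    Function.Bijective (ResidueField.map (algebraMap R S)) := by
  have hb := (quotientMap_pow_bijective R (maximalIdeal R)
    (isPairHenselization_of_isHenselization (S := S)) 1).2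
  refine ⟨(ResidueField.map (algebraMap R S)).injective, fun y => ?_⟩
  obtain ⟨s, rfl⟩ := residue_surjective y
  obtain ⟨q, hq⟩ := hb (Ideal.Quotient.mk _ s)
  obtain ⟨r, rfl⟩ := Ideal.Quotient.mk_surjective q
  refine ⟨residue R r, ?_⟩
  rw [ResidueField.map_residue]
  rw [Ideal.quotientMap_mk, Ideal.Quotient.eq] at hq
  simp only [pow_one, map_maximalIdeal_of_isHenselization R S] at hq
  exact Ideal.Quotient.eq.mpr hq

end Groth.L05.Henselization
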