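import Groth.Agent.L05.Henselization.StrictUniq
import Groth.Agent.L02.Gonflement.Noeth
import Groth.Agent.L19.FlatComp
import Mathlib.RingTheory.Flat.EquationalCriterion
import Mathlib.RingTheory.Flat.Localization
import Mathlib.RingTheory.Etale.QuasiFinite
import Mathlib.RingTheory.KrullDimension.Basic
import Mathlib.RingTheory.Filtration
import Mathlib.RingTheory.Ideal.GoingDown

/-!
# Noetherianity and dimension of (strict) henselizations
-/

open IsLocalRing CategoryTheory

namespace Groth.L05.Henselization

universe u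

section

variable {A K : Type u} [CommRing A] [CommRing K] [Algebra A K]

/-- The colimit is flat over each member of the system. -/
theorem flat_ι (X : Obj A K) : (ι X).toRingHom.Flat := by
  letI : Algebra X.R (Col A K) := (ι X).toRingHom.toAlgebra
  show Module.Flat X.R (Col A K)
  rw [Module.Flat.iff_forall_isTrivialRelation]
  intro l r x hx
  classical
  obtain ⟨Y, hY⟩ := exists_lift_finset (Finset.univ.image x)
  choose y hy using fun s => hY (x s) (Finset.mem_image_of_mem _ (Finset.mem_univ s))
  obtain ⟨Z, f, g, -⟩ := IsFilteredOrEmpty.cocone_objs X Y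
  have hz : ι Z (∑ s, f.1 (r s) * g.1 (y s)) = ι Z 0 := by
    rw [map_sum, map_zero, ← hx]
    refine Finset.sum_congr rfl fun s _ => ?_
    rw [map_mul, ι_map, ι_map, Algebra.smul_def]
    exact congrArg (_ * ·) (hy s)
  obtain ⟨W, h, hh⟩ := ι_eq hz
  letI : Algebra X.R W.R := (f ≫ h).1.toRingHom.toAlgebra
  haveI : IsScalarTower A X.R W.R :=
    IsScalarTower.of_algebraMap_eq fun a => ((f ≫ h).1.commutes a).symm
  haveI : Algebra.Etale X.R W.R := Algebra.Etale.of_restrictScalars A X.R W.R
  have hrel : ∑ s, r s • h.1 (g.1 (y s)) = 0 := by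
    rw [map_zero, map_sum] at hh
    rw [← hh]
    refine Finset.sum_congr rfl fun s _ => ?_
    rw [map_mul, Algebra.smul_def]
    rfl
  haveI : Module.Flat X.R W.R := inferInstance
  obtain ⟨m, a, w, hw, ha⟩ :=
    Module.Flat.isTrivialRelation_of_sum_smul_eq_zero (R := X.R) (M := W.R) hrel
  refine ⟨m, a, fun t => ι W (w t), fun s => ?_, ha⟩
  rw [← hy s]
  show ι Y (y s) = _
  rw [← ι_map g (y s), ← ι_map h (g.1 (y s)), show h.1 (g.1 (y s)) = _ from hw s, map_sum]
  refine Finset.sum_congr rfl fun t _ => ?_
  rw [Algebra.smul_def, Algebra.smul_def, map_mul]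
  exact congrArg (· * _) (ι_map (f ≫ h) (a s t))

/-- Primes of the colimit with the same trace on `A` are incomparable. -/
theorem eq_of_le_of_comap_eq {P Q : Ideal (Col A K)} [P.IsPrime] [Q.IsPrime] (h : P ≤ Q)
    (hc : P.comap (algebraMap A (Col A K)) = Q.comap (algebraMap A (Col A K))) : P = Q := by
  refine le_antisymm h fun b hb => ?_
  obtain ⟨X, x, rfl⟩ := ι_surj b
  haveI : Algebra.QuasiFinite A X.R := inferInstance
  have key : P.comap (ι X).toRingHom = Q.comap (ι X).toRingHom := by
    refine Algebra.QuasiFinite.eq_of_le_of_under_eq (R := A) _ _ (Ideal.comap_mono h) ?_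
    simp only [Ideal.under_def, Ideal.comap_comap]
    rw [show (ι X).toRingHom.comp (algebraMap A X.R) = algebraMap A (Col A K) from
      (ι X).comp_algebraMap]
    exact hc
  exact (Ideal.ext_iff.mp key x).mpr hb

theorem ringKrullDim_le : ringKrullDim (Col A K) ≤ ringKrullDim A :=
  Order.krullDim_le_of_strictMono (fun P => PrimeSpectrum.comap (algebraMap A (Col A K)) P)
    fun P Q hPQ => lt_of_le_of_ne (Ideal.comap_mono hPQ.le) fun h => hPQ.ne <|
      PrimeSpectrum.ext (eq_of_le_of_comap_eq hPQ.le (congrArg PrimeSpectrum.asIdeal h))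

end

theorem le_ringKrullDim_of_faithfullyFlat (A B : Type u) [CommRing A] [CommRing B] [Algebra A B]
    [Module.FaithfullyFlat A B] : ringKrullDim A ≤ ringKrullDim B := by
  refine iSup_le fun l => ?_
  obtain ⟨⟨Q, hQ⟩, hQl⟩ := PrimeSpectrum.comap_surjective_of_faithfullyFlat (B := B) l.last
  haveI : Q.IsPrime := hQ
  haveI : Q.LiesOver l.last.asIdeal := ⟨(congrArg PrimeSpectrum.asIdeal hQl).symm⟩
  obtain ⟨L, hL, -, -⟩ := Ideal.exists_ltSeries_of_hasGoingDown (R := A) (S := B) l Q
  exact le_iSup_of_le L (by rw [hL])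

theorem mem_of_forall_mem_sup_pow {L : Type u} [CommRing L] [IsLocalRing L] [IsNoetherianRing L]
    {J : Ideal L} {z : L} (hmem : ∀ k : ℕ, z ∈ J ⊔ maximalIdeal L ^ k) : z ∈ J := by
  by_cases hJtop : J = ⊤
  · rw [hJtop]; trivial
  refine (Ideal.Quotient.eq_zero_iff_mem (I := J) (a := z)).mp ?_
  haveI : Nontrivial (L ⧸ J) := Ideal.Quotient.nontrivial_iff.mpr hJtop
  haveI := IsLocalRing.of_surjective' (Ideal.Quotient.mk J) Ideal.Quotient.mk_surjective
  rw [← Ideal.mem_bot (R := L ⧸ J),
    ← Ideal.iInf_pow_eq_bot_of_isLocalRing ((maximalIdeal L).map (Ideal.Quotient.mk J)) ?_,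
    Ideal.mem_iInf]
  · intro k
    obtain ⟨c, hc, d, hd, hcd⟩ := Submodule.mem_sup.mp (hmem k)
    rw [← hcd, map_add, Ideal.Quotient.eq_zero_iff_mem.mpr hc, zero_add, ← Ideal.map_pow]
    exact Ideal.mem_map_of_mem _ hd
  · exact (Ideal.IsMaximal.map_of_surjective_of_ker_le Ideal.Quotient.mk_surjective
      (Ideal.mk_ker.trans_le (IsLocalRing.le_maximalIdeal hJtop))).ne_top

theorem mem_of_map_mem {L C : Type u} [CommRing L] [IsLocalRing L] [CommRing C] [IsLocalRing C]
    (g : L →+* C) (hflat : g.Flat) (hmax : (maximalIdeal L).map g = maximalIdeal C)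
    {J : Ideal L} {z : L} (h : g z ∈ J.map g) : z ∈ J := by
  algebraize [g]
  haveI : Module.Flat L C := hflat
  haveI : IsLocalHom (algebraMap L C) :=
    ((IsLocalRing.local_hom_TFAE (algebraMap L C)).out 0 2 rfl rfl).mpr hmax.le
  haveI : Module.FaithfullyFlat L C := Module.FaithfullyFlat.of_flat_of_isLocalHom
  rwa [← Ideal.comap_map_eq_self_of_faithfullyFlat (B := C) J]

section

variable (R : Type u) [CommRing R] [IsLocalRing R] (K : Type u) [Field K]
  [Algebra (ResidueField R) K] [Algebra R K] [IsScalarTower R (ResidueField R) K]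
  [Algebra.IsSeparable (ResidueField R) K]

/-- The colimit is faithfully flat over a stage localized at its kernel, compatibly with the
maximal ideals. -/
theorem exists_local_stage [IsNoetherianRing R] [IsLocalRing (Col R K)] (X : Obj R K) :
    ∃ (L : Type u) (_ : CommRing L) (_ : IsLocalRing L) (_ : IsNoetherianRing L) (g : L →+* Col R K)
      (j : X.R →+* L), g.comp j = (ι X).toRingHom ∧ g.Flat ∧
      (maximalIdeal L).map g = maximalIdeal (Col R K) := by
  haveI hq : (RingHom.ker X.φ).IsPrime := RingHom.ker_isPrime _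
  have hu : ∀ t : (RingHom.ker X.φ).primeCompl, IsUnit ((ι X).toRingHom t.1) := fun t =>
    isUnit_of_isUnit_ε (by
      show IsUnit (ε R K (ι X t.1))
      rw [ε_ι]
      exact isUnit_iff_ne_zero.mpr t.2)
  haveI : IsNoetherianRing X.R := Algebra.FiniteType.isNoetherianRing R X.R
  let g : Localization.AtPrime (RingHom.ker X.φ) →+* Col R K :=
    IsLocalization.lift (M := (RingHom.ker X.φ).primeCompl) hu
  have hg : g.comp (algebraMap X.R _) = (ι X).toRingHom := IsLocalization.lift_comp hu
  refine ⟨Localization.AtPrime (RingHom.ker X.φ), inferInstance, inferInstance,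
    IsLocalization.isNoetherianRing (RingHom.ker X.φ).primeCompl _ inferInstance, g,
    algebraMap X.R _, hg, ?_, ?_⟩
  · letI : Algebra X.R (Col R K) := (ι X).toRingHom.toAlgebra
    letI : Algebra (Localization.AtPrime (RingHom.ker X.φ)) (Col R K) := g.toAlgebra
    haveI : IsScalarTower X.R (Localization.AtPrime (RingHom.ker X.φ)) (Col R K) :=
      IsScalarTower.of_algebraMap_smul (A := Localization.AtPrime (RingHom.ker X.φ)) fun z c => by
        show g (algebraMap X.R _ z) * c = (ι X).toRingHom z * c
        rw [← RingHom.comp_apply g, hg]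
    haveI : Module.Flat X.R (Col R K) := flat_ι X
    exact (Module.flat_iff_of_isLocalization (R := X.R) (Localization.AtPrime (RingHom.ker X.φ))
      (RingHom.ker X.φ).primeCompl (M := Col R K)).mpr inferInstance
  · refine le_antisymm ?_ ?_
    · rw [← Localization.AtPrime.map_eq_maximalIdeal, Ideal.map_map, hg, Ideal.map_le_iff_le_comap]
      intro z hz
      show ¬ IsUnit (ι X z)
      intro hzu
      have := hzu.map (ε R K)
      rw [ε_ι, show X.φ z = 0 from hz] at this
      exact not_isUnit_zero this
    · rw [maximalIdeal_col, show algebraMap R (Col R K) =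
        g.comp ((algebraMap X.R _).comp (algebraMap R X.R)) by
          rw [← RingHom.comp_assoc, hg]
          exact (ι X).comp_algebraMap.symm, ← Ideal.map_map]
      refine Ideal.map_mono (Ideal.map_le_iff_le_comap.mpr fun r hr => ?_)
      rw [Ideal.mem_comap, RingHom.comp_apply,
        IsLocalization.AtPrime.to_map_mem_maximal_iff _ (RingHom.ker X.φ)]
      show X.φ _ = 0
      rw [AlgHom.commutes]
      exact algebraMap_eq_zero_of_mem R K hr

theorem isNoetherianRing_col [IsNoetherianRing R] : IsNoetherianRing (Col R K) := by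
  classical
  haveI := isLocalRing_col R K
  refine Groth.L02.Gonflement.isNoetherianRing_of_closed ?_ fun I hI b hb => ?_
  · rw [maximalIdeal_col]
    exact Ideal.FG.map (IsNoetherian.noetherian (maximalIdeal R)) _
  obtain ⟨s, hs⟩ := hI
  obtain ⟨X, hX⟩ := exists_lift_finset (insert b s)
  choose y hy using hX
  let J : Ideal X.R := Ideal.span (Set.range fun c : s => y c.1 (Finset.mem_insert_of_mem c.2))
  have hJ : J.map (ι X).toRingHom = I := by
    rw [Ideal.map_span, ← Set.range_comp]
    have e : ((ι X).toRingHom ∘ fun c : s => y c.1 (Finset.mem_insert_of_mem c.2)) = Subtype.val :=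
      funext fun c => hy _ _
    rw [e, Subtype.range_coe_subtype]
    exact hs
  obtain ⟨L, _, _, _, g, j, hgj, hflat, hmax⟩ := exists_local_stage R K X
  have hI' : (J.map j).map g = I := by rw [Ideal.map_map, hgj, hJ]
  rw [← hI', ← hy b (Finset.mem_insert_self _ _), ← hgj]
  refine Ideal.mem_map_of_mem g (mem_of_forall_mem_sup_pow fun k => ?_)
  refine mem_of_map_mem g hflat hmax ?_
  rw [Ideal.map_sup, Ideal.map_pow, hI', hmax, ← RingHom.comp_apply g j, hgj, hy]
  exact hb k

end

theorem isNoetherianRing_iff_strict (R : Type u) [CommRing R] [IsLocalRing R] (S : Type u)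
    [CommRing S] [IsLocalRing S] [Algebra R S] [IsLocalHom (algebraMap R S)]
    [hS : Hensel.IsStrictHenselization R S] : IsNoetherianRing R ↔ IsNoetherianRing S := by
  haveI : Algebra.IsSeparable (ResidueField R) (ResidueField S) := hS.isSepClosure.separable
  obtain ⟨e⟩ := strictHenselization_algEquiv R S
  refine ⟨fun _ => ?_, fun _ => ?_⟩
  · haveI := isNoetherianRing_col R (ResidueField S)
    exact isNoetherianRing_of_ringEquiv _ e.toRingEquiv
  · haveI := flat_of_isStrictHenselization R S
    haveI : Module.FaithfullyFlat R S := faithfullyFlat_of_flat_local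
    exact Groth.L19.isNoetherianRing_of_faithfullyFlat R S

theorem ringKrullDim_strict (R : Type u) [CommRing R] [IsLocalRing R] (S : Type u)
    [CommRing S] [IsLocalRing S] [Algebra R S] [IsLocalHom (algebraMap R S)]
    [hS : Hensel.IsStrictHenselization R S] : ringKrullDim S = ringKrullDim R := by
  obtain ⟨e⟩ := strictHenselization_algEquiv R S
  haveI := flat_of_isStrictHenselization R S
  haveI : Module.FaithfullyFlat R S := faithfullyFlat_of_flat_local
  refine le_antisymm ?_ (le_ringKrullDim_of_faithfullyFlat R S)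
  rw [← ringKrullDim_eq_of_ringEquiv e.toRingEquiv]
  exact ringKrullDim_le

theorem henselization_algEquiv (R : Type u) [CommRing R] [IsLocalRing R] (S : Type u)
    [CommRing S] [IsLocalRing S] [Algebra R S] [IsLocalHom (algebraMap R S)]
    [Hensel.IsHenselization R S] : Nonempty (Col R (ResidueField R) ≃ₐ[R] S) := by
  obtain ⟨e, -⟩ := isPairHenselization_algEquiv R (maximalIdeal R)
    (isPairHenselization R (maximalIdeal R)) (isPairHenselization_of_isHenselization (S := S))
  exact ⟨e⟩

theorem isNoetherianRing_iff_hens (R : Type u) [CommRing R] [IsLocalRing R] (S : Type u)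
    [CommRing S] [IsLocalRing S] [Algebra R S] [IsLocalHom (algebraMap R S)]
    [Hensel.IsHenselization R S] : IsNoetherianRing R ↔ IsNoetherianRing S := by
  obtain ⟨e⟩ := henselization_algEquiv R S
  refine ⟨fun _ => ?_, fun _ => ?_⟩
  · haveI := isNoetherianRing_col R (ResidueField R)
    exact isNoetherianRing_of_ringEquiv _ e.toRingEquiv
  · haveI := flat_of_isHenselization R S
    haveI : Module.FaithfullyFlat R S := faithfullyFlat_of_flat_local
    exact Groth.L19.isNoetherianRing_of_faithfullyFlat R S

theorem ringKrullDim_hens (R : Type u) [CommRing R] [IsLocalRing R] (S : Type u)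
    [CommRing S] [IsLocalRing S] [Algebra R S] [IsLocalHom (algebraMap R S)]
    [Hensel.IsHenselization R S] : ringKrullDim S = ringKrullDim R := by
  obtain ⟨e⟩ := henselization_algEquiv R S
  haveI := flat_of_isHenselization R S
  haveI : Module.FaithfullyFlat R S := faithfullyFlat_of_flat_local
  refine le_antisymm ?_ (le_ringKrullDim_of_faithfullyFlat R S)
  rw [← ringKrullDim_eq_of_ringEquiv e.toRingEquiv]
  exact ringKrullDim_le

end Groth.L05.Henselization
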