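import Groth.Agent.L05.Hensel.Gabber
import Groth.Prelude.Def_Hens2
import Mathlib.Algebra.Colimit.DirectLimit
import Mathlib.Algebra.Polynomial.Lifts
import Mathlib.RingTheory.Henselian

/-!
# Henselization commutes with filtered colimits
-/

open Polynomial

namespace Groth.L05.Henselization

universe u

variable {ι : Type u} [Preorder ι] [IsDirectedOrder ι] [Nonempty ι]
  {B : ι → Type u} [∀ i, CommRing (B i)] {g : ∀ i j : ι, i ≤ j → (B i →+* B j)}
  [DirectedSystem B (fun i j h => g i j h)]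

theorem exists_lift_finset_dirLim (s : Finset (DirectLimit B g)) :
    ∃ i, ∀ b ∈ s, b ∈ (DirectLimit.Ring.of B g i).range := by
  classical
  induction s using Finset.induction with
  | empty => exact ⟨Classical.arbitrary ι, by simp⟩
  | insert b s hb ih =>
    obtain ⟨i, hi⟩ := ih
    obtain ⟨j, y, rfl⟩ := DirectLimit.exists_eq_mk _ b
    obtain ⟨k, hik, hjk⟩ := exists_ge_ge i j
    refine ⟨k, fun c hc => ?_⟩
    rcases Finset.mem_insert.mp hc with rfl | hc
    · exact ⟨g j k hjk y, DirectLimit.Ring.of_f hjk y⟩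
    · obtain ⟨x, hx⟩ := hi c hc
      exact ⟨g i k hik x, (DirectLimit.Ring.of_f hik x).trans hx⟩

theorem exists_mem_of_of_mem (J : ∀ i, Ideal (B i)) (hJ : ∀ i j h, (J i).map (g i j h) ≤ J j)
    {j : ι} {x : B j}
    (hx : DirectLimit.Ring.of B g j x ∈ ⨆ i, (J i).map (DirectLimit.Ring.of B g i)) :
    ∃ (l : ι) (h : j ≤ l), g j l h x ∈ J l := by
  have hmono : ∀ i k (h : i ≤ k) y, y ∈ J i → g i k h y ∈ J k := fun i k h y hy =>
    hJ i k h (Ideal.mem_map_of_mem _ hy)
  let K : Ideal (DirectLimit B g) :=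
    { carrier := {z | ∃ i, ∃ y ∈ J i, DirectLimit.Ring.of B g i y = z}
      zero_mem' := ⟨Classical.arbitrary ι, 0, zero_mem _, map_zero _⟩
      add_mem' := by
        rintro _ _ ⟨i, y, hy, rfl⟩ ⟨k, z, hz, rfl⟩
        obtain ⟨l, hil, hkl⟩ := exists_ge_ge i k
        exact ⟨l, _, add_mem (hmono _ _ hil y hy) (hmono _ _ hkl z hz), by
          rw [map_add, DirectLimit.Ring.of_f, DirectLimit.Ring.of_f]⟩
      smul_mem' := by
        rintro c _ ⟨i, y, hy, rfl⟩
        obtain ⟨k, c, rfl⟩ := DirectLimit.exists_eq_mk _ c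
        obtain ⟨l, hil, hkl⟩ := exists_ge_ge i k
        exact ⟨l, _, Ideal.mul_mem_left _ (g k l hkl c) (hmono _ _ hil y hy), by
          rw [map_mul, DirectLimit.Ring.of_f, DirectLimit.Ring.of_f, smul_eq_mul]; rfl⟩ }
  have hle : (⨆ i, (J i).map (DirectLimit.Ring.of B g i)) ≤ K :=
    iSup_le fun i => Ideal.map_le_iff_le_comap.mpr fun y hy => ⟨i, y, hy, rfl⟩
  obtain ⟨i, y, hy, hxy⟩ := hle hx
  obtain ⟨l, hil, hjl, e⟩ := Quotient.exact hxy
  exact ⟨l, hjl, e ▸ hmono _ _ hil y hy⟩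

theorem henselianRing_dirLim (J : ∀ i, Ideal (B i)) (hJ : ∀ i j h, (J i).map (g i j h) ≤ J j)
    (hh : ∀ i, HenselianRing (B i) (J i)) :
    HenselianRing (DirectLimit B g) (⨆ i, (J i).map (DirectLimit.Ring.of B g i)) := by
  classical
  refine ⟨fun x hx => Ideal.mem_jacobson_bot.mpr fun y => ?_, fun f hf a₀ h1 h2 => ?_⟩
  · obtain ⟨i, hi⟩ := exists_lift_finset_dirLim {x, y}
    obtain ⟨a, rfl⟩ := hi x (by simp)
    obtain ⟨b, rfl⟩ := hi y (by simp)
    obtain ⟨l, hl, hal⟩ := exists_mem_of_of_mem J hJ hx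
    have := (Ideal.mem_jacobson_bot.mp ((hh l).jac hal) (g i l hl b)).map (DirectLimit.Ring.of B g l)
    rwa [map_add, map_mul, DirectLimit.Ring.of_f, DirectLimit.Ring.of_f, map_one] at this
  obtain ⟨c, hc⟩ := h2.exists_left_inv
  obtain ⟨c, rfl⟩ := Ideal.Quotient.mk_surjective c
  rw [← map_mul, ← map_one (Ideal.Quotient.mk _), Ideal.Quotient.eq] at hc
  obtain ⟨i, hi⟩ := exists_lift_finset_dirLim
    (insert c (insert a₀ ((Finset.range (f.natDegree + 1)).image f.coeff)))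
  obtain ⟨c₀, rfl⟩ := hi c (by simp)
  obtain ⟨b₀, rfl⟩ := hi a₀ (by simp)
  have hlift : f ∈ Polynomial.lifts (DirectLimit.Ring.of B g i) := by
    rw [Polynomial.lifts_iff_coeff_lifts]
    intro m
    by_cases hm : m ≤ f.natDegree
    · exact hi _ (Finset.mem_insert_of_mem (Finset.mem_insert_of_mem
        (Finset.mem_image.mpr ⟨m, Finset.mem_range.mpr (by omega), rfl⟩)))
    · exact ⟨0, by rw [map_zero, Polynomial.coeff_eq_zero_of_natDegree_lt (by omega)]⟩
  obtain ⟨F, hF, -, hFm⟩ := Polynomial.lifts_and_natDegree_eq_and_monic hlift hf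
  rw [← hF, Polynomial.derivative_map, Polynomial.eval_map_apply] at hc
  rw [← hF, Polynomial.eval_map_apply] at h1
  rw [← map_mul, ← map_one (DirectLimit.Ring.of B g i), ← map_sub] at hc
  obtain ⟨l₁, hl₁, e₁⟩ := exists_mem_of_of_mem J hJ h1
  obtain ⟨l₂, hl₂, e₂⟩ := exists_mem_of_of_mem J hJ hc
  obtain ⟨l, h₁l, h₂l⟩ := exists_ge_ge l₁ l₂
  have hil : i ≤ l := hl₁.trans h₁l
  have hmap : ∀ k (hik : i ≤ k) (hkl : k ≤ l) z, g i k hik z ∈ J k → g i l hil z ∈ J l := by
    intro k hik hkl z hz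
    have := hJ k l hkl (Ideal.mem_map_of_mem _ hz)
    rwa [show g k l hkl (g i k hik z) = g i l hil z from
      DirectedSystem.map_map' (f := fun i j h => g i j h) hik hkl z] at this
  have e₁' := hmap l₁ hl₁ h₁l _ e₁
  have e₂' := hmap l₂ hl₂ h₂l _ e₂
  rw [← Polynomial.eval_map_apply] at e₁'
  rw [map_sub, map_one, map_mul, ← Polynomial.eval_map_apply, ← Polynomial.derivative_map] at e₂'
  obtain ⟨a, ha, hab⟩ := (hh l).is_henselian (F.map (g i l hil)) (hFm.map _) (g i l hil b₀) e₁' (by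
    refine IsUnit.of_mul_eq_one_right (Ideal.Quotient.mk _ (g i l hil c₀)) ?_
    rw [← map_mul, ← map_one (Ideal.Quotient.mk _), Ideal.Quotient.eq]
    exact e₂')
  refine ⟨DirectLimit.Ring.of B g l a, ?_, ?_⟩
  · rw [Polynomial.IsRoot, ← hF, show F.map (DirectLimit.Ring.of B g i) =
      (F.map (g i l hil)).map (DirectLimit.Ring.of B g l) by
        rw [Polynomial.map_map]
        congr 1
        exact RingHom.ext fun z => (DirectLimit.Ring.of_f hil z).symm,
      Polynomial.eval_map_apply, ha, map_zero]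
  · rw [← DirectLimit.Ring.of_f hil b₀, ← map_sub]
    exact Ideal.mem_iSup_of_mem l (Ideal.mem_map_of_mem _ hab)

end Groth.L05.Henselization
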