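import Groth.Agent.L05.Henselization.Local
import Mathlib.RingTheory.IntegralClosure.IsIntegralClosure.Basic
import Mathlib.RingTheory.TensorProduct.Maps

/-!
# Henselization commutes with integral base change
-/

open TensorProduct IsLocalRing

namespace Groth.L05.Henselization

universe u

variable {A B Ah : Type u} [CommRing A] [CommRing B] [Algebra A B] [CommRing Ah] [Algebra A Ah]

theorem isPairHenselization_tensor (I : Ideal A) (J : Ideal B) (hIJ : I.map (algebraMap A B) ≤ J)
    (hrad : J ≤ (I.map (algebraMap A B)).radical) [Algebra.IsIntegral A B]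
    (hA : Hens2.IsPairHenselization A I Ah) :
    Hens2.IsPairHenselization B J (B ⊗[A] Ah) := by
  letI : Algebra Ah (B ⊗[A] Ah) := Algebra.TensorProduct.rightAlgebra
  haveI : Algebra.IsIntegral Ah (B ⊗[A] Ah) := by
    refine ⟨fun z => ?_⟩
    induction z using TensorProduct.induction_on with
    | zero => exact isIntegral_zero
    | add x y hx hy => exact hx.add hy
    | tmul b s =>
      rw [show b ⊗ₜ[A] s = (b ⊗ₜ[A] (1 : Ah)) * algebraMap Ah (B ⊗[A] Ah) s by
        show _ = b ⊗ₜ[A] (1 : Ah) * ((1 : B) ⊗ₜ[A] s)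
        simp]
      refine IsIntegral.mul ?_ isIntegral_algebraMap
      obtain ⟨p, hp, hpb⟩ := Algebra.IsIntegral.isIntegral (R := A) b
      refine ⟨p.map (algebraMap A Ah), hp.map _, ?_⟩
      rw [Polynomial.eval₂_map]
      have e : (algebraMap Ah (B ⊗[A] Ah)).comp (algebraMap A Ah) =
          (Algebra.TensorProduct.includeLeftRingHom).comp (algebraMap A B) :=
        RingHom.ext fun a => by
          show (1 : B) ⊗ₜ[A] algebraMap A Ah a = algebraMap A B a ⊗ₜ[A] (1 : Ah)
          rw [Algebra.algebraMap_eq_smul_one, Algebra.algebraMap_eq_smul_one, TensorProduct.tmul_smul,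
            TensorProduct.smul_tmul']
      rw [e]
      exact (Polynomial.hom_eval₂ p (algebraMap A B) Algebra.TensorProduct.includeLeftRingHom b).symm.trans
        (by rw [hpb, map_zero])
  have hI : (I.map (algebraMap A Ah)).map (algebraMap Ah (B ⊗[A] Ah)) =
      (I.map (algebraMap A B)).map (algebraMap B (B ⊗[A] Ah)) := by
    rw [Ideal.map_map, Ideal.map_map]
    congr 1
    exact RingHom.ext fun a => by
      show (1 : B) ⊗ₜ[A] algebraMap A Ah a = algebraMap A B a ⊗ₜ[A] (1 : Ah)
      rw [Algebra.algebraMap_eq_smul_one, Algebra.algebraMap_eq_smul_one, TensorProduct.tmul_smul,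
        TensorProduct.smul_tmul']
  refine ⟨?_, fun C _ K f hCK hfK => ?_⟩
  · haveI := hA.1
    haveI h1 := Groth.L05.henselianRing_map_of_isIntegral (I.map (algebraMap A Ah)) (B ⊗[A] Ah)
    rw [hI] at h1
    haveI := Groth.L05.henselianRing_radical ((I.map (algebraMap A B)).map (algebraMap B (B ⊗[A] Ah)))
    refine Groth.L05.henselianRing_mono (J := ((I.map (algebraMap A B)).map
      (algebraMap B (B ⊗[A] Ah))).radical) ?_
    exact (Ideal.map_mono hrad).trans (Ideal.map_radical_le _)
  · letI : Algebra A C := (f.comp (algebraMap A B)).toAlgebra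
    obtain ⟨g, hg, hgu⟩ := hA.2 C K (algebraMap A C) hCK (by
      show I.map (f.comp (algebraMap A B)) ≤ K
      rw [← Ideal.map_map]
      exact (Ideal.map_mono hIJ).trans hfK)
    let f' : B →ₐ[A] C := { f with commutes' := fun a => rfl }
    let g' : Ah →ₐ[A] C := { g with commutes' := fun a => DFunLike.congr_fun hg a }
    let φ := Algebra.TensorProduct.lift f' g' fun _ _ => Commute.all _ _
    refine ⟨φ.toRingHom, RingHom.ext fun b => ?_, fun φ₂ hφ₂ => ?_⟩
    · show φ (b ⊗ₜ[A] (1 : Ah)) = f b
      simp [φ, f']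
    · have h1 : φ₂.comp Algebra.TensorProduct.includeRight.toRingHom = g := hgu _ <| RingHom.ext fun a => by
        show φ₂ ((1 : B) ⊗ₜ[A] algebraMap A Ah a) = f (algebraMap A B a)
        rw [Algebra.algebraMap_eq_smul_one a, TensorProduct.tmul_smul, TensorProduct.smul_tmul',
          ← Algebra.algebraMap_eq_smul_one]
        exact DFunLike.congr_fun hφ₂ (algebraMap A B a)
      refine RingHom.ext fun z => ?_
      induction z using TensorProduct.induction_on with
      | zero => simp
      | add x y hx hy => rw [map_add, map_add, hx, hy]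
      | tmul b s =>
        rw [show b ⊗ₜ[A] s = (b ⊗ₜ[A] (1 : Ah)) * ((1 : B) ⊗ₜ[A] s) by simp, map_mul, map_mul]
        have hb : φ₂ (b ⊗ₜ[A] (1 : Ah)) = f b := DFunLike.congr_fun hφ₂ b
        have hs : φ₂ ((1 : B) ⊗ₜ[A] s) = g s := DFunLike.congr_fun h1 s
        rw [hb, hs]
        simp [φ, f', g']

theorem le_radical_map_maximalIdeal (A B : Type u) [CommRing A] [IsLocalRing A] [CommRing B]
    [IsLocalRing B] [Algebra A B] [Algebra.IsIntegral A B] :
    maximalIdeal B ≤ ((maximalIdeal A).map (algebraMap A B)).radical := by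
  rw [Ideal.radical_eq_sInf, le_sInf_iff]
  rintro P ⟨hP, hPp⟩
  have hPmax : P.IsMaximal := by
    refine Ideal.isMaximal_of_isIntegral_of_isMaximal_comap (R := A) P ?_
    have := (maximalIdeal.isMaximal A).eq_of_le (Ideal.comap_ne_top _ hPp.ne_top)
      (Ideal.map_le_iff_le_comap.mp hP)
    exact this ▸ maximalIdeal.isMaximal A
  exact (eq_maximalIdeal hPmax).ge

end Groth.L05.Henselization
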