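import Groth.Agent.L05.Henselization.StrictDef
import Groth.Agent.L05.Henselization.Local
import Mathlib.FieldTheory.IsSepClosed

/-!
# Strict henselization of a local ring
-/

open IsLocalRing Polynomial

namespace Groth.L05.Henselization

universe u

section

variable (R : Type u) [CommRing R] [IsLocalRing R] (K : Type u) [Field K]
  [Algebra (ResidueField R) K] [Algebra R K] [IsScalarTower R (ResidueField R) K]

theorem maximalIdeal_col [IsLocalRing (Col R K)] [Algebra.IsSeparable (ResidueField R) K] :
    maximalIdeal (Col R K) = (maximalIdeal R).map (algebraMap R (Col R K)) := by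
  rw [← ker_ε_field]
  haveI := RingHom.ker_isMaximal_of_surjective (ε R K) (ε_surjective_of_separable R K)
  exact (eq_maximalIdeal inferInstance).symm

theorem henselianLocalRing_col [IsLocalRing (Col R K)] [Algebra.IsSeparable (ResidueField R) K] :
    HenselianLocalRing (Col R K) := by
  haveI : HenselianRing (Col R K) (maximalIdeal (Col R K)) := by
    rw [maximalIdeal_col, ← ker_ε_field]
    exact henselianRing_ker_ε (ε_surjective_of_separable R K)
  exact Groth.L05.henselianLocalRing_of_henselianRing

theorem isLocalHom_col [IsLocalRing (Col R K)] [Algebra.IsSeparable (ResidueField R) K] :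
    IsLocalHom (algebraMap R (Col R K)) :=
  ((IsLocalRing.local_hom_TFAE (algebraMap R (Col R K))).out 0 2 rfl rfl).mpr
    (maximalIdeal_col R K).ge

/-- The residue field of the colimit. -/
noncomputable def residueEquiv [IsLocalRing (Col R K)] [Algebra.IsSeparable (ResidueField R) K] :
    ResidueField (Col R K) ≃+* K :=
  (Ideal.quotEquivOfEq (show maximalIdeal (Col R K) = RingHom.ker (ε R K).toRingHom by
    rw [maximalIdeal_col, ← ker_ε_field]; rfl)).trans
    (RingHom.quotientKerEquivOfSurjective (f := (ε R K).toRingHom) (ε_surjective_of_separable R K))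

theorem residueEquiv_residue [IsLocalRing (Col R K)] [Algebra.IsSeparable (ResidueField R) K]
    (x : Col R K) : residueEquiv R K (residue _ x) = ε R K x := rfl

theorem isStrictHenselization_col [IsSepClosed K] [Algebra.IsSeparable (ResidueField R) K]
    [IsLocalRing (Col R K)] [IsLocalHom (algebraMap R (Col R K))] :
    Hensel.IsStrictHenselization R (Col R K) where
  henselian := henselianLocalRing_col R K
  isSepClosure := by
    have hcomp : ∀ r : ResidueField R, residueEquiv R K
        (algebraMap (ResidueField R) (ResidueField (Col R K)) r) = algebraMap (ResidueField R) K r := by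
      intro r
      obtain ⟨r, rfl⟩ := residue_surjective r
      show residueEquiv R K (residue _ (algebraMap R (Col R K) r)) = _
      rw [residueEquiv_residue, AlgHom.commutes,
        IsScalarTower.algebraMap_apply R (ResidueField R) K, ResidueField.algebraMap_eq]
    let e : ResidueField (Col R K) ≃ₐ[ResidueField R] K :=
      AlgEquiv.ofRingEquiv (f := residueEquiv R K) hcomp
    refine ⟨IsSepClosed.of_exists_root _ fun p hpm hirr hsep => ?_,
      AlgEquiv.Algebra.isSeparable e.symm⟩
    obtain ⟨x, hx⟩ := IsSepClosed.exists_root (p.map (residueEquiv R K).toRingHom)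
      (by rw [Polynomial.degree_map]; exact hirr.degree_pos.ne')
      (hsep.map (f := (residueEquiv R K).toRingHom))
    refine ⟨(residueEquiv R K).symm x, (residueEquiv R K).injective ?_⟩
    rw [map_zero, ← hx.eq_zero]
    rw [Polynomial.eval_map, show (residueEquiv R K) (p.eval ((residueEquiv R K).symm x)) =
      (residueEquiv R K).toRingHom (p.eval ((residueEquiv R K).symm x)) from rfl,
      ← Polynomial.eval₂_at_apply]
    simp
  universal T _ _ f _ τ hτ := by
    letI : Algebra R T := f.toAlgebra
    let τ' : K →ₐ[R] T ⧸ maximalIdeal T :=
      { τ.comp (residueEquiv R K).symm.toRingHom with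
        commutes' := fun r => by
          show τ ((residueEquiv R K).symm (algebraMap R K r)) = residue T (f r)
          rw [← (ε R K).commutes r, ← residueEquiv_residue, RingEquiv.symm_apply_apply]
          exact DFunLike.congr_fun hτ (residue R r) }
    have key : ∀ x : Col R K, τ' (ε R K x) = τ (residue _ x) := fun x => by
      show τ ((residueEquiv R K).symm (ε R K x)) = _
      rw [← residueEquiv_residue, RingEquiv.symm_apply_apply]
    obtain ⟨g, hg, hgu⟩ := existsUnique_algHom (K := K) (maximalIdeal T) τ'
    refine ⟨g.toRingHom, ⟨g.comp_algebraMap, fun x => (DFunLike.congr_fun hg x).trans (key x)⟩, ?_⟩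
    rintro g₂ ⟨hg₂, hres⟩
    let g₂' : Col R K →ₐ[R] T := { g₂ with commutes' := fun a => DFunLike.congr_fun hg₂ a }
    rw [← hgu g₂' (AlgHom.ext fun x => (hres x).trans (key x).symm)]

end

theorem exists_isStrictHenselization (R : Type u) [CommRing R] [IsLocalRing R] :
    ∃ (S : Type u) (_ : CommRing S) (_ : IsLocalRing S) (_ : Algebra R S)
      (_ : IsLocalHom (algebraMap R S)), Hensel.IsStrictHenselization R S := by
  let K := SeparableClosure (ResidueField R)
  letI : Algebra R K := ((algebraMap (ResidueField R) K).comp (algebraMap R (ResidueField R))).toAlgebra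
  haveI : IsScalarTower R (ResidueField R) K := IsScalarTower.of_algebraMap_eq' rfl
  haveI := isLocalRing_col R K
  haveI := isLocalHom_col R K
  exact ⟨Col R K, inferInstance, inferInstance, inferInstance, inferInstance,
    isStrictHenselization_col R K⟩

end Groth.L05.Henselization
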