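import Groth.Agent.L05.Henselization.UnibranchScheme
import Mathlib.RingTheory.Unramified.LocalStructure
import Mathlib.RingTheory.QuasiFinite.Basic
import Mathlib.RingTheory.LocalProperties.Reduced
import Mathlib.RingTheory.Etale.StandardEtale
import Mathlib.AlgebraicGeometry.Morphisms.FormallyUnramified

/-!
# Unramified morphisms over integral geometrically unibranch schemes
-/

set_option autoImplicit false
universe u

open CategoryTheory AlgebraicGeometry IsLocalRing
open Groth.L05.Henselization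

namespace Groth.L05.Henselization.Branches

/-- All localizations of `R` at primes are reduced and geometrically unibranch. -/
def LocGU (R : Type u) [CommRing R] : Prop :=
  ∀ (p : Ideal R) [p.IsPrime], ∃ (A : Type u) (_ : CommRing A) (_ : Algebra R A) (_ : IsLocalRing A),
    IsLocalization.AtPrime A p ∧ IsReduced A ∧ CAlg2.IsGeomUnibranch A

theorem isDomain_localization_of_etale {R C : Type u} [CommRing R] [CommRing C] [Algebra R C]
    [Algebra.Etale R C] (hR : LocGU R) (P : Ideal C) [P.IsPrime] : IsDomain (Localization.AtPrime P) := by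
  obtain ⟨A, _, _, _, hA, _, hg⟩ := hR (P.under R)
  haveI := hA
  let B := Localization.AtPrime P
  have hu : ∀ t : (P.under R).primeCompl, IsUnit (algebraMap R B t.1) := fun t => by
    rw [IsScalarTower.algebraMap_apply R C B]
    exact (IsLocalization.AtPrime.isUnit_to_map_iff B P _).mpr t.2
  letI : Algebra A B := (IsLocalization.lift (M := (P.under R).primeCompl) hu).toAlgebra
  haveI : IsScalarTower R A B :=
    IsScalarTower.of_algebraMap_eq fun x => (IsLocalization.lift_eq hu x).symm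
  haveI : IsLocalHom (algebraMap A B) := by
    refine ((IsLocalRing.local_hom_TFAE _).out 0 2 rfl rfl).mpr ?_
    rw [← IsLocalization.AtPrime.map_eq_maximalIdeal (P.under R) A, Ideal.map_map,
      ← IsScalarTower.algebraMap_eq, Ideal.map_le_iff_le_comap]
    intro r hr
    rw [Ideal.mem_comap, IsScalarTower.algebraMap_apply R C B]
    exact (IsLocalization.AtPrime.to_map_mem_maximal_iff B P _).mpr hr
  haveI : Algebra.WeaklyEtale A B :=
    Groth.L20.weaklyEtale_of_isLocalization (P.under R).primeCompl P.primeCompl A B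
  exact (isDomain_geomUnibranch_of_weaklyEtale A B hg).1

theorem exists_away_isDomain {R C : Type u} [CommRing R] [IsDomain R] [CommRing C] [Algebra R C]
    [Algebra.Etale R C] (hR : LocGU R) (P : Ideal C) [P.IsPrime] :
    ∃ h ∉ P, IsDomain (Localization.Away h) := by
  classical
  haveI hred : IsReduced C :=
    isReduced_ofLocalizationMaximal C fun J _ => by
      haveI := isDomain_localization_of_etale hR J
      infer_instance
  have hfin : (minimalPrimes C).Finite := by
    refine (Algebra.QuasiFinite.finite_primesOver (S := C) (⊥ : Ideal R)).subset fun Q hQ => ?_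
    haveI := hQ.1.1
    refine ⟨hQ.1.1, ⟨le_antisymm bot_le fun r hr => ?_⟩⟩
    by_contra hr0
    obtain ⟨Q', hQ'le, hQ'p, hQ'o⟩ :=
      Ideal.exists_ideal_le_liesOver_of_le (p := (⊥ : Ideal R)) (q := Q.under R) Q bot_le
    have h := hQ.2 ⟨hQ'p, bot_le⟩ hQ'le
    have : r ∈ Q'.under R := h hr
    rw [← hQ'o.over] at this
    exact hr0 this
  obtain ⟨p0, hp0, hp0P⟩ := Ideal.exists_minimalPrimes_le (I := (⊥ : Ideal C)) (J := P) bot_le
  have huniq : ∀ Q ∈ minimalPrimes C, Q ≤ P → Q = p0 := by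
    haveI := isDomain_localization_of_etale hR P
    have key : ∀ Q ∈ minimalPrimes C, Q ≤ P →
        Q = (⊥ : Ideal (Localization.AtPrime P)).comap (algebraMap C _) := by
      intro Q hQ hQP
      haveI := hQ.1.1
      haveI := Ideal.IsPrime.comap (algebraMap C (Localization.AtPrime P)) (K := (⊥ : Ideal _))
      refine (hQ.2 ⟨inferInstance, bot_le⟩ fun x hx => ?_).antisymm fun x hx => ?_
      · obtain ⟨m, hm⟩ := (IsLocalization.map_eq_zero_iff P.primeCompl _ x).mp (Ideal.mem_bot.mp hx)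
        exact (Ideal.IsPrime.mem_or_mem inferInstance (hm ▸ Q.zero_mem : (m : C) * x ∈ Q)).resolve_left
          fun h => m.2 (hQP h)
      · obtain ⟨m, hm⟩ := (IsLocalization.map_eq_zero_iff P.primeCompl _ x).mp (Ideal.mem_bot.mp hx)
        exact (Ideal.IsPrime.mem_or_mem inferInstance (hm ▸ Q.zero_mem : (m : C) * x ∈ Q)).resolve_left
          fun h => m.2 (hQP h)
    exact fun Q hQ hQP => (key Q hQ hQP).trans (key p0 hp0 hp0P).symm
  let T := hfin.toFinset.erase p0
  have hex : ∀ Q : T, ∃ x, x ∈ Q.1 ∧ x ∉ P := fun Q => by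
    obtain ⟨hne, hQ⟩ := Finset.mem_erase.mp Q.2
    have : ¬ Q.1 ≤ P := fun hle => hne (huniq _ (hfin.mem_toFinset.mp hQ) hle)
    exact SetLike.not_le_iff_exists.mp this
  choose x hx using hex
  let h : C := ∏ Q : T, x Q
  have hP : h ∉ P := fun hh => by
    obtain ⟨Q, -, hQ⟩ := (Ideal.IsPrime.prod_mem_iff (p := P)).mp hh
    exact (hx Q).2 hQ
  refine ⟨h, hP, ?_⟩
  let L := Localization.Away h
  haveI : IsReduced L := inferInstance
  haveI := hp0.1.1
  have hdis : Disjoint (Submonoid.powers h : Set C) p0 :=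
    (Ideal.disjoint_powers_iff_notMem h (Ideal.IsPrime.isRadical inferInstance)).mpr fun hh => hP (hp0P hh)
  have hp' : (p0.map (algebraMap C L)).IsPrime :=
    IsLocalization.isPrime_of_isPrime_disjoint (.powers h) L p0 inferInstance hdis
  suffices hb : p0.map (algebraMap C L) = ⊥ by
    rw [hb] at hp'
    exact IsDomain.of_bot_isPrime L
  rw [eq_bot_iff, ← Submodule.zero_eq_bot, ← nilradical_eq_zero L, nilradical_eq_sInf]
  refine le_sInf fun Q (hQ : Q.IsPrime) => ?_
  haveI := hQ
  haveI := hQ.comap (algebraMap C L)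
  obtain ⟨M, hM, hMQ⟩ := Ideal.exists_minimalPrimes_le (I := (⊥ : Ideal C)) (J := Q.comap (algebraMap C L)) bot_le
  have hM' : M = p0 := by
    by_contra hne
    let QT : T := ⟨M, Finset.mem_erase.mpr ⟨hne, hfin.mem_toFinset.mpr hM⟩⟩
    have : h ∈ M := Ideal.mem_of_dvd M (Finset.dvd_prod_of_mem x (Finset.mem_univ QT)) (hx QT).1
    exact hQ.ne_top (Ideal.eq_top_of_isUnit_mem _ (hMQ this) (IsLocalization.Away.algebraMap_isUnit h))
  exact Ideal.map_le_iff_le_comap.mpr (hM' ▸ hMQ)

theorem exists_nbhd {R S : Type u} [CommRing R] [IsDomain R] [CommRing S] [Algebra R S]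
    [Algebra.FiniteType R S] [Algebra.FormallyUnramified R S] (hR : LocGU R) (Q : Ideal S) [Q.IsPrime] :
    ∃ g ∉ Q, Algebra.Etale R (Localization.Away g) ∨
      ∀ q : Ideal S, q.IsPrime → g ∉ q → q.under R ≠ ⊥ := by
  obtain ⟨g, hg, hC⟩ := Algebra.IsUnramifiedAt.exists_hasStandardEtaleSurjectionOn (R := R) Q
  obtain ⟨Pr, φ, hφ⟩ := hC
  let C := Pr.Ring
  let Sg := Localization.Away g
  have hdis : Disjoint (Submonoid.powers g : Set S) Q :=
    (Ideal.disjoint_powers_iff_notMem g (Ideal.IsPrime.isRadical inferInstance)).mpr hg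
  let Qg : Ideal Sg := Q.map (algebraMap S Sg)
  haveI hQg : Qg.IsPrime := IsLocalization.isPrime_of_isPrime_disjoint (.powers g) Sg Q inferInstance hdis
  let P : Ideal C := Qg.comap φ.toRingHom
  obtain ⟨h, hP, hdom⟩ := exists_away_isDomain hR P
  let Ch := Localization.Away h
  let L := Localization.Away (φ h)
  let ψ : Ch →ₐ[R] L := IsLocalization.Away.mapₐ Ch L φ h
  have hψ : Function.Surjective ψ := by
    intro z
    obtain ⟨n, a, ha⟩ := IsLocalization.Away.surj (φ h) z
    obtain ⟨c, rfl⟩ := hφ a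
    refine ⟨IsLocalization.mk' Ch c (⟨h ^ n, n, rfl⟩ : Submonoid.powers h), ?_⟩
    have hu : IsUnit (algebraMap Sg L (φ h) ^ n) := (IsLocalization.Away.algebraMap_isUnit (φ h)).pow n
    have hmap : ∀ x : C, ψ (algebraMap C Ch x) = algebraMap Sg L (φ x) := fun x => by
      show IsLocalization.Away.map Ch L φ.toRingHom h (algebraMap C Ch x) = _
      exact IsLocalization.map_eq _ x
    have h1 := hmap c
    have h2 := hmap (h ^ n)
    have h3 := congrArg ψ (IsLocalization.mk'_spec Ch c (⟨h ^ n, n, rfl⟩ : Submonoid.powers h))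
    rw [map_mul, h1, h2, map_pow, map_pow] at h3
    exact hu.mul_left_injective (h3.trans ha.symm)
  obtain ⟨n, s, hs⟩ := IsLocalization.Away.surj g (φ h)
  have hass : Associated (algebraMap S Sg s) (φ h) := by
    rw [← hs]
    exact (associated_mul_unit_right _ _ ((IsLocalization.Away.algebraMap_isUnit g).pow n)).symm
  haveI : IsLocalization.Away (algebraMap S Sg s) L := IsLocalization.Away.of_associated hass.symm
  haveI : IsLocalization.Away (g * s) L := mul_comm g s ▸ IsLocalization.Away.mul Sg L g s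
  have hgs : g * s ∉ Q := by
    refine Ideal.IsPrime.mul_notMem inferInstance hg fun hsQ => hP ?_
    have : φ h * algebraMap S Sg g ^ n ∈ Qg := hs ▸ Ideal.mem_map_of_mem _ hsQ
    exact (hQg.mem_or_mem this).resolve_right fun h' => hQg.ne_top
      (Ideal.eq_top_of_isUnit_mem _ h' ((IsLocalization.Away.algebraMap_isUnit g).pow n))
  refine ⟨g * s, hgs, ?_⟩
  let e : Localization.Away (g * s) ≃ₐ[S] L := IsLocalization.algEquiv (Submonoid.powers (g * s)) _ _
  haveI : Algebra.Etale C Ch := Algebra.Etale.of_isLocalizationAway h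
  haveI : Algebra.Etale R Ch := Algebra.Etale.comp R C Ch
  by_cases hinj : Function.Injective ψ
  · left
    exact Algebra.Etale.of_equiv ((AlgEquiv.ofBijective ψ ⟨hinj, hψ⟩).trans (e.symm.restrictScalars R))
  · right
    intro q hq hgq hq0
    have hdis' : Disjoint (Submonoid.powers (g * s) : Set S) q :=
      (Ideal.disjoint_powers_iff_notMem (g * s) hq.isRadical).mpr hgq
    let qL := q.map (algebraMap S L)
    haveI : qL.IsPrime := IsLocalization.isPrime_of_isPrime_disjoint (.powers (g * s)) L q hq hdis'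
    let q' := qL.comap ψ.toRingHom
    haveI : q'.IsPrime := Ideal.IsPrime.comap _
    have hq' : q'.under R = ⊥ := by
      rw [← hq0, ← IsLocalization.comap_map_of_isPrime_disjoint (.powers (g * s)) L hq hdis',
        Ideal.under_def, Ideal.under_def, Ideal.comap_comap, Ideal.comap_comap]
      congr 1
      exact ψ.comp_algebraMap.trans (IsScalarTower.algebraMap_eq R S L)
    haveI : (⊥ : Ideal Ch).IsPrime := Ideal.isPrime_bot
    have hb : (⊥ : Ideal Ch).under R = ⊥ :=
      le_bot_iff.mp ((Ideal.comap_mono bot_le).trans hq'.le)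
    have : (⊥ : Ideal Ch) = q' :=
      Algebra.QuasiFinite.eq_of_le_of_under_eq (R := R) _ _ bot_le (hb.trans hq'.symm)
    refine hinj ((injective_iff_map_eq_zero ψ).mpr fun x hx => ?_)
    have hxq : x ∈ q' := by
      show ψ x ∈ qL
      rw [hx]; exact qL.zero_mem
    rwa [← this, Ideal.mem_bot] at hxq

theorem etale_and_integral_of_unramified {X Y : Scheme.{u}} (f : X ⟶ Y)
    [IsIntegral Y] (hY : ∀ y : Y, CAlg2.IsGeomUnibranch (Y.presheaf.stalk y))
    [ConnectedSpace X] [LocallyOfFiniteType f] [FormallyUnramified f]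
    (hη : ∃ x : X, f.base x = genericPoint Y) :
    Etale f ∧ IsIntegral X ∧ ∀ x : X, CAlg2.IsGeomUnibranch (X.presheaf.stalk x) := by
  let η := genericPoint Y
  have hloc : ∀ x : X, ∃ U : X.Opens, x ∈ U ∧ (Etale (U.ι ≫ f) ∨ ∀ u ∈ U, f.base u ≠ η) := by
    intro x
    obtain ⟨V, hV, hxV, -⟩ := exists_isAffineOpen_mem_and_subset (X := Y) (U := ⊤) (x := f.base x) trivial
    obtain ⟨W, hW, hxW, hWV⟩ := exists_isAffineOpen_mem_and_subset (X := X) (U := f ⁻¹ᵁ V) (x := x) hxV
    let φ := f.appLE V W hWV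
    algebraize [φ.hom]
    haveI : Algebra.FiniteType Γ(Y, V) Γ(X, W) :=
      HasRingHomProperty.appLE @LocallyOfFiniteType f ‹_› ⟨V, hV⟩ ⟨W, hW⟩ hWV
    haveI : Algebra.FormallyUnramified Γ(Y, V) Γ(X, W) :=
      HasRingHomProperty.appLE @FormallyUnramified f ‹_› ⟨V, hV⟩ ⟨W, hW⟩ hWV
    haveI : Nonempty V := ⟨⟨_, hxV⟩⟩
    haveI : IsDomain Γ(Y, V) := IsIntegral.component_integral V
    have hR : LocGU Γ(Y, V) := by
      intro p hp
      have hy : hV.fromSpec ⟨p, hp⟩ ∈ V := by
        have h : hV.fromSpec ⟨p, hp⟩ ∈ Set.range hV.fromSpec := ⟨_, rfl⟩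
        rwa [hV.range_fromSpec] at h
      exact ⟨Y.presheaf.stalk (hV.fromSpec ⟨p, hp⟩), inferInstance,
        TopCat.Presheaf.algebra_section_stalk Y.presheaf ⟨hV.fromSpec ⟨p, hp⟩, hy⟩, inferInstance,
        hV.isLocalization_stalk' ⟨p, hp⟩ hy, inferInstance, hY _⟩
    obtain ⟨g, hg, hcase⟩ := exists_nbhd hR (hW.primeIdealOf ⟨x, hxW⟩).asIdeal
    let U := X.basicOpen g
    have hUW : U ≤ W := X.basicOpen_le g
    have hUV : U ≤ f ⁻¹ᵁ V := hUW.trans hWV
    have hmemU : ∀ u (hu : u ∈ W), u ∈ U ↔ g ∉ (hW.primeIdealOf ⟨u, hu⟩).asIdeal := by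
      intro u hu
      show _ ↔ hW.primeIdealOf ⟨u, hu⟩ ∈ PrimeSpectrum.basicOpen g
      rw [← hW.fromSpec_preimage_basicOpen g]
      show _ ↔ hW.fromSpec (hW.primeIdealOf ⟨u, hu⟩) ∈ U
      rw [hW.fromSpec_primeIdealOf]
    refine ⟨U, (hmemU x hxW).mpr hg, ?_⟩
    rcases hcase with het | hno
    · left
      haveI := hW.isLocalization_basicOpen g
      letI : Algebra Γ(Y, V) Γ(X, U) :=
        ((algebraMap Γ(X, W) Γ(X, U)).comp (algebraMap Γ(Y, V) Γ(X, W))).toAlgebra
      haveI : IsScalarTower Γ(Y, V) Γ(X, W) Γ(X, U) := IsScalarTower.of_algebraMap_eq' rfl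
      haveI : Algebra.Etale Γ(Y, V) Γ(X, U) := Algebra.Etale.of_equiv
        ((IsLocalization.algEquiv (Submonoid.powers g) (Localization.Away g) Γ(X, U)).restrictScalars Γ(Y, V))
      haveI : IsAffine (U : Scheme.{u}) := hW.basicOpen g
      haveI : IsAffine (V : Scheme.{u}) := hV
      have hres : Etale (f.resLE V U hUV) := by
        refine (HasRingHomProperty.iff_of_isAffine (P := @Etale)).mpr ?_
        refine (RingHom.Etale.respectsIso.arrow_mk_iso_iff (arrowResLEAppIso f V U hUV)).mpr ?_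
        have : f.appLE V U hUV = φ ≫ X.presheaf.map (homOfLE hUW).op :=
          (Scheme.Hom.appLE_map f hWV (homOfLE hUW).op).symm
        rw [this]
        exact RingHom.etale_algebraMap.mpr ‹Algebra.Etale Γ(Y, V) Γ(X, U)›
      rw [← Scheme.Hom.resLE_comp_ι f hUV]
      infer_instance
    · right
      intro u huU hfu
      have hu : u ∈ W := hUW huU
      let p := hV.primeIdealOf ⟨f.base u, hWV hu⟩
      refine hno _ inferInstance ((hmemU u hu).mp huU) ?_
      have hcomap : ((hW.primeIdealOf ⟨u, hu⟩).asIdeal).under Γ(Y, V) = p.asIdeal :=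
        congrArg PrimeSpectrum.asIdeal (IsAffineOpen.comap_primeIdealOf_appLE V hV W hW hWV hu)
      rw [hcomap, eq_bot_iff]
      intro a ha
      rw [Ideal.mem_bot]
      by_contra ha0
      have hne : Y.basicOpen a ≠ ⊥ := fun h => ha0 ((basicOpen_eq_bot_iff a).mp h)
      obtain ⟨y, hy⟩ := (Y.basicOpen a).ne_bot_iff_nonempty.mp hne
      have hη' : η ∈ Y.basicOpen a := (genericPoint_specializes y).mem_open (Y.basicOpen a).isOpen hy
      have : p ∈ PrimeSpectrum.basicOpen a := by
        rw [← hV.fromSpec_preimage_basicOpen a]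
        show hV.fromSpec p ∈ Y.basicOpen a
        rw [hV.fromSpec_primeIdealOf]
        show f.base u ∈ Y.basicOpen a
        rw [show f.base u = η from hfu]
        exact hη'
      exact this ha
  choose U hxU hU using hloc
  let E : Set X := {x | ∃ a : X, f.base a = η ∧ a ⤳ x}
  have hE1 : ∀ x ∈ E, Etale ((U x).ι ≫ f) := by
    rintro x ⟨a, ha, hax⟩
    exact (hU x).resolve_right fun h => h a (hax.mem_open (U x).isOpen (hxU x)) ha
  have hE2 : ∀ x, Etale ((U x).ι ≫ f) → (U x : Set X) ⊆ E := by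
    intro x hx z hz
    obtain ⟨a, h1, h2⟩ := Flat.generalizingMap ((U x).ι ≫ f) (a := (⟨z, hz⟩ : (U x : Scheme.{u})))
      (genericPoint_specializes _)
    exact ⟨(U x).ι.base a, h2, h1.map (U x).ι.continuous⟩
  have hclopen : IsClopen E := by
    refine ⟨?_, isOpen_iff_forall_mem_open.mpr fun x hx => ⟨U x, hE2 x (hE1 x hx), (U x).isOpen, hxU x⟩⟩
    rw [← isOpen_compl_iff]
    refine isOpen_iff_forall_mem_open.mpr fun x hx => ⟨U x, fun z hz hzE => ?_, (U x).isOpen, hxU x⟩
    rcases hU x with h | h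
    · exact hx (hE2 x h (hxU x))
    · obtain ⟨a, ha, haz⟩ := hzE
      exact h a (haz.mem_open (U x).isOpen hz) ha
  obtain ⟨x₀, hx₀⟩ := hη
  have hEuniv : E = Set.univ := hclopen.eq_univ ⟨x₀, x₀, hx₀, specializes_rfl⟩
  let 𝒰 : X.OpenCover := Scheme.openCoverOfIsOpenCover X U
    (TopologicalSpace.IsOpenCover.mk (eq_top_iff.mpr fun z _ => TopologicalSpace.Opens.mem_iSup.mpr ⟨z, hxU z⟩))
  haveI hf : Etale f := IsZariskiLocalAtSource.of_openCover 𝒰 fun x => hE1 x (hEuniv ▸ trivial)
  have hst : ∀ x : X, IsDomain (X.presheaf.stalk x) ∧ CAlg2.IsGeomUnibranch (X.presheaf.stalk x) :=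
    fun x => isDomain_geomUnibranch_stalk f ⊤ x trivial (hY _)
  haveI : ∀ x : X, _root_.IsReduced (X.presheaf.stalk x) := fun x => by
    haveI := (hst x).1; infer_instance
  haveI : AlgebraicGeometry.IsReduced X := isReduced_of_isReduced_stalk X
  obtain ⟨huniq, hopen⟩ := irreducibleComponents_of_etale f hY
  obtain ⟨Z, ⟨hZ, hx₀Z⟩, -⟩ := huniq x₀
  have hZuniv : Z = Set.univ :=
    IsClopen.eq_univ ⟨isClosed_of_mem_irreducibleComponents Z hZ, (hopen Z hZ).1⟩ ⟨x₀, hx₀Z⟩
  haveI : IrreducibleSpace X := (irreducibleSpace_def X).mpr (by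
    have h := hZ.1; rw [hZuniv] at h; exact h)
  exact ⟨hf, isIntegral_of_irreducibleSpace_of_isReduced X, fun x => (hst x).2⟩

end Groth.L05.Henselization.Branches
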