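import Groth.Agent.L05.Henselization.Noeth
import Groth.Agent.L05.Henselization.EtaleLike
import Groth.Agent.L20.WeaklyEtale

/-!
# Fibres of henselizations
-/

open IsLocalRing

namespace Groth.L05.Henselization

universe u

/-- In an algebra étale over `A`, the trace on `A` of a prime generates it up to a unit. -/
theorem exists_mul_mem_map_of_etale {A E : Type u} [CommRing A] [CommRing E] [Algebra A E]
    [Algebra.Etale A E] (q : Ideal E) [q.IsPrime] {x : E} (hx : x ∈ q) :
    ∃ t ∉ q, t * x ∈ (q.comap (algebraMap A E)).map (algebraMap A E) := by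
  haveI : q.LiesOver (q.comap (algebraMap A E)) := ⟨rfl⟩
  letI := Localization.AtPrime.algebraOfLiesOver (q.comap (algebraMap A E)) q
  have h := ((Algebra.isUnramifiedAt_iff_map_eq A (q.comap (algebraMap A E)) q).mp inferInstance).2
  have hx' : algebraMap E (Localization.AtPrime q) x ∈
      ((q.comap (algebraMap A E)).map (algebraMap A E)).map
        (algebraMap E (Localization.AtPrime q)) := by
    rw [Ideal.map_map, ← IsScalarTower.algebraMap_eq, h]
    exact (IsLocalization.AtPrime.to_map_mem_maximal_iff _ q x).mpr hx
  obtain ⟨t, ht, htx⟩ := (IsLocalization.algebraMap_mem_map_algebraMap_iff q.primeCompl _ _ x).mp hx'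
  exact ⟨t, ht, htx⟩

theorem hasReducedPointFibres_col (A K : Type u) [CommRing A] [CommRing K] [Algebra A K] :
    HasReducedPointFibres A (Col A K) := by
  intro P hP b hb
  obtain ⟨X, x, rfl⟩ := ι_surj b
  obtain ⟨t, ht, htx⟩ := exists_mul_mem_map_of_etale (A := A) (P.comap (ι X).toRingHom) (x := x) hb
  refine ⟨ι X t, ht, ?_⟩
  have h1 := Ideal.mem_map_of_mem (ι X).toRingHom htx
  rw [Ideal.map_map, Ideal.comap_comap, show (ι X).toRingHom.comp (algebraMap A X.R) =
    algebraMap A (Col A K) from (ι X).comp_algebraMap, map_mul] at h1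
  exact h1

theorem hasReducedPointFibres_hens (R : Type u) [CommRing R] [IsLocalRing R] (S : Type u)
    [CommRing S] [IsLocalRing S] [Algebra R S] [IsLocalHom (algebraMap R S)]
    [Hensel.IsHenselization R S] : HasReducedPointFibres R S := by
  obtain ⟨e⟩ := henselization_algEquiv R S
  exact (hasReducedPointFibres_col R _).of_algEquiv e

theorem hasReducedPointFibres_strict (R : Type u) [CommRing R] [IsLocalRing R] (S : Type u)
    [CommRing S] [IsLocalRing S] [Algebra R S] [IsLocalHom (algebraMap R S)]
    [Hensel.IsStrictHenselization R S] : HasReducedPointFibres R S := by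
  obtain ⟨e⟩ := strictHenselization_algEquiv R S
  exact (hasReducedPointFibres_col R _).of_algEquiv e

theorem isReduced_iff_of_isIndEtale (R S : Type u) [CommRing R] [CommRing S] [Algebra R S]
    [Module.FaithfullyFlat R S] (h : EtPBC.IsIndEtale R S) : _root_.IsReduced R ↔ _root_.IsReduced S := by
  refine ⟨fun _ => ?_, fun _ => isReduced_of_injective _ (FaithfulSMul.algebraMap_injective R S)⟩
  haveI := Groth.L27.IndEtale.weaklyEtale R S h
  exact Groth.L20.isReduced_of_weaklyEtale R S

end Groth.L05.Henselization
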