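import Mathlib.AlgebraicGeometry.Morphisms.QuasiFinite
import Mathlib.AlgebraicGeometry.Morphisms.UniversallyOpen
import Mathlib.AlgebraicGeometry.Morphisms.FiniteType
import Mathlib.Topology.LocallyFinite
import Mathlib.Topology.Sober

/-!
# Irreducible components under flat locally quasi-finite morphisms
-/

set_option autoImplicit false
universe u

open CategoryTheory AlgebraicGeometry

namespace Groth.L05.Henselization.FlatQF

theorem eq_of_specializes {X Y : Scheme.{u}} (f : X ⟶ Y) [LocallyQuasiFinite f] {a b : X}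
    (h : a ⤳ b) (e : f.base a = f.base b) : a = b := by
  haveI : DiscreteTopology (f.base ⁻¹' {f.base b} : Set X) := (f.isDiscrete_preimage_singleton _).1
  have h' : (⟨a, e⟩ : (f.base ⁻¹' {f.base b} : Set X)) ⤳ ⟨b, rfl⟩ :=
    Topology.IsInducing.subtypeVal.specializes_iff.mp h
  exact congrArg Subtype.val (specializes_iff_eq.mp h')

theorem isMax_of_isMax_image {X Y : Scheme.{u}} (f : X ⟶ Y) [LocallyQuasiFinite f] {a : X}
    (hb : ∀ z, z ⤳ f.base a → z = f.base a) (y : X) (hy : y ⤳ a) : y = a :=
  eq_of_specializes f hy (hb _ (hy.map f.continuous))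

theorem isMax_image {X Y : Scheme.{u}} (f : X ⟶ Y) [Flat f] {a : X}
    (ha : ∀ y, y ⤳ a → y = a) (z : Y) (hz : z ⤳ f.base a) : z = f.base a := by
  obtain ⟨y, hy, rfl⟩ := Flat.generalizingMap f hz
  rw [ha y hy]

theorem closure_mem_components_iff {X : Scheme.{u}} (a : X) :
    closure ({a} : Set X) ∈ irreducibleComponents X ↔ ∀ y, y ⤳ a → y = a := by
  constructor
  · intro h y hy
    have hle : closure ({a} : Set X) ≤ closure ({y} : Set X) :=
      closure_minimal (Set.singleton_subset_iff.mpr hy.mem_closure) isClosed_closure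
    have h2 : closure ({y} : Set X) ≤ closure ({a} : Set X) := h.2 isIrreducible_singleton.closure hle
    exact (Inseparable.eq (hy.antisymm (specializes_iff_mem_closure.mpr (h2 (subset_closure rfl)))))
  · intro ha
    obtain ⟨Z, hZ, hsub⟩ := exists_mem_irreducibleComponents_subset_of_isIrreducible _
      (isIrreducible_singleton (x := a)).closure
    have hg := hZ.1.isGenericPoint_genericPoint (isClosed_of_mem_irreducibleComponents Z hZ)
    have : hZ.1.genericPoint = a :=
      ha _ (specializes_iff_mem_closure.mpr (hg.def.symm ▸ hsub (subset_closure rfl)))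
    rw [← this, hg.def]
    exact hZ

theorem mem_generic_iff {X Y : Scheme.{u}} [IrreducibleSpace Y] (f : X ⟶ Y)
    [Flat f] [LocallyQuasiFinite f] (x : X) :
    f.base x = genericPoint Y ↔ closure ({x} : Set X) ∈ irreducibleComponents X := by
  rw [closure_mem_components_iff]
  constructor
  · intro h
    exact isMax_of_isMax_image f fun z hz =>
      h ▸ (Inseparable.eq ((hz.trans (specializes_of_eq h)).antisymm (genericPoint_specializes z)))
  · intro h
    exact (isMax_image f h _ (genericPoint_specializes _)).symm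

theorem locallyFinite {X Y : Scheme.{u}} (f : X ⟶ Y) [Flat f] [LocallyQuasiFinite f]
    (hY : LocallyFinite (fun Z : ↥(irreducibleComponents Y) => (Z : Set Y))) :
    LocallyFinite (fun Z : ↥(irreducibleComponents X) => (Z : Set X)) := by
  intro x
  obtain ⟨N, hN, hfin⟩ := hY (f.base x)
  obtain ⟨O, hON, hO, hxO⟩ := mem_nhds_iff.mp hN
  obtain ⟨V, hV, hxV, hVO⟩ := exists_isAffineOpen_mem_and_subset (X := Y) (U := ⟨O, hO⟩) (x := f.base x) hxO
  obtain ⟨W, hW, hxW, hWV⟩ := exists_isAffineOpen_mem_and_subset (X := X) (U := f ⁻¹ᵁ V) (x := x) hxV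
  haveI : IsAffine (W : Scheme.{u}) := hW
  haveI : IsAffine (V : Scheme.{u}) := hV
  refine ⟨W, W.isOpen.mem_nhds hxW, ?_⟩
  let g := f.resLE V W hWV
  have hgw : ∀ w : (W : Scheme.{u}), (g.base w).1 = f.base w.1 := fun w =>
    congrArg (fun φ => φ.base w) (Scheme.Hom.resLE_comp_ι f hWV)
  let GY : Set (V : Scheme.{u}) := {v | ∀ z, z ⤳ v.1 → z = v.1}
  have hGY : GY.Finite := by
    have : Finite {Z : ↥(irreducibleComponents Y) | ((Z : Set Y) ∩ N).Nonempty} := hfin
    let F : GY → {Z : ↥(irreducibleComponents Y) | ((Z : Set Y) ∩ N).Nonempty} := fun v =>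
      ⟨⟨closure {v.1.1}, (closure_mem_components_iff _).mpr v.2⟩,
        v.1.1, subset_closure rfl, hON (hVO v.1.2)⟩
    have hF : Function.Injective F := fun v w h => by
      have hvw : closure ({v.1.1} : Set Y) = closure {w.1.1} :=
        congrArg Subtype.val (congrArg Subtype.val h)
      exact Subtype.ext (Subtype.ext (Inseparable.eq (inseparable_iff_closure_eq.mpr hvw)))
    haveI : Finite GY := Finite.of_injective F hF
    exact Set.toFinite GY
  let GX : Set X := Subtype.val '' (g.base ⁻¹' GY : Set (W : Scheme.{u}))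
  have hGX : GX.Finite := by
    refine Set.Finite.image _ ?_
    rw [← Set.biUnion_preimage_singleton]
    exact hGY.biUnion fun v _ => g.finite_preimage_singleton v
  haveI : Finite GX := hGX
  let G : {Z : ↥(irreducibleComponents X) | ((Z : Set X) ∩ W).Nonempty} → GX := fun Z =>
    ⟨Z.1.2.1.genericPoint, by
      obtain ⟨⟨Z, hZ⟩, z, hzZ, hzW⟩ := Z
      have hg := hZ.1.isGenericPoint_genericPoint (isClosed_of_mem_irreducibleComponents Z hZ)
      have hξW : hZ.1.genericPoint ∈ W := (hg.specializes hzZ).mem_open W.isOpen hzW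
      have hmax : ∀ y, y ⤳ hZ.1.genericPoint → y = hZ.1.genericPoint :=
        (closure_mem_components_iff _).mp (by rw [hg.def]; exact hZ)
      refine ⟨⟨_, hξW⟩, ?_, rfl⟩
      intro y hy
      rw [hgw] at hy ⊢
      exact isMax_image f hmax y hy⟩
  have hG : Function.Injective G := fun Z Z' h => by
    have h' : Z.1.2.1.genericPoint = Z'.1.2.1.genericPoint := congrArg Subtype.val h
    refine Subtype.ext (Subtype.ext ?_)
    rw [← Z.1.2.1.closure_genericPoint (isClosed_of_mem_irreducibleComponents _ Z.1.2),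
      ← Z'.1.2.1.closure_genericPoint (isClosed_of_mem_irreducibleComponents _ Z'.1.2), h']
  exact Finite.of_injective G hG

end Groth.L05.Henselization.FlatQF
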