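import Groth.Agent.L05.Henselization.Fibres
import Groth.Agent.L05.Henselization.Pair

/-!
# Henselizations are formally étale; their nilradical
-/

open IsLocalRing

namespace Groth.L05.Henselization

universe u

theorem formallyEtale_col (A K : Type u) [CommRing A] [CommRing K] [Algebra A K] :
    Algebra.FormallyEtale A (Col A K) := by
  rw [Algebra.FormallyEtale.iff_comp_bijective]
  intro C _ _ J hJ
  refine ⟨fun f g hfg => algHom_ext fun X => ?_, fun φ => ?_⟩
  · refine (Algebra.FormallyEtale.comp_bijective A X.R J hJ).1 ?_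
    show (Ideal.Quotient.mkₐ A J).comp (f.comp (ι X)) = (Ideal.Quotient.mkₐ A J).comp (g.comp (ι X))
    rw [← AlgHom.comp_assoc, ← AlgHom.comp_assoc]
    exact congrArg (fun k => AlgHom.comp k (ι X)) hfg
  · choose g hg using fun X : Obj A K =>
      (Algebra.FormallyEtale.comp_bijective A X.R J hJ).2 (φ.comp (ι X))
    have hcompat : ∀ {X Y : Obj A K} (f : X ⟶ Y), (g Y).comp f.1 = g X := by
      intro X Y f
      refine (Algebra.FormallyEtale.comp_bijective A X.R J hJ).1 ?_
      show (Ideal.Quotient.mkₐ A J).comp ((g Y).comp f.1) = (Ideal.Quotient.mkₐ A J).comp (g X)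
      rw [← AlgHom.comp_assoc, hg X]
      show ((Ideal.Quotient.mkₐ A J).comp (g Y)).comp f.1 = _
      rw [hg Y, AlgHom.comp_assoc]
      congr 1
      exact AlgHom.ext fun x => ι_map f x
    refine ⟨desc g hcompat, algHom_ext fun X => ?_⟩
    show ((Ideal.Quotient.mkₐ A J).comp (desc g hcompat)).comp (ι X) = _
    rw [AlgHom.comp_assoc, desc_ι]
    exact hg X

theorem formallyEtale_hens (R S : Type u) [CommRing R] [IsLocalRing R] [CommRing S] [IsLocalRing S]
    [Algebra R S] [IsLocalHom (algebraMap R S)] [Hensel.IsHenselization R S] :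
    Algebra.FormallyEtale R S := by
  obtain ⟨e⟩ := henselization_algEquiv R S
  haveI := formallyEtale_col R (ResidueField R)
  exact Algebra.FormallyEtale.of_equiv e

theorem formallyEtale_strict (R S : Type u) [CommRing R] [IsLocalRing R] [CommRing S] [IsLocalRing S]
    [Algebra R S] [IsLocalHom (algebraMap R S)] [Hensel.IsStrictHenselization R S] :
    Algebra.FormallyEtale R S := by
  obtain ⟨e⟩ := strictHenselization_algEquiv R S
  haveI := formallyEtale_col R (ResidueField S)
  exact Algebra.FormallyEtale.of_equiv e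

theorem map_nilradical_of_etale (A E : Type u) [CommRing A] [CommRing E] [Algebra A E]
    [Algebra.Etale A E] : (nilradical A).map (algebraMap A E) = nilradical E := by
  refine le_antisymm (Ideal.map_le_iff_le_comap.mpr fun a ha => ?_) ?_
  · rw [Ideal.mem_comap, mem_nilradical] at *
    exact ha.map _
  · haveI : _root_.IsReduced (A ⧸ nilradical A) := by
      rw [← Ideal.isRadical_iff_quotient_reduced]
      exact Ideal.radical_isRadical _
    haveI : _root_.IsReduced (TensorProduct A (A ⧸ nilradical A) E) :=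
      Groth.L20.isReduced_of_weaklyEtale (A ⧸ nilradical A) _
    let e := Algebra.TensorProduct.quotIdealMapEquivQuotTensor E (nilradical A)
    haveI : _root_.IsReduced (E ⧸ (nilradical A).map (algebraMap A E)) :=
      isReduced_of_injective e e.injective
    intro x hx
    rw [← Ideal.Quotient.eq_zero_iff_mem]
    exact ((mem_nilradical.mp hx).map (Ideal.Quotient.mk _)).eq_zero

theorem map_nilradical_col (A K : Type u) [CommRing A] [CommRing K] [Algebra A K] :
    (nilradical A).map (algebraMap A (Col A K)) = nilradical (Col A K) := by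
  refine le_antisymm (Ideal.map_le_iff_le_comap.mpr fun a ha => ?_) fun b hb => ?_
  · rw [Ideal.mem_comap, mem_nilradical] at *
    exact ha.map _
  obtain ⟨X, x, rfl⟩ := ι_surj b
  obtain ⟨n, hn⟩ := mem_nilradical.mp hb
  rw [← map_pow, ← map_zero (ι X)] at hn
  obtain ⟨Z, f, hf⟩ := ι_eq hn
  have hx : f.1 x ∈ nilradical Z.R := mem_nilradical.mpr ⟨n, by rw [← map_pow, hf, map_zero]⟩
  rw [← map_nilradical_of_etale A Z.R] at hx
  have := Ideal.mem_map_of_mem (ι Z).toRingHom hx
  rw [Ideal.map_map, show (ι Z).toRingHom.comp (algebraMap A Z.R) = algebraMap A (Col A K) from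
    (ι Z).comp_algebraMap] at this
  rw [← ι_map f x]
  exact this

theorem map_nilradical_of_algEquiv {A B B' : Type u} [CommRing A] [CommRing B] [Algebra A B]
    [CommRing B'] [Algebra A B'] (e : B ≃ₐ[A] B')
    (h : (nilradical A).map (algebraMap A B) = nilradical B) :
    (nilradical A).map (algebraMap A B') = nilradical B' := by
  rw [← e.toAlgHom.comp_algebraMap, ← Ideal.map_map, h]
  ext y
  rw [mem_nilradical]
  constructor
  · intro hy
    obtain ⟨x, hx, rfl⟩ := (Ideal.mem_map_iff_of_surjective e.toAlgHom.toRingHom e.surjective).mp hy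
    exact (mem_nilradical.mp hx).map _
  · intro hy
    exact (Ideal.mem_map_iff_of_surjective e.toAlgHom.toRingHom e.surjective).mpr ⟨e.symm y, mem_nilradical.mpr (hy.map e.symm), e.apply_symm_apply y⟩

/-- Maps between henselizations of étale algebras lift uniquely from the quotients. -/
theorem pairHens_etale_lift {A : Type u} [CommRing A] (I : Ideal A)
    {R : Type u} [CommRing R] [Algebra A R] [Algebra.Etale A R]
    {B : Type u} [CommRing B] [Algebra R B] [Algebra A B] [IsScalarTower A R B]
    (hB : Hens2.IsPairHenselization R (I.map (algebraMap A R)) B)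
    {B' : Type u} [CommRing B'] [Algebra A B'] (J : Ideal B') [HenselianRing B' J]
    (hJ : I.map (algebraMap A B') ≤ J) :
    (∀ φ ψ : B →ₐ[A] B', (∀ b : B, φ b - ψ b ∈ J) → φ = ψ) ∧
    ∀ χ : (B ⧸ I.map (algebraMap A B)) →ₐ[A] (B' ⧸ J),
      ∃ φ : B →ₐ[A] B', ∀ b : B,
        Ideal.Quotient.mk J (φ b) = χ (Ideal.Quotient.mk (I.map (algebraMap A B)) b) := by
  have hIB : (I.map (algebraMap A R)).map (algebraMap R B) = I.map (algebraMap A B) := by
    rw [Ideal.map_map, ← IsScalarTower.algebraMap_eq]
  have hle : ∀ g : R →ₐ[A] B', (I.map (algebraMap A R)).map g.toRingHom ≤ J := fun g => by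
    rw [Ideal.map_map, show g.toRingHom.comp (algebraMap A R) = algebraMap A B' from g.comp_algebraMap]
    exact hJ
  refine ⟨fun φ ψ h => ?_, fun χ => ?_⟩
  · let φ₀ := φ.comp (IsScalarTower.toAlgHom A R B)
    let ψ₀ := ψ.comp (IsScalarTower.toAlgHom A R B)
    have h0 : φ₀ = ψ₀ := (existsUnique_algHom_lift_etale J ((Ideal.Quotient.mkₐ A J).comp φ₀)).unique
      rfl (AlgHom.ext fun r => (Ideal.Quotient.eq.mpr (h (algebraMap R B r))).symm)
    have := (hB.2 B' J φ₀.toRingHom inferInstance (hle φ₀)).unique (y₁ := φ.toRingHom)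
      (y₂ := ψ.toRingHom) rfl (by rw [h0]; rfl)
    exact AlgHom.ext fun b => DFunLike.congr_fun this b
  · obtain ⟨g₀, hg₀, -⟩ := existsUnique_algHom_lift_etale J
      (χ.comp ((Ideal.Quotient.mkₐ A (I.map (algebraMap A B))).comp (IsScalarTower.toAlgHom A R B)))
    obtain ⟨g, hg, -⟩ := hB.2 B' J g₀.toRingHom inferInstance (hle g₀)
    have hc : ∀ a, g (algebraMap A B a) = algebraMap A B' a := fun a => by
      rw [IsScalarTower.algebraMap_apply A R B, ← RingHom.comp_apply, hg]
      exact g₀.commutes a
    let φ : B →ₐ[A] B' := { g with commutes' := hc }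
    refine ⟨φ, fun b => ?_⟩
    obtain ⟨q, hq⟩ := (quotientMap_pow_bijective R _ hB 1).2
      (Ideal.Quotient.mk _ b)
    obtain ⟨r, rfl⟩ := Ideal.Quotient.mk_surjective q
    rw [Ideal.quotientMap_mk, Ideal.Quotient.eq, pow_one, hIB] at hq
    have h1 : g (b - algebraMap R B r) ∈ J := by
      have := Ideal.mem_map_of_mem φ.toRingHom (neg_mem hq)
      rw [Ideal.map_map, show φ.toRingHom.comp (algebraMap A B) = algebraMap A B' from
        φ.comp_algebraMap, neg_sub] at this
      exact hJ this
    have h2 : Ideal.Quotient.mk J (g (algebraMap R B r)) =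
        χ (Ideal.Quotient.mk _ (algebraMap R B r)) := by
      rw [← RingHom.comp_apply g, hg]
      exact DFunLike.congr_fun hg₀ r
    rw [map_sub, ← Ideal.Quotient.eq] at h1
    show Ideal.Quotient.mk J (g b) = _
    rw [h1, h2]
    congr 1
    rw [Ideal.Quotient.eq]
    exact hq

end Groth.L05.Henselization
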