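import Groth.Agent.L05.Hensel.Homs
import Groth.Agent.L05.Hensel.LocalCriteria
import Groth.Prelude.Def_EssEt
import Mathlib.RingTheory.Unramified.Finite
import Mathlib.RingTheory.Etale.Basic

/-!
# Maps out of essentially étale local algebras
-/

open IsLocalRing TensorProduct

namespace Groth.L05.Henselization

universe u

theorem algHom_eq_of_residue_eq {A C T : Type u} [CommRing A] [CommRing C] [Algebra A C]
    [Algebra.FormallyUnramified A C] [Algebra.EssFiniteType A C] [CommRing T] [IsLocalRing T]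
    [Algebra A T] (f g : C →ₐ[A] T) (h : ∀ x, residue T (f x) = residue T (g x)) : f = g := by
  let l := Algebra.TensorProduct.lift f g (fun _ _ => Commute.all _ _)
  have hres : (residue T).comp l.toRingHom =
      ((residue T).comp f.toRingHom).comp (Algebra.TensorProduct.lmul' A (S := C)).toRingHom := by
    refine RingHom.ext fun z => ?_
    induction z using TensorProduct.induction_on with
    | zero => simp
    | tmul x y => simp [l, h]
    | add x y hx hy => rw [map_add, hx, hy, map_add]
  have hu : IsUnit (l (Algebra.FormallyUnramified.elem A C)) := by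
    rw [← residue_ne_zero_iff_isUnit]
    have := DFunLike.congr_fun hres (Algebra.FormallyUnramified.elem A C)
    simp only [RingHom.coe_comp, Function.comp_apply, AlgHom.toRingHom_eq_coe,
      RingHom.coe_coe, Algebra.FormallyUnramified.lmul_elem, map_one] at this
    rw [this]
    exact one_ne_zero
  refine AlgHom.ext fun x => hu.mul_left_injective ?_
  have h1 := congrArg l (Algebra.FormallyUnramified.one_tmul_mul_elem (R := A) (S := C) x)
  simp only [map_mul, l, Algebra.TensorProduct.lift_tmul, map_one, one_mul, mul_one] at h1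
  exact h1.symm

variable {A A' : Type u} [CommRing A] [IsLocalRing A] [CommRing A'] [IsLocalRing A'] [Algebra A A']

theorem algHom_eq_of_residue_eq_of_essEt (hA' : EGA4loc.IsEssentiallyEtale A A')
    {T : Type u} [CommRing T] [IsLocalRing T] [Algebra A T] (f g : A' →ₐ[A] T)
    (h : ∀ x, residue T (f x) = residue T (g x)) : f = g := by
  obtain ⟨C, _, _, q, _, hC, -, ⟨e⟩⟩ := hA'
  let j : C →ₐ[A] A' := e.symm.toAlgHom.comp (IsScalarTower.toAlgHom A C (Localization.AtPrime q))
  have h1 : f.comp j = g.comp j := algHom_eq_of_residue_eq _ _ fun x => h _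
  have h2 : f.comp e.symm.toAlgHom = g.comp e.symm.toAlgHom :=
    IsLocalization.algHom_ext q.primeCompl (by exact h1)
  refine AlgHom.ext fun x => ?_
  simpa using DFunLike.congr_fun h2 (e x)

/-- Maps to henselian local rings are determined by their effect on residue fields. -/
theorem existsUnique_lift_essEt [IsLocalHom (algebraMap A A')]
    (hA' : EGA4loc.IsEssentiallyEtale A A') {B : Type u} [CommRing B] [HenselianLocalRing B]
    (ψ : A →+* B) [IsLocalHom ψ] (α : ResidueField A' →+* ResidueField B)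
    (hα : α.comp (ResidueField.map (algebraMap A A')) = ResidueField.map ψ) :
    ∃! ψ' : A' →+* B, IsLocalHom ψ' ∧ ψ'.comp (algebraMap A A') = ψ ∧
      ∀ x : A', residue B (ψ' x) = α (residue A' x) := by
  letI : Algebra A B := ψ.toAlgebra
  have hαA : ∀ a, α (residue A' (algebraMap A A' a)) = residue B (ψ a) := fun a => by
    have := DFunLike.congr_fun hα (residue A a)
    simpa [ResidueField.map_residue] using this
  obtain ⟨C, _, _, q, _, hC, -, ⟨e⟩⟩ := id hA'
  let j : C →ₐ[A] A' := e.symm.toAlgHom.comp (IsScalarTower.toAlgHom A C (Localization.AtPrime q))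
  let σ : C →ₐ[A] B ⧸ maximalIdeal B :=
    { (α.comp (residue A')).comp j.toRingHom with
      commutes' := fun a => by
        show α (residue A' (j (algebraMap A C a))) = _
        rw [j.commutes, hαA]
        rfl }
  obtain ⟨g, hg, -⟩ := existsUnique_algHom_lift_etale (maximalIdeal B) σ
  have hgr : ∀ c, residue B (g c) = α (residue A' (j c)) := fun c => DFunLike.congr_fun hg c
  have hu : ∀ s : q.primeCompl, IsUnit (g s) := fun s => by
    rw [← residue_ne_zero_iff_isUnit, hgr]
    have : IsUnit (residue A' (j s)) :=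
      ((IsLocalization.map_units (Localization.AtPrime q) s).map e.symm).map _
    exact (this.map α).ne_zero
  let gl : Localization.AtPrime q →ₐ[A] B := IsLocalization.liftAlgHom (M := q.primeCompl) (f := g) hu
  let ψ' : A' →ₐ[A] B := gl.comp e.toAlgHom
  have hres : ∀ x, residue B (ψ' x) = α (residue A' x) := by
    have h2 : (residue B).comp gl.toRingHom =
        (α.comp (residue A')).comp e.symm.toAlgHom.toRingHom := by
      refine IsLocalization.ringHom_ext q.primeCompl (RingHom.ext fun c => ?_)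
      show residue B (gl (algebraMap C _ c)) = _
      rw [show gl (algebraMap C _ c) = g c from IsLocalization.lift_eq (M := q.primeCompl) _ c, hgr]
      rfl
    intro x
    have := DFunLike.congr_fun h2 (e x)
    simpa [ψ'] using this
  refine ⟨ψ'.toRingHom, ⟨⟨fun x hx => ?_⟩, ψ'.comp_algebraMap, hres⟩, ?_⟩
  · rw [← residue_ne_zero_iff_isUnit] at hx ⊢
    intro h0
    exact hx (by show residue B (ψ' x) = 0; rw [hres, h0, map_zero])
  · rintro g₂ ⟨-, hg₂, hr₂⟩
    let g₂' : A' →ₐ[A] B := { g₂ with commutes' := fun a => DFunLike.congr_fun hg₂ a }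
    rw [← algHom_eq_of_residue_eq_of_essEt hA' g₂' ψ' fun x => by
      rw [hres]
      exact hr₂ x]

theorem exists_point_of_strict [IsLocalHom (algebraMap A A')]
    (h : EGA4loc.IsStrictlyEssentiallyEtale A A') :
    ∃ (C : Type u) (_ : CommRing C) (_ : Algebra A C) (q : Ideal C) (_ : q.IsPrime)
      (φ : C →ₐ[A] ResidueField A), Algebra.Etale A C ∧ RingHom.ker φ = q ∧
        Nonempty (A' ≃ₐ[A] Localization.AtPrime q) := by
  obtain ⟨⟨C, _, _, q, hq, hC, -, ⟨e⟩⟩, hb⟩ := h
  let r := RingEquiv.ofBijective _ hb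
  let j : C →ₐ[A] A' := e.symm.toAlgHom.comp (IsScalarTower.toAlgHom A C (Localization.AtPrime q))
  let φ : C →ₐ[A] ResidueField A :=
    { (r.symm.toRingHom.comp (residue A')).comp j.toRingHom with
      commutes' := fun a => r.injective <| by
        show r (r.symm (residue A' (j (algebraMap A C a)))) = _
        rw [r.apply_symm_apply, j.commutes]
        rfl }
  refine ⟨C, inferInstance, inferInstance, q, hq, φ, hC, ?_, ⟨e⟩⟩
  ext c
  show r.symm (residue A' (e.symm (algebraMap C _ c))) = 0 ↔ c ∈ q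
  rw [map_eq_zero_iff _ r.symm.injective, residue_eq_zero_iff, mem_maximalIdeal, mem_nonunits_iff,
    isUnit_map_iff e.symm, IsLocalization.AtPrime.isUnit_to_map_iff (Localization.AtPrime q) q c]
  exact not_not

theorem exists_strict_cocone {A₁ A₂ : Type u} [CommRing A₁] [IsLocalRing A₁] [Algebra A A₁]
    [IsLocalHom (algebraMap A A₁)] [CommRing A₂] [IsLocalRing A₂] [Algebra A A₂]
    [IsLocalHom (algebraMap A A₂)] (h₁ : EGA4loc.IsStrictlyEssentiallyEtale A A₁)
    (h₂ : EGA4loc.IsStrictlyEssentiallyEtale A A₂) :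
    ∃ (A₃ : Type u) (_ : CommRing A₃) (_ : IsLocalRing A₃) (_ : Algebra A A₃)
      (_ : IsLocalHom (algebraMap A A₃)),
      EGA4loc.IsStrictlyEssentiallyEtale A A₃ ∧ Nonempty (A₁ →ₐ[A] A₃) ∧ Nonempty (A₂ →ₐ[A] A₃) := by
  obtain ⟨C₁, _, _, q₁, _, φ₁, hC₁, hk₁, ⟨e₁⟩⟩ := exists_point_of_strict h₁
  obtain ⟨C₂, _, _, q₂, _, φ₂, hC₂, hk₂, ⟨e₂⟩⟩ := exists_point_of_strict h₂
  haveI : Algebra.Etale A (C₁ ⊗[A] C₂) := Algebra.Etale.comp A C₁ _
  let φ : C₁ ⊗[A] C₂ →ₐ[A] ResidueField A :=
    Algebra.TensorProduct.lift φ₁ φ₂ fun _ _ => Commute.all _ _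
  haveI hq : (RingHom.ker φ).IsPrime := RingHom.ker_isPrime _
  set q₃ := RingHom.ker φ
  have hq₃ : q₃.comap (algebraMap A (C₁ ⊗[A] C₂)) = maximalIdeal A := by
    ext a
    rw [Ideal.mem_comap, RingHom.mem_ker, φ.commutes, ResidueField.algebraMap_eq, residue_eq_zero_iff]
  let A₃ := Localization.AtPrime q₃
  haveI : IsLocalHom (algebraMap A A₃) :=
    ((IsLocalRing.local_hom_TFAE _).out 0 4 rfl rfl).mpr (by
      show Ideal.comap (algebraMap A A₃) _ = _
      rw [IsScalarTower.algebraMap_eq A (C₁ ⊗[A] C₂) A₃, ← Ideal.comap_comap]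
      exact (congrArg (Ideal.comap (algebraMap A (C₁ ⊗[A] C₂)))
        (IsLocalization.AtPrime.under_maximalIdeal A₃ q₃)).trans hq₃)
  let ψ : A₃ →ₐ[A] ResidueField A := IsLocalization.liftAlgHom (M := q₃.primeCompl) (f := φ)
    (fun s => isUnit_iff_ne_zero.mpr s.2)
  have hψ : ∀ x, x ∈ maximalIdeal A₃ → ψ x = 0 := by
    intro x hx
    rw [← Localization.AtPrime.map_eq_maximalIdeal] at hx
    have h3 : q₃.map (algebraMap _ A₃) ≤ RingHom.ker ψ := Ideal.map_le_iff_le_comap.mpr fun c hc => by
      rw [Ideal.mem_comap, RingHom.mem_ker]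
      exact (IsLocalization.lift_eq (M := q₃.primeCompl) _ c).trans hc
    exact h3 hx
  have hb : Function.Bijective (ResidueField.map (algebraMap A A₃)) := by
    let ψb : ResidueField A₃ →+* ResidueField A := Ideal.Quotient.lift _ ψ.toRingHom hψ
    refine ⟨RingHom.injective _, fun y => ⟨ψb y, ψb.injective ?_⟩⟩
    obtain ⟨a, ha⟩ := residue_surjective (ψb y)
    rw [← ha, ResidueField.map_residue]
    exact ψ.commutes a
  have key : ∀ {C : Type u} [CommRing C] [Algebra A C] (q : Ideal C) [q.IsPrime]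
      (φ' : C →ₐ[A] ResidueField A), RingHom.ker φ' = q → (i : C →ₐ[A] C₁ ⊗[A] C₂) →
      φ.comp i = φ' → ∀ {A' : Type u} [CommRing A'] [Algebra A A'],
      (A' ≃ₐ[A] Localization.AtPrime q) → Nonempty (A' →ₐ[A] A₃) := by
    intro C _ _ q _ φ' hk i hi A' _ _ e
    exact ⟨(IsLocalization.liftAlgHom (M := q.primeCompl)
      (f := (IsScalarTower.toAlgHom A (C₁ ⊗[A] C₂) A₃).comp i) fun s =>
        IsLocalization.map_units A₃ (⟨i s, fun h0 => s.2 (hk.le (by
          rw [RingHom.mem_ker, ← hi]
          exact h0))⟩ : q₃.primeCompl)).comp e.toAlgHom⟩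
  exact ⟨A₃, inferInstance, inferInstance, inferInstance, inferInstance,
    ⟨⟨_, inferInstance, inferInstance, q₃, hq, inferInstance, hq₃, ⟨AlgEquiv.refl⟩⟩, hb⟩,
    key q₁ φ₁ hk₁ Algebra.TensorProduct.includeLeft (AlgHom.ext fun x => by simp [φ]) e₁,
    key q₂ φ₂ hk₂ Algebra.TensorProduct.includeRight (AlgHom.ext fun x => by simp [φ]) e₂⟩

end Groth.L05.Henselization
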