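import Groth.Agent.L05.Henselization.Fibres
import Mathlib.RingTheory.LocalRing.ResidueField.Ideal

/-!
# Residually trivial étale neighbourhoods of a prime and the henselization there
-/

open IsLocalRing

namespace Groth.L05.Henselization

universe u

variable {R : Type u} [CommRing R] (p : Ideal R) [p.IsPrime]

theorem comap_ker_point {S : Type u} [CommRing S] [Algebra R S] (φ : S →ₐ[R] p.ResidueField) :
    p = (RingHom.ker φ).comap (algebraMap R S) := by
  ext r
  rw [Ideal.mem_comap, RingHom.mem_ker, φ.commutes, Ideal.algebraMap_residueField_eq_zero]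

theorem exists_retraction {S : Type u} [CommRing S] [Algebra R S] (φ : S →ₐ[R] p.ResidueField)
    (q : Ideal S) [q.IsPrime] (hq : RingHom.ker φ = q) (h : p = q.comap (algebraMap R S)) :
    ∃ ψ : q.ResidueField →+* p.ResidueField,
      (∀ s, ψ (algebraMap S q.ResidueField s) = φ s) ∧
        ∀ x, ψ (Ideal.ResidueField.map p q (algebraMap R S) h x) = x := by
  let ψ : q.ResidueField →+* p.ResidueField := Ideal.ResidueField.lift q φ.toRingHom hq.ge
    fun s hs => isUnit_iff_ne_zero.mpr fun h0 => hs (hq.le h0)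
  have hψ : ∀ s, ψ (algebraMap S q.ResidueField s) = φ s := fun s =>
    Ideal.ResidueField.lift_algebraMap q φ.toRingHom _ _ s
  refine ⟨ψ, hψ, fun x => ?_⟩
  have : ψ.comp (Ideal.ResidueField.map p q (algebraMap R S) h) = RingHom.id _ := by
    refine Ideal.ResidueField.ringHom_ext (RingHom.ext fun r => ?_)
    show ψ (Ideal.ResidueField.map p q (algebraMap R S) h (algebraMap R _ r)) = _
    rw [Ideal.ResidueField.map_algebraMap, hψ, φ.commutes]
    rfl
  exact DFunLike.congr_fun this x

theorem bijective_of_point {S : Type u} [CommRing S] [Algebra R S] (φ : S →ₐ[R] p.ResidueField)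
    (q : Ideal S) [q.IsPrime] (hq : RingHom.ker φ = q) (h : p = q.comap (algebraMap R S)) :
    Function.Bijective (Ideal.ResidueField.map p q (algebraMap R S) h) := by
  obtain ⟨ψ, -, hψ⟩ := exists_retraction p φ q hq h
  exact ⟨RingHom.injective _, fun y => ⟨ψ y, ψ.injective (hψ (ψ y))⟩⟩

theorem exists_point {S : Type u} [CommRing S] [Algebra R S] (q : Ideal S) [q.IsPrime]
    (h : p = q.comap (algebraMap R S))
    (hb : Function.Bijective (Ideal.ResidueField.map p q (algebraMap R S) h)) :
    ∃ φ : S →ₐ[R] p.ResidueField, RingHom.ker φ = q := by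
  let e := RingEquiv.ofBijective _ hb
  let φ : S →ₐ[R] p.ResidueField :=
    { e.symm.toRingHom.comp (algebraMap S q.ResidueField) with
      commutes' := fun r => e.injective <| by
        show e (e.symm (algebraMap S q.ResidueField (algebraMap R S r))) = _
        rw [e.apply_symm_apply]
        exact (Ideal.ResidueField.map_algebraMap p q _ h r).symm }
  refine ⟨φ, ?_⟩
  ext x
  show e.symm (algebraMap S q.ResidueField x) = 0 ↔ _
  rw [map_eq_zero_iff _ e.symm.injective, Ideal.algebraMap_residueField_eq_zero]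

theorem point_unique {S : Type u} [CommRing S] [Algebra R S] (φ φ' : S →ₐ[R] p.ResidueField)
    (h : RingHom.ker φ = RingHom.ker φ') : φ = φ' := by
  haveI : (RingHom.ker φ).IsPrime := RingHom.ker_isPrime _
  have hc := comap_ker_point p φ
  obtain ⟨ψ, hψ, hψi⟩ := exists_retraction p φ (RingHom.ker φ) rfl hc
  obtain ⟨ψ', hψ', hψi'⟩ := exists_retraction p φ' (RingHom.ker φ) h.symm hc
  refine AlgHom.ext fun s => ?_
  obtain ⟨x, hx⟩ := (bijective_of_point p φ (RingHom.ker φ) rfl hc).2 (algebraMap S _ s)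
  rw [← hψ, ← hψ', ← hx, hψi, hψi']

theorem ker_comp_point {S S' : Type u} [CommRing S] [Algebra R S] [CommRing S'] [Algebra R S']
    (φ : S →ₐ[R] p.ResidueField) (φ' : S' →ₐ[R] p.ResidueField) (f : S →ₐ[R] S')
    (h : (RingHom.ker φ').comap f.toRingHom = RingHom.ker φ) : φ'.comp f = φ := by
  refine point_unique p _ _ ?_
  rw [← h]
  rfl

theorem exists_nbhd_cocone {S₁ S₂ : Type u} [CommRing S₁] [Algebra R S₁] [Algebra.Etale R S₁]
    [CommRing S₂] [Algebra R S₂] [Algebra.Etale R S₂]
    (φ₁ : S₁ →ₐ[R] p.ResidueField) (φ₂ : S₂ →ₐ[R] p.ResidueField) :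
    ∃ (Z : Obj R p.ResidueField) (f₁ : S₁ →ₐ[R] Z.R) (f₂ : S₂ →ₐ[R] Z.R),
      Z.φ.comp f₁ = φ₁ ∧ Z.φ.comp f₂ = φ₂ := by
  obtain ⟨X, e, he⟩ := Obj.exists_obj S₁ φ₁
  obtain ⟨Y, e', he'⟩ := Obj.exists_obj S₂ φ₂
  obtain ⟨Z, f, g, -⟩ := CategoryTheory.IsFilteredOrEmpty.cocone_objs X Y
  refine ⟨Z, f.1.comp e.toAlgHom, g.1.comp e'.toAlgHom, ?_, ?_⟩
  · rw [← AlgHom.comp_assoc, f.2, he]
  · rw [← AlgHom.comp_assoc, g.2, he']

theorem exists_nbhd_coeq {S₁ S₂ : Type u} [CommRing S₁] [Algebra R S₁] [Algebra.Etale R S₁]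
    [CommRing S₂] [Algebra R S₂] [Algebra.Etale R S₂]
    (φ₂ : S₂ →ₐ[R] p.ResidueField) (f g : S₁ →ₐ[R] S₂) (h : φ₂.comp f = φ₂.comp g) :
    ∃ (Z : Obj R p.ResidueField) (χ : S₂ →ₐ[R] Z.R),
      Z.φ.comp χ = φ₂ ∧ χ.comp f = χ.comp g := by
  obtain ⟨X, e, he⟩ := Obj.exists_obj S₁ (φ₂.comp f)
  obtain ⟨Y, e', he'⟩ := Obj.exists_obj S₂ φ₂
  have key : ∀ k : S₁ →ₐ[R] S₂, φ₂.comp k = φ₂.comp f →
      Y.φ.comp (e'.toAlgHom.comp (k.comp e.symm.toAlgHom)) = X.φ := by
    intro k hk
    refine AlgHom.ext fun x => ?_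
    have h1 := DFunLike.congr_fun he (e.symm x)
    have h2 := DFunLike.congr_fun he' (k (e.symm x))
    have h3 := DFunLike.congr_fun hk (e.symm x)
    simp only [AlgHom.comp_apply, AlgEquiv.coe_toAlgHom, AlgEquiv.apply_symm_apply] at h1 h2 h3 ⊢
    rw [h2, h3, ← h1]
  let a : X ⟶ Y := ⟨_, key f rfl⟩
  let b : X ⟶ Y := ⟨_, key g h.symm⟩
  obtain ⟨Z, c, hc⟩ := CategoryTheory.IsFilteredOrEmpty.cocone_maps a b
  refine ⟨Z, c.1.comp e'.toAlgHom, ?_, AlgHom.ext fun x => ?_⟩
  · rw [← AlgHom.comp_assoc, c.2, he']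
  · have h4 := DFunLike.congr_fun (congrArg Subtype.val hc) (e x)
    have h5 : ∀ k : S₁ →ₐ[R] S₂, c.1 (e' (k (e.symm (e x)))) = c.1 (e' (k x)) := fun k => by
      rw [e.symm_apply_apply]
    exact (h5 f).symm.trans (h4.trans (h5 g))

theorem ε_surjective_prime : Function.Surjective (ε R p.ResidueField) := by
  intro x
  obtain ⟨a, ⟨s, hs⟩, rfl⟩ := IsLocalization.exists_mk'_eq (nonZeroDivisors (R ⧸ p)) x
  obtain ⟨a, rfl⟩ := Ideal.Quotient.mk_surjective a
  obtain ⟨s, rfl⟩ := Ideal.Quotient.mk_surjective s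
  have hs' : algebraMap R p.ResidueField s ≠ 0 := by
    rw [Ne, Ideal.algebraMap_residueField_eq_zero, ← Ideal.Quotient.eq_zero_iff_mem]
    exact nonZeroDivisors.ne_zero hs
  obtain ⟨u, hu⟩ := isUnit_of_isUnit_ε (A := R) (K := p.ResidueField)
    (b := algebraMap R _ s) (by rw [AlgHom.commutes]; exact isUnit_iff_ne_zero.mpr hs')
  refine ⟨algebraMap R _ a * ↑u⁻¹, ?_⟩
  rw [eq_comm, IsLocalization.mk'_eq_iff_eq_mul]
  show algebraMap (R ⧸ p) p.ResidueField (Ideal.Quotient.mk p a) =
    _ * algebraMap (R ⧸ p) p.ResidueField (Ideal.Quotient.mk p s)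
  rw [← Ideal.Quotient.algebraMap_eq, ← IsScalarTower.algebraMap_apply,
    ← IsScalarTower.algebraMap_apply, ← (ε R p.ResidueField).commutes s, ← hu, ← map_mul,
    mul_assoc, Units.inv_mul, mul_one, AlgHom.commutes]

theorem ker_ε_prime :
    RingHom.ker (ε R p.ResidueField) = p.map (algebraMap R (Col R p.ResidueField)) := by
  refine le_antisymm (ker_ε_le fun X x hx => ?_) (Ideal.map_le_iff_le_comap.mpr fun r hr => ?_)
  · haveI : (RingHom.ker X.φ).IsPrime := RingHom.ker_isPrime _
    obtain ⟨t, ht, htx⟩ := exists_mul_mem_map_of_etale (A := R) (RingHom.ker X.φ) (x := x) hx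
    rw [← comap_ker_point] at htx
    exact ⟨t, isUnit_iff_ne_zero.mpr ht, htx⟩
  · rw [Ideal.mem_comap, RingHom.mem_ker, AlgHom.commutes]
    exact Ideal.algebraMap_residueField_eq_zero.mpr hr

/-- The henselization of the local ring at `p` is the colimit of the neighbourhoods of `p`. -/
theorem nonempty_algEquiv_atPrime (Rh : Type u) [CommRing Rh] [IsLocalRing Rh]
    [Algebra (Localization.AtPrime p) Rh] [IsLocalHom (algebraMap (Localization.AtPrime p) Rh)]
    [Hensel.IsHenselization (Localization.AtPrime p) Rh] [Algebra R Rh]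
    [IsScalarTower R (Localization.AtPrime p) Rh] :
    Nonempty (Col R p.ResidueField ≃ₐ[R] Rh) := by
  haveI := isLocalRing_col R p.ResidueField
  have hu : ∀ s : p.primeCompl, IsUnit (algebraMap R (Col R p.ResidueField) s.1) := fun s =>
    isUnit_of_isUnit_ε (by
      rw [AlgHom.commutes]
      exact isUnit_iff_ne_zero.mpr fun h0 => s.2 (Ideal.algebraMap_residueField_eq_zero.mp h0))
  letI : Algebra (Localization.AtPrime p) (Col R p.ResidueField) :=
    (IsLocalization.lift (M := p.primeCompl) hu).toAlgebra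
  haveI : IsScalarTower R (Localization.AtPrime p) (Col R p.ResidueField) :=
    IsScalarTower.of_algebraMap_eq fun r => (IsLocalization.lift_eq (M := p.primeCompl) hu r).symm
  have hmax : maximalIdeal (Col R p.ResidueField) = RingHom.ker (ε R p.ResidueField) :=
    haveI := RingHom.ker_isMaximal_of_surjective _ (ε_surjective_prime p)
    (eq_maximalIdeal inferInstance).symm
  haveI : IsLocalHom (algebraMap (Localization.AtPrime p) (Col R p.ResidueField)) :=
    ((IsLocalRing.local_hom_TFAE _).out 0 2 rfl rfl).mpr (by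
      rw [← Localization.AtPrime.map_eq_maximalIdeal, Ideal.map_map,
        ← IsScalarTower.algebraMap_eq, hmax, ker_ε_prime])
  haveI : Hensel.IsHenselization (Localization.AtPrime p) (Col R p.ResidueField) :=
    { henselian := by
        haveI : HenselianRing (Col R p.ResidueField) (maximalIdeal (Col R p.ResidueField)) := by
          rw [hmax]
          exact henselianRing_ker_ε (ε_surjective_prime p)
        exact Groth.L05.henselianLocalRing_of_henselianRing
      universal := fun T _ _ f hf => by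
        letI : Algebra R T := (f.comp (algebraMap R (Localization.AtPrime p))).toAlgebra
        let τ : p.ResidueField →ₐ[R] T ⧸ maximalIdeal T :=
          Ideal.ResidueField.liftₐ p (Algebra.ofId R _)
            (fun r hr => by
              refine Ideal.Quotient.eq_zero_iff_mem.mpr ?_
              have : algebraMap R (Localization.AtPrime p) r ∈ maximalIdeal _ :=
                (IsLocalization.AtPrime.to_map_mem_maximal_iff _ p r).mpr hr
              exact ((IsLocalRing.local_hom_TFAE f).out 0 2 rfl rfl).mp hf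
                (Ideal.mem_map_of_mem f this))
            (fun s hs => ((IsLocalization.map_units (Localization.AtPrime p) (⟨s, hs⟩ : p.primeCompl)).map f).map
              (Ideal.Quotient.mk _))
        obtain ⟨g, hg, hgu⟩ := existsUnique_algHom (K := p.ResidueField) (maximalIdeal T) τ
        refine ⟨g.toRingHom, IsLocalization.ringHom_ext p.primeCompl (RingHom.ext fun r => ?_),
          fun g₂ hg₂ => ?_⟩
        · show g (algebraMap (Localization.AtPrime p) _ (algebraMap R _ r)) = _
          rw [← IsScalarTower.algebraMap_apply, AlgHom.commutes]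
          rfl
        · have hc : ∀ r, g₂ (algebraMap R _ r) = algebraMap R T r := fun r => by
            rw [IsScalarTower.algebraMap_apply R (Localization.AtPrime p) (Col R p.ResidueField),
              ← RingHom.comp_apply g₂, hg₂]
            rfl
          let g₂' : Col R p.ResidueField →ₐ[R] T := { g₂ with commutes' := hc }
          have hk : RingHom.ker (ε R p.ResidueField) ≤
              RingHom.ker ((Ideal.Quotient.mkₐ R (maximalIdeal T)).comp g₂') := by
            rw [ker_ε_prime, Ideal.map_le_iff_le_comap]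
            intro r hr
            show Ideal.Quotient.mk (maximalIdeal T) (g₂' (algebraMap R _ r)) = 0
            rw [AlgHom.commutes, ← Ideal.Quotient.algebraMap_eq, ← IsScalarTower.algebraMap_apply,
              ← τ.commutes, Ideal.algebraMap_residueField_eq_zero.mpr hr, map_zero]
          have : AlgHom.liftOfSurjective (ε R p.ResidueField) (ε_surjective_prime p) _ hk = τ :=
            Ideal.ResidueField.algHom_ext (Subsingleton.elim _ _)
          rw [← hgu g₂' (AlgHom.ext fun x => ?_)]
          rw [← this, AlgHom.comp_apply, AlgHom.comp_apply, AlgHom.liftOfSurjective_apply]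
          rfl }
  obtain ⟨e⟩ := isHenselization_algEquiv (R := Localization.AtPrime p)
    (S := Col R p.ResidueField) (S' := Rh)
  exact ⟨e.restrictScalars R⟩

theorem prime_henselization_colimit (Rh : Type u) [CommRing Rh] [IsLocalRing Rh]
    [Algebra (Localization.AtPrime p) Rh] [IsLocalHom (algebraMap (Localization.AtPrime p) Rh)]
    [Hensel.IsHenselization (Localization.AtPrime p) Rh] [Algebra R Rh]
    [IsScalarTower R (Localization.AtPrime p) Rh] :
    ∃ σ : Rh →ₐ[R] p.ResidueField, RingHom.ker σ = maximalIdeal Rh ∧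
      (∀ (S : Type u) [CommRing S] [Algebra R S] [Algebra.Etale R S]
        (φ : S →ₐ[R] p.ResidueField), ∃! f : S →ₐ[R] Rh, σ.comp f = φ) ∧
      (∀ x : Rh, ∃ (X : Obj R p.ResidueField) (f : X.R →ₐ[R] Rh) (s : X.R),
        σ.comp f = X.φ ∧ f s = x) ∧
      ∀ (S : Type u) [CommRing S] [Algebra R S] [Algebra.Etale R S] (f : S →ₐ[R] Rh) (s : S),
        f s = 0 → ∃ (Z : Obj R p.ResidueField) (g : S →ₐ[R] Z.R), Z.φ.comp g = σ.comp f ∧ g s = 0 := by
  obtain ⟨e⟩ := nonempty_algEquiv_atPrime p Rh
  let σ : Rh →ₐ[R] p.ResidueField := (ε R p.ResidueField).comp e.symm.toAlgHom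
  have hs : Function.Surjective σ := (ε_surjective_prime p).comp e.symm.surjective
  haveI := henselianRing_ker_ε (ε_surjective_prime p)
  have huniq : ∀ (S : Type u) [CommRing S] [Algebra R S] [Algebra.Etale R S]
      (f f' : S →ₐ[R] Col R p.ResidueField),
      (ε R p.ResidueField).comp f = (ε R p.ResidueField).comp f' → f = f' := by
    intro S _ _ _ f f' h
    refine (existsUnique_algHom_lift_etale (RingHom.ker (ε R p.ResidueField))
      ((Ideal.Quotient.mkₐ R _).comp f)).unique rfl (AlgHom.ext fun x => ?_)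
    refine Ideal.Quotient.eq.mpr ?_
    rw [RingHom.mem_ker, map_sub, sub_eq_zero]
    exact (DFunLike.congr_fun h x).symm
  have hu : ∀ (S : Type u) [CommRing S] [Algebra R S] [Algebra.Etale R S]
      (φ : S →ₐ[R] p.ResidueField), ∃! f : S →ₐ[R] Rh, σ.comp f = φ := by
    intro S _ _ _ φ
    obtain ⟨g, hg⟩ := range_ι_of_etale (K := p.ResidueField) φ
    refine ⟨e.toAlgHom.comp g, AlgHom.ext fun x => ?_, fun f hf => ?_⟩
    · show ε R p.ResidueField (e.symm (e (g x))) = φ x
      rw [e.symm_apply_apply]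
      exact DFunLike.congr_fun hg x
    · have h1 : e.symm.toAlgHom.comp f = g := huniq S _ _ (hf.trans hg.symm)
      exact AlgHom.ext fun x => by
        rw [← h1]
        exact (e.apply_symm_apply (f x)).symm
  refine ⟨σ, ?_, hu, fun x => ?_, fun S _ _ _ f s hfs => ?_⟩
  · haveI := RingHom.ker_isMaximal_of_surjective σ hs
    exact eq_maximalIdeal inferInstance
  · obtain ⟨X, s, hX⟩ := ι_surj (e.symm x)
    refine ⟨X, e.toAlgHom.comp (ι X), s, AlgHom.ext fun y => ?_, ?_⟩
    · show ε R p.ResidueField (e.symm (e (ι X y))) = X.φ y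
      rw [e.symm_apply_apply, ε_ι]
    · show e (ι X s) = x
      rw [hX, e.apply_symm_apply]
  · obtain ⟨X, e', he'⟩ := Obj.exists_obj S (σ.comp f)
    have h1 : e.symm.toAlgHom.comp f = (ι X).comp e'.toAlgHom := huniq S _ _ <| by
      refine AlgHom.ext fun y => ?_
      show σ (f y) = ε R p.ResidueField (ι X (e' y))
      rw [ε_ι]
      exact (DFunLike.congr_fun he' y).symm
    have h2 : ι X (e' s) = ι X 0 := by
      rw [map_zero]
      refine (DFunLike.congr_fun h1 s).symm.trans ?_
      show e.symm (f s) = 0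
      rw [hfs, map_zero]
    obtain ⟨Z, c, hc⟩ := ι_eq h2
    refine ⟨Z, c.1.comp e'.toAlgHom, by rw [← AlgHom.comp_assoc, c.2, he'], ?_⟩
    show c.1 (e' s) = 0
    rw [hc, map_zero]

end Groth.L05.Henselization
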