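import Groth.Agent.L05.Hensel.IntegralDomain
import Groth.Agent.L20.NormalWE
import Groth.Agent.L27.IndEtale
import Groth.Agent.L05.Henselization.StrictUniq
import Groth.Prelude.Def_CAlg2
import Mathlib.RingTheory.Localization.BaseChange
import Mathlib.RingTheory.TensorProduct.Quotient
import Mathlib.FieldTheory.IsAlgClosed.AlgebraicClosure
import Mathlib.FieldTheory.PurelyInseparable.Basic

/-!
# Integral extensions tensored with (strict) henselizations
-/

set_option autoImplicit false
set_option linter.style.haveILetI false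

open IsLocalRing TensorProduct

namespace Groth.L05.Henselization.Branches

universe u

variable (R S N : Type u) [CommRing R] [IsLocalRing R] [CommRing S] [IsLocalRing S] [Algebra R S]
  [CommRing N] [Algebra R N] [Algebra.IsIntegral R N]

theorem nontrivial_tensor [IsLocalHom (algebraMap R S)] [Module.Flat R S] [Nontrivial N] :
    Nontrivial (N ⊗[R] S) := by
  haveI : Module.FaithfullyFlat R S := Module.FaithfullyFlat.of_flat_of_isLocalHom
  exact Module.FaithfullyFlat.lTensor_nontrivial R S N |> fun _ =>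
    (TensorProduct.comm R N S).toEquiv.nontrivial

/-- The contraction to `N` of a maximal ideal of `N ⊗ S` is maximal, and the one to `S` is the maximal
ideal. -/
theorem comap_maximal [IsLocalHom (algebraMap R S)] (P : Ideal (N ⊗[R] S)) [P.IsMaximal] :
    P.comap (Algebra.TensorProduct.includeRight : S →ₐ[R] N ⊗[R] S) = maximalIdeal S ∧
      (P.comap (Algebra.TensorProduct.includeLeftRingHom : N →+* N ⊗[R] S)).IsMaximal := by
  letI : Algebra S (N ⊗[R] S) := Algebra.TensorProduct.rightAlgebra
  haveI : Algebra.IsIntegral S (N ⊗[R] S) := by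
    refine ⟨fun z => ?_⟩
    have h := Algebra.IsIntegral.isIntegral (R := S) ((Algebra.TensorProduct.comm R N S) z)
    let e : S ⊗[R] N →ₐ[S] N ⊗[R] S :=
      { (Algebra.TensorProduct.comm R S N).toRingEquiv.toRingHom with
        commutes' := fun s => by
          show Algebra.TensorProduct.comm R S N (s ⊗ₜ[R] 1) = _
          rfl }
    have h' := h.map e
    rwa [show e (Algebra.TensorProduct.comm R N S z) = z from
      (Algebra.TensorProduct.comm R N S).symm_apply_apply z] at h'
  have hS : P.comap (algebraMap S (N ⊗[R] S)) = maximalIdeal S :=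
    eq_maximalIdeal (Ideal.isMaximal_comap_of_isIntegral_of_isMaximal P)
  refine ⟨hS, Ideal.isMaximal_of_isIntegral_of_isMaximal_comap (R := R) _ ?_⟩
  have : (P.comap (Algebra.TensorProduct.includeLeftRingHom : N →+* N ⊗[R] S)).comap (algebraMap R N) =
      (P.comap (algebraMap S (N ⊗[R] S))).comap (algebraMap R S) := by
    rw [Ideal.comap_comap, Ideal.comap_comap]
    congr 1
    exact RingHom.ext fun r =>
      (Algebra.TensorProduct.includeLeft : N →ₐ[R] N ⊗[R] S).commutes r |>.trans
        ((Algebra.TensorProduct.includeRight : S →ₐ[R] N ⊗[R] S).commutes r).symm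
  rw [this, hS, show (maximalIdeal S).comap (algebraMap R S) = maximalIdeal R from
    ((IsLocalRing.local_hom_TFAE (algebraMap R S)).out 0 4 rfl rfl).mp inferInstance]
  infer_instance

theorem exists_maximal_over [IsLocalHom (algebraMap R S)] [Module.Flat R S] (M : Ideal N) [M.IsMaximal] :
    ∃ P : Ideal (N ⊗[R] S), P.IsMaximal ∧
      P.comap (Algebra.TensorProduct.includeLeftRingHom : N →+* N ⊗[R] S) = M := by
  haveI : Module.FaithfullyFlat R S := Module.FaithfullyFlat.of_flat_of_isLocalHom
  haveI : Module.FaithfullyFlat N (N ⊗[R] S) := inferInstance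
  obtain ⟨⟨Q, hQ⟩, hQM⟩ := PrimeSpectrum.comap_surjective_of_faithfullyFlat (B := N ⊗[R] S)
    (⟨M, inferInstance⟩ : PrimeSpectrum N)
  have hQM' : Q.comap (algebraMap N (N ⊗[R] S)) = M := congrArg PrimeSpectrum.asIdeal hQM
  obtain ⟨P, hP, hQP⟩ := Ideal.exists_le_maximal Q hQ.ne_top
  haveI := hP
  refine ⟨P, hP, ((Ideal.IsMaximal.eq_of_le ‹M.IsMaximal› (Ideal.comap_ne_top _ hP.ne_top) ?_)).symm⟩
  exact hQM' ▸ Ideal.comap_mono hQP

theorem isLocalRing_of_local_tensor [IsLocalHom (algebraMap R S)] [Module.Flat R S]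
    [IsLocalRing (N ⊗[R] S)] : IsLocalRing N := by
  haveI : Nontrivial N := by
    by_contra h
    rw [not_nontrivial_iff_subsingleton] at h
    exact false_of_nontrivial_of_subsingleton (N ⊗[R] S)
  obtain ⟨M, hM⟩ := Ideal.exists_maximal N
  refine IsLocalRing.of_unique_max_ideal ⟨M, hM, fun M' hM' => ?_⟩
  haveI := hM
  haveI := hM'
  obtain ⟨P, hP, hPM⟩ := exists_maximal_over R S N M
  obtain ⟨P', hP', hPM'⟩ := exists_maximal_over R S N M'
  rw [← hPM, ← hPM', eq_maximalIdeal hP, eq_maximalIdeal hP']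

/-- If every residue class of the base has a power coming from `S` on each factor, the tensor is local. -/
theorem isLocalRing_tensor_of_pi [IsLocalHom (algebraMap R S)] [Module.Flat R S] [IsLocalRing N]
    (hpi : ∀ x : ResidueField N, ∃ n : ℕ, x ^ (ringExpChar (ResidueField N)) ^ n ∈
      ((residue N).comp (algebraMap R N)).range) : IsLocalRing (N ⊗[R] S) := by
  haveI := nontrivial_tensor R S N
  obtain ⟨P₀, hP₀⟩ := Ideal.exists_maximal (N ⊗[R] S)
  refine IsLocalRing.of_unique_max_ideal ⟨P₀, hP₀, fun P hP => ?_⟩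
  haveI := hP₀
  haveI := hP
  let iN : N →+* N ⊗[R] S := Algebra.TensorProduct.includeLeftRingHom
  let iS : S →+* N ⊗[R] S := (Algebra.TensorProduct.includeRight : S →ₐ[R] N ⊗[R] S).toRingHom
  let J : Ideal (N ⊗[R] S) := (maximalIdeal N).map iN ⊔ (maximalIdeal S).map iS
  have hJ : ∀ Q : Ideal (N ⊗[R] S), Q.IsMaximal → J ≤ Q := fun Q hQ => by
    haveI := hQ
    obtain ⟨h1, h2⟩ := comap_maximal R S N Q
    exact sup_le (Ideal.map_le_iff_le_comap.mpr (eq_maximalIdeal h2).ge) (Ideal.map_le_iff_le_comap.mpr h1.ge)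
  haveI : Nontrivial ((N ⊗[R] S) ⧸ J) :=
    Ideal.Quotient.nontrivial_iff.mpr (ne_top_of_le_ne_top hP₀.ne_top (hJ P₀ hP₀))
  let q := ringExpChar (ResidueField N)
  haveI : ExpChar (ResidueField N) q := inferInstance
  let φ : ResidueField N →+* (N ⊗[R] S) ⧸ J :=
    Ideal.Quotient.lift (maximalIdeal N) ((Ideal.Quotient.mk J).comp iN) fun a ha =>
      Ideal.Quotient.eq_zero_iff_mem.mpr (Ideal.mem_sup_left (Ideal.mem_map_of_mem _ ha))
  haveI : ExpChar ((N ⊗[R] S) ⧸ J) q := expChar_of_injective_ringHom φ.injective q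
  have hpow : ∀ z : N ⊗[R] S, ∃ (n : ℕ) (s : S), z ^ q ^ n - iS s ∈ J := by
    intro z
    induction z using TensorProduct.induction_on with
    | zero => exact ⟨0, 0, by simp⟩
    | tmul a s =>
      obtain ⟨n, b, hb⟩ := hpi (residue N a)
      refine ⟨n, algebraMap R S b * s ^ q ^ n, ?_⟩
      have h1 : a ^ q ^ n - algebraMap R N b ∈ maximalIdeal N := by
        rw [← residue_eq_zero_iff, map_sub, map_pow, show residue N (algebraMap R N b) = _ from hb, sub_self]
      have h2 : (a ⊗ₜ[R] s) ^ q ^ n - iS (algebraMap R S b * s ^ q ^ n) =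
          iN (a ^ q ^ n - algebraMap R N b) * iS (s ^ q ^ n) := by
        show _ - (1 : N) ⊗ₜ[R] _ = ((a ^ q ^ n - algebraMap R N b) ⊗ₜ[R] (1 : S)) * ((1 : N) ⊗ₜ[R] (s ^ q ^ n))
        rw [Algebra.TensorProduct.tmul_pow, Algebra.TensorProduct.tmul_mul_tmul, one_mul, mul_one,
          sub_tmul, ← Algebra.smul_def b (s ^ q ^ n), tmul_smul, smul_tmul', ← Algebra.algebraMap_eq_smul_one]
      rw [h2]
      exact Ideal.mul_mem_right _ _ (Ideal.mem_sup_left (Ideal.mem_map_of_mem _ h1))
    | add x y hx hy =>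
      obtain ⟨m, s, hs⟩ := hx
      obtain ⟨n, t, ht⟩ := hy
      refine ⟨m + n, s ^ q ^ n + t ^ q ^ m, ?_⟩
      rw [← Ideal.Quotient.eq, map_pow] at hs ht
      rw [← Ideal.Quotient.eq, map_pow, map_add, add_pow_expChar_pow, map_add, map_add, map_pow, map_pow,
        map_pow, map_pow, ← hs, ← ht, ← pow_mul, ← pow_mul, ← pow_add, ← pow_add, add_comm n m]
  have key : ∀ Q : Ideal (N ⊗[R] S), Q.IsMaximal → ∀ Q' : Ideal (N ⊗[R] S), Q'.IsMaximal → Q ≤ Q' := by
    intro Q hQ Q' hQ' z hz
    haveI := hQ
    haveI := hQ'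
    obtain ⟨n, s, hs⟩ := hpow z
    have hq0 : q ^ n ≠ 0 := (pow_pos (expChar_pos (ResidueField N) q) n).ne'
    have hsQ : iS s ∈ Q := by
      simpa using Q.sub_mem (Q.pow_mem_of_mem hz _ (Nat.pos_of_ne_zero hq0)) (hJ Q hQ hs)
    have hsm : s ∈ maximalIdeal S := (comap_maximal R S N Q).1 ▸ hsQ
    have : z ^ q ^ n ∈ J := by
      simpa using J.add_mem hs (Ideal.mem_sup_right (Ideal.mem_map_of_mem iS hsm))
    exact hQ'.isPrime.mem_of_pow_mem _ (hJ Q' hQ' this)
  exact le_antisymm (key P hP P₀ hP₀) (key P₀ hP₀ P hP)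

theorem isLocalRing_tensor_of_surjective [IsLocalHom (algebraMap R S)] [Module.Flat R S] [IsLocalRing N]
    (hres : ∀ s : S, ∃ a : R, s - algebraMap R S a ∈ maximalIdeal S) : IsLocalRing (N ⊗[R] S) := by
  haveI := nontrivial_tensor R S N
  obtain ⟨P₀, hP₀⟩ := Ideal.exists_maximal (N ⊗[R] S)
  refine IsLocalRing.of_unique_max_ideal ⟨P₀, hP₀, fun P hP => ?_⟩
  haveI := hP₀
  haveI := hP
  let iN : N →+* N ⊗[R] S := Algebra.TensorProduct.includeLeftRingHom
  have hval : ∀ z : N ⊗[R] S, ∃ r : N, ∀ Q : Ideal (N ⊗[R] S), Q.IsMaximal → z - iN r ∈ Q := by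
    intro z
    induction z using TensorProduct.induction_on with
    | zero => exact ⟨0, fun Q _ => by simp⟩
    | tmul a s =>
      obtain ⟨b, hb⟩ := hres s
      refine ⟨b • a, fun Q hQ => ?_⟩
      haveI := hQ
      have h1 : (1 : N) ⊗ₜ[R] (s - algebraMap R S b) ∈ Q := (comap_maximal R S N Q).1.ge hb
      have h2 : a ⊗ₜ[R] s - iN (b • a) = (a ⊗ₜ[R] (1 : S)) * ((1 : N) ⊗ₜ[R] (s - algebraMap R S b)) := by
        show _ - (b • a) ⊗ₜ[R] (1 : S) = _
        rw [Algebra.TensorProduct.tmul_mul_tmul, mul_one, one_mul, tmul_sub, Algebra.algebraMap_eq_smul_one,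
          smul_tmul]
      exact h2 ▸ Q.mul_mem_left _ h1
    | add x y hx hy =>
      obtain ⟨r, hr⟩ := hx
      obtain ⟨t, ht⟩ := hy
      exact ⟨r + t, fun Q hQ => by rw [map_add, add_sub_add_comm]; exact Q.add_mem (hr Q hQ) (ht Q hQ)⟩
  have key : ∀ Q : Ideal (N ⊗[R] S), Q.IsMaximal → ∀ Q' : Ideal (N ⊗[R] S), Q'.IsMaximal → Q ≤ Q' := by
    intro Q hQ Q' hQ' z hz
    haveI := hQ
    haveI := hQ'
    obtain ⟨r, hr⟩ := hval z
    have hrQ : iN r ∈ Q := by simpa using Q.sub_mem hz (hr Q hQ)
    have hrm : r ∈ maximalIdeal N := eq_maximalIdeal (comap_maximal R S N Q).2 ▸ hrQ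
    have hrQ' : iN r ∈ Q' := (eq_maximalIdeal (comap_maximal R S N Q').2).ge hrm
    simpa using Q'.add_mem (hr Q' hQ') hrQ'
  exact le_antisymm (key P hP P₀ hP₀) (key P₀ hP₀ P hP)

theorem isDomain_of_local_tensor [IsLocalHom (algebraMap R S)] [Module.Flat R S] [Algebra.WeaklyEtale R S]
    [IsDomain N] [IsIntegrallyClosed N] [IsLocalRing N] (hinj : Function.Injective (algebraMap R N))
    [IsLocalRing (N ⊗[R] S)] : IsDomain S := by
  haveI : IsLocalHom (algebraMap N (N ⊗[R] S)) :=
    ((IsLocalRing.local_hom_TFAE _).out 0 4 rfl rfl).mpr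
      (eq_maximalIdeal (comap_maximal R S N (maximalIdeal (N ⊗[R] S))).2)
  haveI := (Groth.L20.NormalWE.isNormal N (N ⊗[R] S)).1
  refine Function.Injective.isDomain
    ((Algebra.TensorProduct.includeRight : S →ₐ[R] N ⊗[R] S).toRingHom) ?_
  intro a b hab
  have h := Module.Flat.rTensor_preserves_injective_linearMap (M := S) (Algebra.linearMap R N) hinj
  have hab' : (Algebra.linearMap R N).rTensor S ((TensorProduct.lid R S).symm a) =
      (Algebra.linearMap R N).rTensor S ((TensorProduct.lid R S).symm b) := by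
    simpa using hab
  exact (TensorProduct.lid R S).symm.injective (h hab')

theorem isDomain_tensor_of_isDomain [IsDomain R] [IsDomain S] [Module.Flat R S] [IsLocalHom (algebraMap R S)]
    (K : Type u) [Field K] [Algebra R K] [IsFractionRing R K] (j : N →ₐ[R] K) (hj : Function.Injective j) :
    IsDomain (N ⊗[R] S) := by
  haveI : Module.FaithfullyFlat R S := Module.FaithfullyFlat.of_flat_of_isLocalHom
  have hinjS : Function.Injective (algebraMap R S) := FaithfulSMul.algebraMap_injective R S
  haveI : IsLocalization (Algebra.algebraMapSubmonoid S (nonZeroDivisors R)) (S ⊗[R] K) :=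
    IsLocalization.tensor K (nonZeroDivisors R)
  haveI : IsDomain (S ⊗[R] K) := IsLocalization.isDomain_of_le_nonZeroDivisors
    (S := S ⊗[R] K) (M := Algebra.algebraMapSubmonoid S (nonZeroDivisors R)) (by
      rintro _ ⟨r, hr, rfl⟩
      exact mem_nonZeroDivisors_of_ne_zero
        ((map_ne_zero_iff _ hinjS).mpr (nonZeroDivisors.ne_zero hr)))
  exact Function.Injective.isDomain
    (((Algebra.TensorProduct.comm R K S).toAlgHom.comp
      (Algebra.TensorProduct.map j (AlgHom.id R S))).toRingHom)
    ((Algebra.TensorProduct.comm R K S).injective.comp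
      (Module.Flat.rTensor_preserves_injective_linearMap (M := S) j.toLinearMap hj))

theorem isLocalRing_tensor_of_isDomain [IsLocalHom (algebraMap R S)] [HenselianLocalRing S]
    [IsDomain (N ⊗[R] S)] : IsLocalRing (N ⊗[R] S) := by
  letI : Algebra S (N ⊗[R] S) := Algebra.TensorProduct.rightAlgebra
  haveI : Algebra.IsIntegral S (N ⊗[R] S) := by
    refine ⟨fun z => ?_⟩
    have h := Algebra.IsIntegral.isIntegral (R := S) ((Algebra.TensorProduct.comm R N S) z)
    let e : S ⊗[R] N →ₐ[S] N ⊗[R] S :=
      { (Algebra.TensorProduct.comm R S N).toRingEquiv.toRingHom with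
        commutes' := fun s => by
          show Algebra.TensorProduct.comm R S N (s ⊗ₜ[R] 1) = _
          rfl }
    have h' := h.map e
    rwa [show e (Algebra.TensorProduct.comm R N S z) = z from
      (Algebra.TensorProduct.comm R N S).symm_apply_apply z] at h'
  exact Groth.L05.isLocalRing_of_integral_domain (A := S) (N ⊗[R] S)


theorem residue_pi_of_isLocalRing_tensor [IsLocalHom (algebraMap R S)] [hS : Hensel.IsStrictHenselization R S]
    [Module.Flat R S] [IsLocalRing N] [IsLocalHom (algebraMap R N)] [IsLocalRing (N ⊗[R] S)] :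
    ∀ x : ResidueField N, ∃ n : ℕ, x ^ (ringExpChar (ResidueField N)) ^ n ∈
      ((residue N).comp (algebraMap R N)).range := by
  classical
  let T := N ⊗[R] S
  let k := ResidueField R
  let kS := ResidueField S
  let kN := ResidueField N
  letI : Algebra S T := Algebra.TensorProduct.rightAlgebra
  haveI : Algebra.IsIntegral S T := by
    refine ⟨fun z => ?_⟩
    have h := Algebra.IsIntegral.isIntegral (R := S) ((Algebra.TensorProduct.comm R N S) z)
    let e : S ⊗[R] N →ₐ[S] T :=
      { (Algebra.TensorProduct.comm R S N).toRingEquiv.toRingHom with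
        commutes' := fun s => by
          show Algebra.TensorProduct.comm R S N (s ⊗ₜ[R] 1) = _
          rfl }
    have h' := h.map e
    rwa [show e (Algebra.TensorProduct.comm R N S z) = z from
      (Algebra.TensorProduct.comm R N S).symm_apply_apply z] at h'
  obtain ⟨hmS, -⟩ := comap_maximal R S N (maximalIdeal T)
  haveI : IsLocalHom (algebraMap S T) :=
    ((IsLocalRing.local_hom_TFAE _).out 0 4 rfl rfl).mpr hmS
  haveI : Algebra.IsSeparable k kS := hS.isSepClosure.separable
  haveI : IsSepClosed kS := hS.isSepClosure.sep_closed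
  haveI : Algebra.IsAlgebraic kS (ResidueField T) := by
    haveI : IsScalarTower S kS (ResidueField T) :=
      IsScalarTower.of_algebraMap_eq fun s => (ResidueField.map_residue _ s).symm
    haveI : Algebra.IsIntegral S (ResidueField T) := ⟨fun z => by
      obtain ⟨a, rfl⟩ := Ideal.Quotient.mk_surjective z
      exact (Algebra.IsIntegral.isIntegral (R := S) a).map (IsScalarTower.toAlgHom S T (ResidueField T))⟩
    haveI : Algebra.IsIntegral kS (ResidueField T) := Algebra.IsIntegral.tower_top (R := S)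
    infer_instance
  haveI := Groth.L05.isPurelyInseparable_of_isSepClosed_base kS (ResidueField T)
  let Ω := AlgebraicClosure kN
  let τ : kS →ₐ[k] Ω := IsAlgClosed.lift
  have huniq : ∀ σ σ' : kN →ₐ[k] Ω, σ = σ' := by
    intro σ σ'
    have mk : ∀ σ : kN →ₐ[k] Ω, ∃ ρ : ResidueField T →+* Ω,
        (∀ a : N, ρ (residue T (a ⊗ₜ[R] (1 : S))) = σ (residue N a)) ∧
        ∀ s : kS, ρ (algebraMap kS (ResidueField T) s) = τ s := by
      intro σ
      letI : Algebra R Ω := ((algebraMap k Ω).comp (residue R)).toAlgebra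
      let f : N →ₐ[R] Ω :=
        { (σ.toRingHom.comp (residue N)) with
          commutes' := fun r => by
            show σ (residue N (algebraMap R N r)) = algebraMap k Ω (residue R r)
            rw [← σ.commutes]
            rfl }
      let g : S →ₐ[R] Ω :=
        { (τ.toRingHom.comp (residue S)) with
          commutes' := fun r => by
            show τ (residue S (algebraMap R S r)) = algebraMap k Ω (residue R r)
            rw [← τ.commutes]
            rfl }
      let φ : T →ₐ[R] Ω := Algebra.TensorProduct.lift f g fun _ _ => Commute.all _ _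
      have hφN : ∀ a : N, φ (a ⊗ₜ[R] (1 : S)) = σ (residue N a) := fun a => by
        refine (Algebra.TensorProduct.lift_tmul _ _ _ a 1).trans ?_
        rw [map_one, mul_one]
        rfl
      have hφS : ∀ s : S, φ ((1 : N) ⊗ₜ[R] s) = τ (residue S s) := fun s => by
        refine (Algebra.TensorProduct.lift_tmul _ _ _ 1 s).trans ?_
        rw [map_one, one_mul]
        rfl
      haveI : (RingHom.ker φ.toRingHom).IsPrime := RingHom.ker_isPrime _
      have hker : maximalIdeal T ≤ RingHom.ker φ.toRingHom := by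
        have : (RingHom.ker φ.toRingHom).IsMaximal := by
          refine Ideal.isMaximal_of_isIntegral_of_isMaximal_comap (R := S) _ ?_
          have heq : (RingHom.ker φ.toRingHom).comap (algebraMap S T) = maximalIdeal S := by
            ext s
            show φ ((1 : N) ⊗ₜ[R] s) = 0 ↔ _
            rw [hφS, map_eq_zero τ, residue_eq_zero_iff]
          rw [heq]
          infer_instance
        exact (eq_maximalIdeal this).ge
      refine ⟨Ideal.Quotient.lift (maximalIdeal T) φ.toRingHom fun a ha => hker ha, fun a => hφN a,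
        fun s => ?_⟩
      obtain ⟨s, rfl⟩ := residue_surjective s
      exact hφS s
    obtain ⟨ρ, hρN, hρS⟩ := mk σ
    obtain ⟨ρ', hρN', hρS'⟩ := mk σ'
    have hρ : ∀ x, ρ x = ρ' x := by
      intro x
      let q := ringExpChar kS
      haveI : ExpChar Ω q := expChar_of_injective_ringHom τ.toRingHom.injective q
      obtain ⟨n, y, hy⟩ := IsPurelyInseparable.pow_mem kS q x
      refine iterateFrobenius_inj Ω q n ?_
      rw [iterateFrobenius_def, iterateFrobenius_def, ← map_pow, ← map_pow, ← hy, hρS, hρS']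
    refine AlgHom.ext fun x => ?_
    obtain ⟨a, rfl⟩ := residue_surjective x
    rw [← hρN, hρ, hρN']
  haveI : Algebra.IsAlgebraic k kN := by
    haveI : IsScalarTower R k kN := IsScalarTower.of_algebraMap_eq fun r => rfl
    haveI : Algebra.IsIntegral R kN := ⟨fun z => by
      obtain ⟨a, rfl⟩ := Ideal.Quotient.mk_surjective z
      exact (Algebra.IsIntegral.isIntegral (R := R) a).map (IsScalarTower.toAlgHom R N kN)⟩
    haveI : Algebra.IsIntegral k kN := Algebra.IsIntegral.tower_top (R := R)
    infer_instance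
  haveI : Subsingleton (Field.Emb k kN) := ⟨huniq⟩
  haveI : IsPurelyInseparable k kN :=
    (isPurelyInseparable_iff_finSepDegree_eq_one (F := k) (E := kN)).mpr Nat.card_unique
  intro x
  haveI : ExpChar k (ringExpChar kN) :=
    RingHom.expChar (algebraMap k kN) (algebraMap k kN).injective (ringExpChar kN)
  obtain ⟨n, y, hy⟩ := IsPurelyInseparable.pow_mem k (ringExpChar kN) x
  obtain ⟨r, rfl⟩ := residue_surjective y
  exact ⟨n, r, hy⟩

end Groth.L05.Henselization.Branches
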