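import Groth.Agent.L05.Henselization.Noeth
import Groth.Agent.L03.CatenaryColim
import Groth.Agent.L18.UnivCatenary

/-!
# (Strict) henselizations of universally catenary local rings
-/

open IsLocalRing

namespace Groth.L05.Henselization

universe u

theorem isUniversallyCatenary_col (R K : Type u) [CommRing R] [IsLocalRing R] [Field K]
    [Algebra (ResidueField R) K] [Algebra R K] [IsScalarTower R (ResidueField R) K]
    [Algebra.IsSeparable (ResidueField R) K] (h : CAlg.IsUniversallyCatenary R) :
    CAlg.IsUniversallyCatenary (Col R K) := by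
  classical
  haveI : IsNoetherianRing R := h.1
  haveI := isNoetherianRing_col R K
  haveI : ∀ X : Obj R K, (RingHom.ker X.φ).IsPrime := fun X => RingHom.ker_isPrime _
  have hu : ∀ (X : Obj R K) (t : (RingHom.ker X.φ).primeCompl), IsUnit ((ι X).toRingHom t.1) := fun X t =>
    isUnit_of_isUnit_ε (by
      show IsUnit (ε R K (ι X t.1))
      rw [ε_ι]
      exact isUnit_iff_ne_zero.mpr t.2)
  let φ : ∀ X : Obj R K, Localization.AtPrime (RingHom.ker X.φ) →+* Col R K := fun X => IsLocalization.lift (M := (RingHom.ker X.φ).primeCompl) (hu X)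
  have hflat : ∀ X : Obj R K,
      RingHom.Flat (R := Localization.AtPrime (RingHom.ker X.φ)) (S := Col R K) (φ X) := fun X => by
    letI : Algebra X.R (Col R K) := (ι X).toRingHom.toAlgebra
    letI : Algebra (Localization.AtPrime (RingHom.ker X.φ)) (Col R K) := (φ X).toAlgebra
    haveI : IsScalarTower X.R (Localization.AtPrime (RingHom.ker X.φ)) (Col R K) :=
      IsScalarTower.of_algebraMap_eq fun z => (IsLocalization.lift_eq (hu X) z).symm
    haveI : Module.Flat X.R (Col R K) := flat_ι X
    exact (Module.flat_iff_of_isLocalization (R := X.R) (Localization.AtPrime (RingHom.ker X.φ))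
      (RingHom.ker X.φ).primeCompl (M := Col R K)).mpr inferInstance
  have hrange : ∀ s : Finset (Col R K), ∃ X, (s : Set (Col R K)) ⊆ Set.range (φ X) := fun s => by
    obtain ⟨X, hX⟩ := exists_lift_finset s
    refine ⟨X, fun b hb => ?_⟩
    obtain ⟨y, hy⟩ := hX b hb
    exact ⟨algebraMap X.R _ y, (IsLocalization.lift_eq (hu X) y).trans hy⟩
  have hG : ∀ X : Obj R K, CAlg.IsUniversallyCatenary (Localization.AtPrime (RingHom.ker X.φ)) := fun X => by
    haveI : Algebra.EssFiniteType X.R (Localization.AtPrime (RingHom.ker X.φ)) :=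
      Algebra.EssFiniteType.of_isLocalization _ (RingHom.ker X.φ).primeCompl
    haveI : Algebra.EssFiniteType R (Localization.AtPrime (RingHom.ker X.φ)) :=
      Algebra.EssFiniteType.comp R X.R _
    exact Groth.L18.Cat.isUniversallyCatenary_of_essFiniteType h _
  exact ⟨inferInstance, fun S _ _ _ => Groth.L03.CatenaryColim.isCatenary_finiteType (G := fun X : Obj R K => Localization.AtPrime (RingHom.ker X.φ)) φ hflat hrange hG S⟩

theorem isUniversallyCatenary_of_ringEquiv {R S : Type u} [CommRing R] [CommRing S] (e : R ≃+* S)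
    (h : CAlg.IsUniversallyCatenary R) : CAlg.IsUniversallyCatenary S := by
  haveI := h.1
  letI := e.toRingHom.toAlgebra
  haveI : Algebra.FiniteType R S :=
    Algebra.FiniteType.of_surjective (Algebra.ofId R S) e.surjective
  exact Groth.L18.Cat.isUniversallyCatenary_of_essFiniteType h _

end Groth.L05.Henselization
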