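import Groth.Agent.L05.Hensel.Pairs
import Groth.Agent.L05.Hensel.Homs
import Groth.Agent.L05.Hensel.Perm
import Groth.Agent.L27.IndEtalePerm
import Mathlib.RingTheory.Etale.StandardEtale
import Mathlib.RingTheory.Etale.Basic
import Mathlib.RingTheory.Unramified.Finite
import Mathlib.Algebra.Category.Ring.Colimits
import Mathlib.Algebra.Category.Ring.FilteredColimits
import Mathlib.CategoryTheory.Limits.Types.Filtered
import Mathlib.Algebra.Polynomial.Lifts

/-!
# The filtered colimit of étale `A`-algebras equipped with a map to `K`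

For an `A`-algebra `K` the category of étale `A`-algebras with an `A`-map to `K` is filtered; its
colimit `Col A K` satisfies Hensel's lemma along `ε : Col A K → K`.
-/

open CategoryTheory CategoryTheory.Limits TensorProduct Polynomial

namespace Groth.L05.Henselization

universe u

variable (A K : Type u) [CommRing A] [CommRing K] [Algebra A K]

/-- A presented étale algebra with a map to `K`. -/
structure Obj : Type u where
  /-- number of generators -/
  n : ℕ
  /-- relations -/
  rel : Ideal (MvPolynomial (Fin n) A)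
  etale : Algebra.Etale A (MvPolynomial (Fin n) A ⧸ rel)
  /-- the map to `K` -/
  φ : (MvPolynomial (Fin n) A ⧸ rel) →ₐ[A] K

namespace Obj

variable {A K}

/-- The underlying algebra. -/
abbrev R (X : Obj A K) : Type u := MvPolynomial (Fin X.n) A ⧸ X.rel

instance (X : Obj A K) : Algebra.Etale A X.R := X.etale

noncomputable instance : Category (Obj A K) where
  Hom X Y := {f : X.R →ₐ[A] Y.R // Y.φ.comp f = X.φ}
  id X := ⟨AlgHom.id A _, AlgHom.comp_id _⟩
  comp f g := ⟨g.1.comp f.1, by rw [← AlgHom.comp_assoc, g.2, f.2]⟩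

theorem exists_obj (E : Type u) [CommRing E] [Algebra A E] [Algebra.Etale A E]
    (ψ : E →ₐ[A] K) : ∃ (X : Obj A K) (e : E ≃ₐ[A] X.R), X.φ.comp e.toAlgHom = ψ := by
  obtain ⟨n, π, hπ, -⟩ := Algebra.FinitePresentation.out (R := A) (A := E)
  let e := (Ideal.quotientKerAlgEquivOfSurjective hπ).symm
  refine ⟨⟨n, RingHom.ker π, Algebra.Etale.of_equiv e, ψ.comp e.symm.toAlgHom⟩, e, ?_⟩
  ext x
  exact congrArg ψ (e.symm_apply_apply x)

theorem exists_hom {X : Obj A K} (E : Type u) [CommRing E] [Algebra A E] [Algebra.Etale A E]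
    (ψ : E →ₐ[A] K) (g : X.R →ₐ[A] E) (hg : ψ.comp g = X.φ) :
    ∃ (Y : Obj A K) (e : E ≃ₐ[A] Y.R) (f : X ⟶ Y), Y.φ.comp e.toAlgHom = ψ ∧
      f.1 = e.toAlgHom.comp g := by
  obtain ⟨Y, e, he⟩ := exists_obj E ψ
  exact ⟨Y, e, ⟨e.toAlgHom.comp g, by rw [← AlgHom.comp_assoc, he, hg]⟩, he, rfl⟩

instance : IsFiltered (Obj A K) := by
  refine { cocone_objs := fun X Y => ?_, cocone_maps := fun X Y f g => ?_, nonempty := ?_ }
  · haveI : Algebra.Etale A (X.R ⊗[A] Y.R) := Algebra.Etale.comp A X.R _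
    obtain ⟨Z, e, he⟩ := exists_obj (X.R ⊗[A] Y.R)
      (Algebra.TensorProduct.lift X.φ Y.φ fun _ _ => Commute.all _ _)
    refine ⟨Z, ⟨e.toAlgHom.comp Algebra.TensorProduct.includeLeft, ?_⟩,
      ⟨e.toAlgHom.comp Algebra.TensorProduct.includeRight, ?_⟩, trivial⟩ <;>
    · rw [← AlgHom.comp_assoc, he]
      ext x
      simp
  · let d : Y.R := Algebra.TensorProduct.lift f.1 g.1 (fun _ _ => Commute.all _ _)
      (Algebra.FormallyUnramified.elem A X.R)
    have hd : Y.φ d = 1 := by
      have : (Y.φ.comp (Algebra.TensorProduct.lift f.1 g.1 fun _ _ => Commute.all _ _)) =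
          X.φ.comp (Algebra.TensorProduct.lmul' A) := Algebra.TensorProduct.ext' fun x y => by
        have h1 := DFunLike.congr_fun f.2 x
        have h2 := DFunLike.congr_fun g.2 y
        simp only [AlgHom.comp_apply] at h1 h2
        simp [h1, h2]
      have h := DFunLike.congr_fun this (Algebra.FormallyUnramified.elem A X.R)
      simp only [AlgHom.comp_apply, Algebra.FormallyUnramified.lmul_elem, map_one] at h
      exact h
    haveI : Algebra.Etale Y.R (Localization.Away d) := Algebra.Etale.of_isLocalizationAway d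
    haveI : Algebra.Etale A (Localization.Away d) := Algebra.Etale.comp A Y.R _
    let ψ : Localization.Away d →ₐ[A] K := IsLocalization.liftAlgHom (M := Submonoid.powers d)
      (f := Y.φ) (fun ⟨y, m, hy⟩ => by subst hy; simp [hd])
    let ι₀ : Y.R →ₐ[A] Localization.Away d := IsScalarTower.toAlgHom A Y.R _
    have hψ : ψ.comp ι₀ = Y.φ := AlgHom.ext fun y =>
      IsLocalization.lift_eq (M := Submonoid.powers d) _ y
    obtain ⟨Z, e, h, -, hh⟩ := exists_hom (Localization.Away d) ψ ι₀ hψ
    refine ⟨Z, h, Subtype.ext ?_⟩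
    refine AlgHom.ext fun x => ?_
    show h.1 (f.1 x) = h.1 (g.1 x)
    simp only [hh, AlgHom.comp_apply]
    congr 1
    have h1 := congrArg (Algebra.TensorProduct.lift f.1 g.1 fun _ _ => Commute.all _ _)
      (Algebra.FormallyUnramified.one_tmul_mul_elem (R := A) (S := X.R) x)
    simp only [map_mul, Algebra.TensorProduct.lift_tmul, map_one, one_mul, mul_one] at h1
    show algebraMap Y.R (Localization.Away d) (f.1 x) = algebraMap Y.R _ (g.1 x)
    exact (IsLocalization.eq_iff_exists (Submonoid.powers d) (Localization.Away d)).mpr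
      ⟨⟨d, 1, pow_one d⟩, by simpa [d, mul_comm] using h1.symm⟩
  · haveI : Algebra.Etale A A := inferInstance
    obtain ⟨X, -⟩ := exists_obj A (Algebra.ofId A K)
    exact ⟨X⟩

/-- The diagram of underlying rings. -/
noncomputable def diagram : Obj A K ⥤ CommRingCat.{u} where
  obj X := CommRingCat.of X.R
  map f := CommRingCat.ofHom f.1.toRingHom

end Obj

/-- The colimit ring. -/
noncomputable def Col : Type u := ↥(colimit (Obj.diagram (A := A) (K := K)))

noncomputable instance : CommRing (Col A K) :=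
  inferInstanceAs (CommRing ↥(colimit (Obj.diagram (A := A) (K := K))))

variable {A K}

/-- The canonical ring map from a member of the system. -/
noncomputable def ιRing (X : Obj A K) : X.R →+* Col A K :=
  (colimit.ι (Obj.diagram (A := A) (K := K)) X).hom

theorem ιRing_map {X Y : Obj A K} (f : X ⟶ Y) (x : X.R) : ιRing Y (f.1 x) = ιRing X x :=
  congr($(colimit.w (Obj.diagram (A := A) (K := K)) f).hom x)

theorem ιRing_algebraMap (X Y : Obj A K) (a : A) :
    ιRing X (algebraMap A X.R a) = ιRing Y (algebraMap A Y.R a) := by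
  obtain ⟨Z, f, g, -⟩ := IsFilteredOrEmpty.cocone_objs X Y
  rw [← ιRing_map f, ← ιRing_map g, f.1.commutes, g.1.commutes]

noncomputable instance : Algebra A (Col A K) :=
  ((ιRing (IsFiltered.nonempty (C := Obj A K)).some).comp (algebraMap A _)).toAlgebra

/-- The canonical algebra map from a member of the system. -/
noncomputable def ι (X : Obj A K) : X.R →ₐ[A] Col A K :=
  { ιRing X with commutes' := fun a => ιRing_algebraMap X _ a }

theorem ι_map {X Y : Obj A K} (f : X ⟶ Y) (x : X.R) : ι Y (f.1 x) = ι X x :=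
  ιRing_map f x

theorem ι_surj (b : Col A K) : ∃ (X : Obj A K) (x : X.R), ι X x = b :=
  Concrete.colimit_exists_rep (Obj.diagram (A := A) (K := K)) b

theorem ι_eq {X : Obj A K} {x y : X.R} (h : ι X x = ι X y) :
    ∃ (Z : Obj A K) (f : X ⟶ Z), f.1 x = f.1 y := by
  obtain ⟨Z, f, g, hfg⟩ := Concrete.colimit_exists_of_rep_eq (Obj.diagram (A := A) (K := K)) x y h
  refine ⟨IsFiltered.coeq f g, f ≫ IsFiltered.coeqHom f g, ?_⟩
  have hfg' : f.1 x = g.1 y := hfg
  conv_rhs => rw [IsFiltered.coeq_condition]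
  show (IsFiltered.coeqHom f g).1 (f.1 x) = (IsFiltered.coeqHom f g).1 (g.1 y)
  rw [hfg']

theorem exists_lift_finset (s : Finset (Col A K)) :
    ∃ X : Obj A K, ∀ b ∈ s, b ∈ (ι X).range := by
  classical
  induction s using Finset.induction with
  | empty => exact ⟨(IsFiltered.nonempty (C := Obj A K)).some, by simp⟩
  | insert b s hb ih =>
    obtain ⟨X, hX⟩ := ih
    obtain ⟨Y, y, rfl⟩ := ι_surj b
    obtain ⟨Z, f, g, -⟩ := IsFilteredOrEmpty.cocone_objs X Y
    refine ⟨Z, fun c hc => ?_⟩
    rcases Finset.mem_insert.mp hc with rfl | hc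
    · exact ⟨g.1 y, ι_map g y⟩
    · obtain ⟨x, hx⟩ := hX c hc
      exact ⟨f.1 x, (ι_map f x).trans hx⟩

theorem algHom_ext {T : Type u} [CommRing T] [Algebra A T] {g g' : Col A K →ₐ[A] T}
    (h : ∀ X, g.comp (ι X) = g'.comp (ι X)) : g = g' := by
  refine AlgHom.ext fun b => ?_
  obtain ⟨X, x, rfl⟩ := ι_surj b
  exact DFunLike.congr_fun (h X) x

/-- The cocone attached to a compatible family. -/
noncomputable def cocone {T : Type u} [CommRing T] [Algebra A T] (g : (X : Obj A K) → X.R →ₐ[A] T)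
    (hg : ∀ {X Y : Obj A K} (f : X ⟶ Y), (g Y).comp f.1 = g X) :
    Cocone (Obj.diagram (A := A) (K := K)) where
  pt := CommRingCat.of T
  ι :=
    { app := fun X => CommRingCat.ofHom (g X).toRingHom
      naturality := fun X Y f => CommRingCat.hom_ext (RingHom.ext fun x =>
        DFunLike.congr_fun (hg f) x) }

/-- The ring map out of the colimit given by a compatible family. -/
noncomputable def descRing {T : Type u} [CommRing T] [Algebra A T] (g : (X : Obj A K) → X.R →ₐ[A] T)
    (hg : ∀ {X Y : Obj A K} (f : X ⟶ Y), (g Y).comp f.1 = g X) : Col A K →+* T :=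
  (colimit.desc (Obj.diagram (A := A) (K := K)) (cocone g hg)).hom

theorem descRing_ι {T : Type u} [CommRing T] [Algebra A T] (g : (X : Obj A K) → X.R →ₐ[A] T)
    (hg : ∀ {X Y : Obj A K} (f : X ⟶ Y), (g Y).comp f.1 = g X) (X : Obj A K) (x : X.R) :
    descRing g hg (ι X x) = g X x :=
  congr($(colimit.ι_desc (cocone g hg) X).hom x)

/-- The map out of the colimit given by a compatible family. -/
noncomputable def desc {T : Type u} [CommRing T] [Algebra A T] (g : (X : Obj A K) → X.R →ₐ[A] T)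
    (hg : ∀ {X Y : Obj A K} (f : X ⟶ Y), (g Y).comp f.1 = g X) : Col A K →ₐ[A] T :=
  { descRing g hg with
    commutes' := fun a => by
      have h := descRing_ι g hg (IsFiltered.nonempty (C := Obj A K)).some
        (algebraMap A _ a)
      rw [AlgHom.commutes, AlgHom.commutes] at h
      exact h }

theorem desc_ι {T : Type u} [CommRing T] [Algebra A T] (g : (X : Obj A K) → X.R →ₐ[A] T)
    (hg : ∀ {X Y : Obj A K} (f : X ⟶ Y), (g Y).comp f.1 = g X) (X : Obj A K) :
    (desc g hg).comp (ι X) = g X :=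
  AlgHom.ext fun x => descRing_ι g hg X x

variable (A K) in
/-- The map to `K`. -/
noncomputable def ε : Col A K →ₐ[A] K := desc (fun X => X.φ) fun f => f.2

theorem ε_ι (X : Obj A K) (x : X.R) : ε A K (ι X x) = X.φ x :=
  DFunLike.congr_fun (desc_ι (fun X => X.φ) (fun f => f.2) X) x

theorem range_ι_of_etale {E : Type u} [CommRing E] [Algebra A E] [Algebra.Etale A E]
    (ψ : E →ₐ[A] K) : ∃ g : E →ₐ[A] Col A K, (ε A K).comp g = ψ := by
  obtain ⟨X, e, he⟩ := Obj.exists_obj E ψ
  refine ⟨(ι X).comp e.toAlgHom, AlgHom.ext fun x => ?_⟩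
  show ε A K (ι X (e x)) = ψ x
  rw [ε_ι]
  exact DFunLike.congr_fun he x

theorem isUnit_of_isUnit_ε {b : Col A K} (h : IsUnit (ε A K b)) : IsUnit b := by
  obtain ⟨X, x, rfl⟩ := ι_surj b
  rw [ε_ι] at h
  haveI : Algebra.Etale X.R (Localization.Away x) := Algebra.Etale.of_isLocalizationAway x
  haveI : Algebra.Etale A (Localization.Away x) := Algebra.Etale.comp A X.R _
  let ψ : Localization.Away x →ₐ[A] K := IsLocalization.liftAlgHom (M := Submonoid.powers x)
    (f := X.φ) (fun ⟨y, m, hy⟩ => by subst hy; simpa using h.pow m)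
  let ι₀ : X.R →ₐ[A] Localization.Away x := IsScalarTower.toAlgHom A X.R _
  have hψ : ψ.comp ι₀ = X.φ := AlgHom.ext fun y =>
    IsLocalization.lift_eq (M := Submonoid.powers x) _ y
  obtain ⟨Y, e, f, -, hf⟩ := Obj.exists_hom (Localization.Away x) ψ ι₀ hψ
  rw [← ι_map f, hf]
  exact ((IsLocalization.map_units (Localization.Away x) (⟨x, 1, pow_one x⟩ : Submonoid.powers x)).map
    e.toAlgHom).map (ι Y)

/-- Hensel's lemma along `ε`. -/
theorem exists_root (f : (Col A K)[X]) (hf : f.Monic) (b : Col A K) (h1 : ε A K (f.eval b) = 0)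
    (h2 : IsUnit (ε A K (f.derivative.eval b))) : ∃ a, f.IsRoot a ∧ ε A K a = ε A K b := by
  classical
  obtain ⟨Y, hY⟩ := exists_lift_finset (insert b ((Finset.range (f.natDegree + 1)).image f.coeff))
  obtain ⟨b₀, rfl⟩ := hY b (Finset.mem_insert_self _ _)
  have hlift : f ∈ Polynomial.lifts (ι Y).toRingHom := by
    rw [Polynomial.lifts_iff_coeff_lifts]
    intro m
    by_cases hm : m ≤ f.natDegree
    · exact hY _ (Finset.mem_insert_of_mem (Finset.mem_image.mpr ⟨m, Finset.mem_range.mpr (by omega), rfl⟩))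
    · exact ⟨0, by rw [map_zero, Polynomial.coeff_eq_zero_of_natDegree_lt (by omega)]⟩
  obtain ⟨F, hF, -, hFm⟩ := Polynomial.lifts_and_natDegree_eq_and_monic hlift hf
  let P : StandardEtalePair Y.R :=
    { f := F, monic_f := hFm, g := derivative F, cond := ⟨1, 0, 1, by ring⟩ }
  letI : Algebra Y.R K := Y.φ.toRingHom.toAlgebra
  haveI : IsScalarTower A Y.R K := ⟨fun a y k => by
    show Y.φ (a • y) * k = a • (Y.φ y * k)
    rw [map_smul, smul_mul_assoc]⟩
  have hev : ∀ G : Y.R[X], aeval (Y.φ b₀) G = ε A K ((G.map (ι Y).toRingHom).eval (ι Y b₀)) := by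
    intro G
    rw [Polynomial.eval_map]
    show _ = ε A K (eval₂ (ι Y).toRingHom ((ι Y).toRingHom b₀) G)
    rw [Polynomial.eval₂_at_apply]
    show _ = ε A K (ι Y (G.eval b₀))
    rw [ε_ι]
    exact Polynomial.eval₂_at_apply (Y.φ.toRingHom) b₀
  have hmap : P.HasMap (Y.φ b₀) := by
    refine ⟨?_, ?_⟩
    · show aeval (Y.φ b₀) F = 0
      rw [hev, hF]
      exact h1
    · show IsUnit (aeval (Y.φ b₀) (derivative F))
      rw [hev, ← Polynomial.derivative_map, hF]
      exact h2
  letI : Algebra A P.Ring := ((algebraMap Y.R P.Ring).comp (algebraMap A Y.R)).toAlgebra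
  haveI : IsScalarTower A Y.R P.Ring := ⟨fun a y q => by
    simp only [Algebra.smul_def]
    rw [show (a • y : Y.R) = algebraMap A Y.R a * y from Algebra.smul_def a y, map_mul, mul_assoc]
    rfl⟩
  haveI : Algebra.Etale A P.Ring := Algebra.Etale.comp A Y.R _
  let ψ : P.Ring →ₐ[A] K := (P.lift (Y.φ b₀) hmap).restrictScalars A
  let ι₀ : Y.R →ₐ[A] P.Ring := IsScalarTower.toAlgHom A Y.R _
  have hψ : ψ.comp ι₀ = Y.φ := AlgHom.ext fun y => (P.lift (Y.φ b₀) hmap).commutes y
  obtain ⟨Z, e, g, he, hg⟩ := Obj.exists_hom P.Ring ψ ι₀ hψ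
  refine ⟨ι Z (e P.X), ?_, ?_⟩
  · rw [Polynomial.IsRoot, ← hF, Polynomial.eval_map]
    have hcomp : (ι Y).toRingHom = ((ι Z).toRingHom.comp e.toAlgHom.toRingHom).comp (algebraMap Y.R P.Ring) :=
      RingHom.ext fun y => by
        show ι Y y = ι Z (e (algebraMap Y.R P.Ring y))
        rw [← ι_map g, hg]
        rfl
    rw [hcomp, show ι Z (e P.X) = ((ι Z).toRingHom.comp e.toAlgHom.toRingHom) P.X from rfl,
      ← Polynomial.hom_eval₂, ← Polynomial.aeval_def,
      show aeval P.X F = 0 from (StandardEtalePair.hasMap_X (P := P)).1, map_zero]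
  · have h3 := DFunLike.congr_fun he P.X
    simp only [AlgHom.comp_apply, AlgEquiv.coe_toAlgHom] at h3
    show ε A K (ι Z (e P.X)) = ε A K (ι Y b₀)
    rw [ε_ι, ε_ι, h3]
    exact P.lift_X _ hmap

theorem henselianRing_ker_ε (hs : Function.Surjective (ε A K)) :
    HenselianRing (Col A K) (RingHom.ker (ε A K)) where
  jac x hx := Ideal.mem_jacobson_bot.mpr fun y => isUnit_of_isUnit_ε (by
    simp [map_add, map_mul, show ε A K x = 0 from hx])
  is_henselian f hf a₀ h1 h2 := by
    have h2' : IsUnit (ε A K (f.derivative.eval a₀)) := by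
      have := h2.map (Ideal.quotientKerAlgEquivOfSurjective hs)
      rwa [Ideal.quotientKerAlgEquivOfSurjective_mk] at this
    obtain ⟨a, ha, hab⟩ := exists_root f hf a₀ h1 h2'
    exact ⟨a, ha, by rw [RingHom.mem_ker, map_sub, hab, sub_self]⟩

/-- If every member of the system kills its kernel up to a unit modulo `I`, the kernel of `ε`
is generated by `I`. -/
theorem ker_ε_le {I : Ideal A}
    (h : ∀ (X : Obj A K) (x : X.R), X.φ x = 0 →
      ∃ t : X.R, IsUnit (X.φ t) ∧ t * x ∈ I.map (algebraMap A X.R)) :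
    RingHom.ker (ε A K) ≤ I.map (algebraMap A (Col A K)) := by
  intro b hb
  obtain ⟨X, x, rfl⟩ := ι_surj b
  rw [RingHom.mem_ker, ε_ι] at hb
  obtain ⟨t, ht, htx⟩ := h X x hb
  have hu : IsUnit (ι X t) := isUnit_of_isUnit_ε (by rwa [ε_ι])
  have := Ideal.mem_map_of_mem (ι X).toRingHom htx
  rw [Ideal.map_map] at this
  rw [show (ι X).toRingHom.comp (algebraMap A X.R) = algebraMap A (Col A K) from (ι X).comp_algebraMap,
    show (ι X).toRingHom (t * x) = ι X t * ι X x from map_mul (ι X) t x,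
    Ideal.unit_mul_mem_iff_mem _ hu] at this
  exact this

/-- The universal property with respect to henselian pairs. -/
theorem existsUnique_algHom {C : Type u} [CommRing C] [Algebra A C] (J : Ideal C)
    [HenselianRing C J] (τ : K →ₐ[A] C ⧸ J) :
    ∃! g : Col A K →ₐ[A] C, (Ideal.Quotient.mkₐ A J).comp g = τ.comp (ε A K) := by
  choose g hg hg' using fun X : Obj A K => existsUnique_algHom_lift_etale J (τ.comp X.φ)
  have hcompat : ∀ {X Y : Obj A K} (f : X ⟶ Y), (g Y).comp f.1 = g X := by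
    intro X Y f
    refine hg' X _ ?_
    show (Ideal.Quotient.mkₐ A J).comp ((g Y).comp f.1) = _
    rw [← AlgHom.comp_assoc, hg Y, AlgHom.comp_assoc, f.2]
  refine ⟨desc g hcompat, algHom_ext fun X => ?_, fun g₂ hg₂ => algHom_ext fun X => ?_⟩
  · rw [AlgHom.comp_assoc, desc_ι, hg X, AlgHom.comp_assoc]
    congr 1
    exact (desc_ι (fun X => X.φ) (fun f => f.2) X).symm
  · rw [desc_ι]
    refine hg' X _ ?_
    show (Ideal.Quotient.mkₐ A J).comp (g₂.comp (ι X)) = _
    rw [← AlgHom.comp_assoc, hg₂, AlgHom.comp_assoc]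
    congr 1
    exact desc_ι (fun X => X.φ) (fun f => f.2) X

theorem isIndEtale : EtPBC.IsIndEtale A (Col A K) := by
  classical
  refine (Groth.L27.IndEtale.isIndEtale_iff_exists_factor A (Col A K)).mpr fun P _ _ _ ψ => ?_
  obtain ⟨n, π, hπ, hker⟩ := Algebra.FinitePresentation.out (R := A) (A := P)
  obtain ⟨X, hX⟩ := exists_lift_finset (Finset.univ.image fun i => ψ (π (MvPolynomial.X i)))
  choose x hx using fun i => hX _ (Finset.mem_image_of_mem _ (Finset.mem_univ i))
  have hx' : (ι X).comp (MvPolynomial.aeval x) = ψ.comp π :=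
    MvPolynomial.algHom_ext fun i => by
      simp only [AlgHom.comp_apply, MvPolynomial.aeval_X]
      exact hx i
  obtain ⟨G, hG⟩ := hker
  have key : ∀ s : Finset (MvPolynomial (Fin n) A), (∀ q ∈ s, ψ (π q) = 0) →
      ∃ (Z : Obj A K) (f : X ⟶ Z), ∀ q ∈ s, f.1 (MvPolynomial.aeval x q) = 0 := by
    intro s
    induction s using Finset.induction with
    | empty => exact fun _ => ⟨X, 𝟙 X, by simp⟩
    | insert q s hq ih =>
      intro hs
      obtain ⟨Z, f, hf⟩ := ih fun r hr => hs r (Finset.mem_insert_of_mem hr)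
      have h0 : ι Z (f.1 (MvPolynomial.aeval x q)) = ι Z 0 := by
        rw [map_zero, ι_map]
        exact (DFunLike.congr_fun hx' q).trans (hs q (Finset.mem_insert_self q s))
      obtain ⟨W, h, hh⟩ := ι_eq h0
      refine ⟨W, f ≫ h, fun r hr => ?_⟩
      show h.1 (f.1 _) = 0
      rcases Finset.mem_insert.mp hr with rfl | hr
      · rw [hh, map_zero]
      · rw [hf r hr, map_zero]
  obtain ⟨Z, f, hf⟩ := key G fun q hq => by
    rw [show π q = 0 from (hG.le (Ideal.subset_span hq) : q ∈ RingHom.ker π), map_zero]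
  have hle : RingHom.ker π ≤ RingHom.ker (f.1.comp (MvPolynomial.aeval x)) := fun q hq =>
    (Ideal.span_le.mpr hf : Ideal.span (G : Set (MvPolynomial (Fin n) A)) ≤
      RingHom.ker (f.1.comp (MvPolynomial.aeval x))) (hG.ge hq)
  refine ⟨Z.R, inferInstance, inferInstance,
    AlgHom.liftOfSurjective π hπ (f.1.comp (MvPolynomial.aeval x)) hle,
    ι Z, Z.etale, ?_⟩
  refine AlgHom.ext fun p => ?_
  obtain ⟨q, rfl⟩ := hπ p
  rw [AlgHom.comp_apply, AlgHom.liftOfSurjective_apply, AlgHom.comp_apply, ι_map]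
  exact DFunLike.congr_fun hx' q

theorem flat : Module.Flat A (Col A K) :=
  Groth.L27.IndEtale.flat A _ isIndEtale

end Groth.L05.Henselization
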