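import Groth.Agent.L05.Henselization.Branches
import Groth.Agent.L05.Henselization.Noeth
import Groth.Agent.L05.Henselization.FormEtale

/-!
# Unibranch local rings and (strict) henselization
-/

set_option autoImplicit false
set_option linter.style.haveILetI false

open IsLocalRing TensorProduct

namespace Groth.L05.Henselization.Branches

universe u

variable {R S : Type u} [CommRing R] [IsLocalRing R] [CommRing S] [IsLocalRing S] [Algebra R S]
  [IsLocalHom (algebraMap R S)]

theorem isIntegral_normRed : Algebra.IsIntegral R (CAlg2.normRed R) := by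
  haveI : Algebra.IsIntegral R (CAlg2.red R) := Algebra.IsIntegral.of_finite R _
  exact Algebra.IsIntegral.trans (CAlg2.red R) (B := CAlg2.normRed R)

theorem algebraMap_normRed_injective [IsReduced R] : Function.Injective (algebraMap R (CAlg2.normRed R)) := by
  intro a b h
  have h' := IsFractionRing.injective (CAlg2.red R) (FractionRing (CAlg2.red R))
    (show algebraMap (CAlg2.red R) _ (Ideal.Quotient.mk (nilradical R) a) =
      algebraMap (CAlg2.red R) (FractionRing (CAlg2.red R)) (Ideal.Quotient.mk (nilradical R) b) from
        congrArg Subtype.val h)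
  rwa [Ideal.Quotient.eq, nilradical_eq_zero R, Submodule.zero_eq_bot, Ideal.mem_bot, sub_eq_zero] at h'

theorem isLocalHom_normRed [IsLocalRing (CAlg2.normRed R)] : IsLocalHom (algebraMap R (CAlg2.normRed R)) := by
  haveI := isIntegral_normRed (R := R)
  exact ((IsLocalRing.local_hom_TFAE _).out 0 4 rfl rfl).mpr
    (eq_maximalIdeal (Ideal.isMaximal_comap_of_isIntegral_of_isMaximal (maximalIdeal (CAlg2.normRed R))))

theorem isDomain_of_unibranch [Module.Flat R S] [Algebra.WeaklyEtale R S] [IsReduced R]
    (h : CAlg2.IsUnibranch R)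
    (hloc : ∀ (_ : IsLocalRing (CAlg2.normRed R)), IsLocalRing (CAlg2.normRed R ⊗[R] S)) : IsDomain S := by
  haveI := h.1
  haveI := h.2
  haveI := isIntegral_normRed (R := R)
  haveI := hloc h.2
  haveI : IsIntegrallyClosed (CAlg2.normRed R) :=
    integralClosure.isIntegrallyClosedOfFiniteExtension (FractionRing (CAlg2.red R))
      (L := FractionRing (CAlg2.red R))
  exact isDomain_of_local_tensor R S (CAlg2.normRed R) algebraMap_normRed_injective

theorem isReduced_and_unibranch_of_isDomain [Module.Flat R S] [HenselianLocalRing S] [IsDomain S] :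
    IsReduced R ∧ CAlg2.IsUnibranch R ∧ IsLocalRing (CAlg2.normRed R ⊗[R] S) := by
  haveI : Module.FaithfullyFlat R S := Module.FaithfullyFlat.of_flat_of_isLocalHom
  haveI : IsDomain R := Function.Injective.isDomain (algebraMap R S) (FaithfulSMul.algebraMap_injective R S)
  haveI := isIntegral_normRed (R := R)
  let mk := Ideal.Quotient.mk (nilradical R)
  have hbij : Function.Bijective mk := by
    refine ⟨(injective_iff_map_eq_zero _).mpr fun a ha => ?_, Ideal.Quotient.mk_surjective⟩
    have := Ideal.Quotient.eq_zero_iff_mem.mp ha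
    rwa [nilradical_eq_zero R, Submodule.zero_eq_bot, Ideal.mem_bot] at this
  let e : R ≃+* CAlg2.red R := RingEquiv.ofBijective mk hbij
  haveI : IsDomain (CAlg2.red R) := e.symm.injective.isDomain (f := e.symm.toRingHom)
  let K := FractionRing (CAlg2.red R)
  haveI : FaithfulSMul R K := (faithfulSMul_iff_algebraMap_injective R K).mpr
    ((IsFractionRing.injective (CAlg2.red R) K).comp hbij.1)
  haveI : IsFractionRing R K := by
    refine IsFractionRing.of_field R K fun z => ?_
    obtain ⟨a, b, hb, rfl⟩ := IsFractionRing.div_surjective (A := CAlg2.red R) z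
    refine ⟨e.symm a, e.symm b, ?_⟩
    rw [IsScalarTower.algebraMap_apply R (CAlg2.red R) K, IsScalarTower.algebraMap_apply R (CAlg2.red R) K,
      show algebraMap R (CAlg2.red R) (e.symm a) = a from e.apply_symm_apply a,
      show algebraMap R (CAlg2.red R) (e.symm b) = b from e.apply_symm_apply b]
  let j : CAlg2.normRed R →ₐ[R] K :=
    (integralClosure (CAlg2.red R) K).val.restrictScalars R
  haveI := isDomain_tensor_of_isDomain R S (CAlg2.normRed R) K j Subtype.val_injective
  haveI := isLocalRing_tensor_of_isDomain R S (CAlg2.normRed R)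
  exact ⟨inferInstance, ⟨inferInstance, isLocalRing_of_local_tensor R S (CAlg2.normRed R)⟩, inferInstance⟩

theorem weaklyEtale_hens [Hensel.IsHenselization R S] : Algebra.WeaklyEtale R S := by
  obtain ⟨e⟩ := henselization_algEquiv R S
  exact Groth.L27.IndEtale.weaklyEtale R S (isIndEtale_of_algEquiv e isIndEtale)

theorem residue_surjective_hens [Hensel.IsHenselization R S] :
    ∀ s : S, ∃ a : R, s - algebraMap R S a ∈ maximalIdeal S := by
  have hP := isPairHenselization_of_isHenselization (R := R) (S := S)
  have hm : (maximalIdeal R).map (algebraMap R S) = maximalIdeal S :=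
    map_maximalIdeal_of_isPairHenselization R hP
  intro b
  obtain ⟨-, hs⟩ := Groth.L05.Henselization.quotientMap_pow_bijective R (maximalIdeal R) hP 1
  obtain ⟨x, hx⟩ := hs (Ideal.Quotient.mk _ b)
  obtain ⟨a, rfl⟩ := Ideal.Quotient.mk_surjective x
  rw [Ideal.quotientMap_mk, Ideal.Quotient.eq, pow_one, hm] at hx
  exact ⟨a, by simpa using neg_mem hx⟩

theorem unibranch_iff_isDomain_hens [hS : Hensel.IsHenselization R S] :
    (IsReduced R ∧ CAlg2.IsUnibranch R) ↔ IsDomain S := by
  haveI := flat_of_isHenselization R S
  haveI := weaklyEtale_hens (R := R) (S := S)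
  haveI : HenselianLocalRing S := hS.henselian
  constructor
  · rintro ⟨_, h⟩
    haveI := isIntegral_normRed (R := R)
    exact isDomain_of_unibranch h fun _ =>
      isLocalRing_tensor_of_surjective R S (CAlg2.normRed R) residue_surjective_hens
  · intro _
    exact ⟨(isReduced_and_unibranch_of_isDomain (S := S)).1, (isReduced_and_unibranch_of_isDomain (S := S)).2.1⟩

theorem geomUnibranch_iff_isDomain_strict [hS : Hensel.IsStrictHenselization R S] :
    (IsReduced R ∧ CAlg2.IsGeomUnibranch R) ↔ IsDomain S := by
  haveI := flat_of_isStrictHenselization R S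
  haveI : Algebra.WeaklyEtale R S :=
    Groth.L27.IndEtale.weaklyEtale R S (isIndEtale_of_isStrictHenselization R S)
  haveI : HenselianLocalRing S := hS.henselian
  haveI := isIntegral_normRed (R := R)
  constructor
  · rintro ⟨_, h, hpi⟩
    exact isDomain_of_unibranch h fun _ =>
      isLocalRing_tensor_of_pi R S (CAlg2.normRed R) (hpi (maximalIdeal (CAlg2.normRed R)))
  · intro _
    obtain ⟨h1, h2, h3⟩ := isReduced_and_unibranch_of_isDomain (R := R) (S := S)
    refine ⟨h1, h2, fun m' _ => ?_⟩
    haveI := h3
    haveI := h2.2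
    haveI := isLocalHom_normRed (R := R)
    obtain rfl : m' = maximalIdeal (CAlg2.normRed R) := eq_maximalIdeal inferInstance
    exact residue_pi_of_isLocalRing_tensor R S (CAlg2.normRed R)

end Groth.L05.Henselization.Branches
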