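import Groth.Agent.L05.Henselization.Pair
import Groth.Agent.L05.Henselization.Nbhd
import Groth.Agent.S1994
import Mathlib.RingTheory.AdicCompletion.Algebra
import Mathlib.RingTheory.FiniteType
import Mathlib.RingTheory.Etale.Basic

/-!
# Finite type models of completions of quotients of henselizations
-/

set_option autoImplicit false
set_option linter.style.haveILetI false
set_option backward.isDefEq.respectTransparency false

universe u

open scoped TensorProduct

namespace Groth.L05.Henselization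

section Cpl

variable {R : Type u} [CommRing R] (I : Ideal R)

theorem factorPow_evalₐ {m n : ℕ} (h : m ≤ n) (x : AdicCompletion I R) :
    Ideal.Quotient.factorPow I h (AdicCompletion.evalₐ I n x) = AdicCompletion.evalₐ I m x := by
  induction x using AdicCompletion.induction_on with
  | h s =>
    rw [AdicCompletion.evalₐ_mk, AdicCompletion.evalₐ_mk, Ideal.Quotient.factor_mk,
      Ideal.Quotient.eq]
    have := SModEq.sub_mem.mp (s.property h)
    rw [smul_eq_mul, Ideal.mul_top] at this
    rw [← neg_sub]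
    exact neg_mem this

theorem nonempty_cplEquiv {A B : Type u} [CommRing A] [CommRing B] [Algebra A B] [Algebra A R]
    (K : Ideal B) (ψ : B →ₐ[A] R) (hle : ∀ n, K ^ n ≤ (I ^ n).comap ψ.toRingHom)
    (hb : ∀ n, Function.Bijective (Ideal.quotientMap (I ^ n) ψ.toRingHom (hle n))) :
    Nonempty (AdicCompletion K B ≃ₐ[A] AdicCompletion I R) := by
  let e : ∀ n, B ⧸ K ^ n ≃+* R ⧸ I ^ n := fun n => RingEquiv.ofBijective _ (hb n)
  have he : ∀ {m n : ℕ} (h : m ≤ n) (x : B ⧸ K ^ n),
      Ideal.Quotient.factorPow I h (e n x) = e m (Ideal.Quotient.factorPow K h x) := by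
    intro m n h x
    obtain ⟨b, rfl⟩ := Ideal.Quotient.mk_surjective x
    rfl
  have he' : ∀ {m n : ℕ} (h : m ≤ n) (x : R ⧸ I ^ n),
      Ideal.Quotient.factorPow K h ((e n).symm x) = (e m).symm (Ideal.Quotient.factorPow I h x) := by
    intro m n h x
    obtain ⟨y, rfl⟩ := (e n).surjective x
    rw [he h, RingEquiv.symm_apply_apply, RingEquiv.symm_apply_apply]
  let F : AdicCompletion K B →+* AdicCompletion I R :=
    AdicCompletion.liftRingHom I (fun n => (e n).toRingHom.comp (AdicCompletion.evalₐ K n).toRingHom)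
      (fun {m n} h => RingHom.ext fun x => by
        show Ideal.Quotient.factorPow I h (e n _) = e m _
        rw [he h]
        exact congrArg (e m) (factorPow_evalₐ K h x))
  let G : AdicCompletion I R →+* AdicCompletion K B :=
    AdicCompletion.liftRingHom K (fun n => (e n).symm.toRingHom.comp (AdicCompletion.evalₐ I n).toRingHom)
      (fun {m n} h => RingHom.ext fun x => by
        show Ideal.Quotient.factorPow K h ((e n).symm _) = (e m).symm _
        rw [he' h]
        exact congrArg (e m).symm (factorPow_evalₐ I h x))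
  have hF : ∀ n x, AdicCompletion.evalₐ I n (F x) = e n (AdicCompletion.evalₐ K n x) :=
    fun n x => AdicCompletion.evalₐ_liftRingHom I _ _ n x
  have hG : ∀ n x, AdicCompletion.evalₐ K n (G x) = (e n).symm (AdicCompletion.evalₐ I n x) :=
    fun n x => AdicCompletion.evalₐ_liftRingHom K _ _ n x
  refine ⟨AlgEquiv.ofRingEquiv (f := RingEquiv.ofRingHom F G
    (RingHom.ext fun x => AdicCompletion.ext_evalₐ fun n => by
      show AdicCompletion.evalₐ I n (F (G x)) = AdicCompletion.evalₐ I n x
      rw [hF, hG, RingEquiv.apply_symm_apply])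
    (RingHom.ext fun x => AdicCompletion.ext_evalₐ fun n => by
      show AdicCompletion.evalₐ K n (G (F x)) = AdicCompletion.evalₐ K n x
      rw [hG, hF, RingEquiv.symm_apply_apply])) fun a => AdicCompletion.ext_evalₐ fun n => ?_⟩
  show AdicCompletion.evalₐ I n (F (algebraMap A _ a)) = AdicCompletion.evalₐ I n (algebraMap A _ a)
  rw [hF, show algebraMap A (AdicCompletion K B) a = algebraMap B _ (algebraMap A B a) from rfl,
    show algebraMap A (AdicCompletion I R) a = algebraMap R _ (algebraMap A R a) from rfl,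
    AlgHom.commutes, AlgHom.commutes, ← ψ.commutes a]
  rfl

end Cpl

/-- A finite type algebra with the completion of a quotient of a henselization. -/
theorem exists_finiteType_cplEquiv (A : Type u) [CommRing A] [IsNoetherianRing A] (I : Ideal A)
    (C : Type u) [CommRing C] [Algebra A C] [Algebra.FiniteType A C] (Ch : Type u) [CommRing Ch]
    [Algebra C Ch] [Algebra A Ch] [IsScalarTower A C Ch]
    (hCh : Hens2.IsPairHenselization C (I.map (algebraMap A C)) Ch) (J : Ideal Ch) :
    ∃ (B : Type u) (_ : CommRing B) (_ : Algebra A B), Algebra.FiniteType A B ∧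
      Nonempty (AdicCompletion (I.map (algebraMap A B)) B ≃ₐ[A]
        AdicCompletion (I.map (algebraMap A (Ch ⧸ J))) (Ch ⧸ J)) := by
  classical
  haveI : IsNoetherianRing C := Algebra.FiniteType.isNoetherianRing A C
  obtain ⟨hN, -, -⟩ := Groth.Agent.S1994.result C (I.map (algebraMap A C)) Ch hCh
  haveI := hN
  let IC := I.map (algebraMap A C)
  haveI := hCh.1
  -- one étale neighbourhood containing finitely many given elements
  have hstage : ∀ s : Finset Ch, ∃ (S : Type u) (_ : CommRing S) (_ : Algebra C S)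
      (_ : Algebra.Etale C S) (σ : S →ₐ[C] C ⧸ IC) (φ : S →ₐ[C] Ch),
      RingHom.ker σ = IC.map (algebraMap C S) ∧ (s : Set Ch) ⊆ Set.range φ := by
    intro s
    induction s using Finset.induction_on with
    | empty =>
      refine ⟨C, inferInstance, inferInstance, inferInstance, Algebra.ofId C _, Algebra.ofId C Ch, ?_, by simp⟩
      rw [Algebra.algebraMap_self, Ideal.map_id]
      exact Ideal.mk_ker
    | insert b s _ ih =>
      obtain ⟨S₁, i1, i2, i3, σ₁, φ₁, hσ₁, hs⟩ := ih
      obtain ⟨S₂, j1, j2, j3, σ₂, φ₂, x, hσ₂, hx⟩ := exists_section_lift IC hCh b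
      obtain ⟨S, k1, k2, k3, σ, hσ, ⟨g₁⟩, ⟨g₂⟩⟩ := directed_sections IC hσ₁ hσ₂
      obtain ⟨φ, -, hu⟩ := existsUnique_algHom_of_section IC hσ (IC.map (algebraMap C Ch)) le_rfl
      refine ⟨S, k1, k2, k3, σ, φ, hσ, ?_⟩
      obtain ⟨φ₁', -, hu₁⟩ := existsUnique_algHom_of_section IC hσ₁ (IC.map (algebraMap C Ch)) le_rfl
      obtain ⟨φ₂', -, hu₂⟩ := existsUnique_algHom_of_section IC hσ₂ (IC.map (algebraMap C Ch)) le_rfl
      rw [Finset.coe_insert, Set.insert_subset_iff]
      refine ⟨⟨g₂ x, ?_⟩, fun y hy => ?_⟩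
      · rw [← hx, show φ₂ = φ.comp g₂ from (hu₂ _ trivial).trans (hu₂ _ trivial).symm]
        rfl
      · obtain ⟨z, rfl⟩ := hs hy
        exact ⟨g₁ z, (DFunLike.congr_fun
          ((hu₁ φ₁ trivial).trans (hu₁ (φ.comp g₁) trivial).symm) z).symm⟩
  obtain ⟨gens, hgens⟩ := (IsNoetherian.noetherian J : J.FG)
  obtain ⟨S, _, _, _, σ, φ, hσ, hsub⟩ := hstage gens
  letI : Algebra A S := ((algebraMap C S).comp (algebraMap A C)).toAlgebra
  haveI : IsScalarTower A C S := IsScalarTower.of_algebraMap_eq fun _ => rfl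
  letI : Algebra S Ch := φ.toRingHom.toAlgebra
  haveI : IsScalarTower C S Ch := IsScalarTower.of_algebraMap_eq fun c => (φ.commutes c).symm
  haveI : IsScalarTower A S Ch := IsScalarTower.of_algebraMap_eq fun a => by
    rw [IsScalarTower.algebraMap_apply A C S, ← IsScalarTower.algebraMap_apply C S Ch,
      ← IsScalarTower.algebraMap_apply]
  have hpow : ∀ n, ∀ b : Ch, ∃ s : S, b - φ s ∈ (IC ^ n).map (algebraMap C Ch) := by
    intro n b
    obtain ⟨c, hc⟩ := (quotientMap_pow_bijective C IC hCh n).2 (Ideal.Quotient.mk _ b)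
    obtain ⟨c, rfl⟩ := Ideal.Quotient.mk_surjective c
    rw [Ideal.quotientMap_mk, eq_comm, Ideal.Quotient.eq] at hc
    exact ⟨algebraMap C S c, by rwa [φ.commutes]⟩
  have hinjS : ∀ n, ∀ s : S, φ s ∈ (IC ^ n).map (algebraMap C Ch) → s ∈ (IC ^ n).map (algebraMap C S) := by
    intro n s hs
    have hcs : ∃ c : C, s - algebraMap C S c ∈ (IC ^ n).map (algebraMap C S) := by
      have hσ1 : ∀ t : S, ∃ c : C, t - algebraMap C S c ∈ IC.map (algebraMap C S) := fun t => by
        obtain ⟨c, hc⟩ := Ideal.Quotient.mk_surjective (σ t)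
        exact ⟨c, by rw [← hσ, RingHom.mem_ker, map_sub, σ.commutes, ← hc, sub_eq_zero]; rfl⟩
      induction n with
      | zero => exact ⟨0, by simp [Ideal.one_eq_top, Ideal.map_top]⟩
      | succ n ih =>
        obtain ⟨c, hc⟩ := ih (Ideal.map_mono (Ideal.pow_le_pow_right n.le_succ) hs)
        have step : ∀ z ∈ (IC ^ n).map (algebraMap C S), ∃ c : C,
            z - algebraMap C S c ∈ (IC ^ (n + 1)).map (algebraMap C S) := by
          intro z hz
          refine Submodule.span_induction (p := fun z _ => ∃ c : C,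
            z - algebraMap C S c ∈ (IC ^ (n + 1)).map (algebraMap C S)) ?_ ⟨0, by simp⟩ ?_ ?_ hz
          · rintro _ ⟨i, hi, rfl⟩
            exact ⟨i, by simp⟩
          · rintro a b - - ⟨ca, ha⟩ ⟨cb, hb⟩
            exact ⟨ca + cb, by rw [map_add, add_sub_add_comm]; exact add_mem ha hb⟩
          · rintro t a hmem ⟨ca, ha⟩
            obtain ⟨ct, hct⟩ := hσ1 t
            refine ⟨ct * ca, ?_⟩
            rw [smul_eq_mul, map_mul, show t * a - algebraMap C S ct * algebraMap C S ca =
              (t - algebraMap C S ct) * a + algebraMap C S ct * (a - algebraMap C S ca) by ring]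
            refine add_mem ?_ (Ideal.mul_mem_left _ _ ha)
            rw [pow_succ', Ideal.map_mul]
            exact Ideal.mul_mem_mul hct hmem
        obtain ⟨c', hc'⟩ := step _ hc
        exact ⟨c + c', by rw [map_add, ← sub_sub]; exact hc'⟩
    obtain ⟨c, hc⟩ := hcs
    have h1 := Ideal.mem_map_of_mem φ.toRingHom hc
    rw [Ideal.map_map, show φ.toRingHom.comp (algebraMap C S) = algebraMap C Ch from φ.comp_algebraMap] at h1
    have h2 : algebraMap C Ch c ∈ (IC ^ n).map (algebraMap C Ch) := by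
      have h3 := sub_mem hs h1
      rw [show φ.toRingHom (s - algebraMap C S c) = φ s - algebraMap C Ch c by
        show φ (s - algebraMap C S c) = _
        rw [map_sub, φ.commutes], sub_sub_cancel] at h3
      exact h3
    have h4 : c ∈ IC ^ n := by
      rw [← Ideal.Quotient.eq_zero_iff_mem]
      exact (quotientMap_pow_bijective C IC hCh n).1 (by
        rw [Ideal.quotientMap_mk, map_zero, Ideal.Quotient.eq_zero_iff_mem]
        exact h2)
    simpa using add_mem hc (Ideal.mem_map_of_mem (algebraMap C S) h4)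
  choose pre hpre using fun g : gens => hsub g.2
  let K : Ideal S := Ideal.span (Set.range pre)
  have hK : K.map φ.toRingHom = J := by
    rw [← hgens, Ideal.map_span, ← Set.range_comp]
    congr 1
    ext y
    exact ⟨fun ⟨g, hg⟩ => by rw [← hg]; show φ (pre g) ∈ (gens : Set Ch); rw [hpre g]; exact g.2, fun hy => ⟨⟨y, hy⟩, hpre ⟨y, hy⟩⟩⟩
  haveI : Algebra.FiniteType A S := Algebra.FiniteType.trans (S := C) inferInstance inferInstance
  haveI : Algebra.FiniteType A (S ⧸ K) :=
    Algebra.FiniteType.of_surjective (Ideal.Quotient.mkₐ A K) Ideal.Quotient.mk_surjective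
  refine ⟨S ⧸ K, inferInstance, inferInstance, inferInstance, ?_⟩
  let ψ : S ⧸ K →ₐ[A] Ch ⧸ J := Ideal.Quotient.liftₐ K
    ((Ideal.Quotient.mkₐ A J).comp (IsScalarTower.toAlgHom A S Ch)) fun x hx =>
      Ideal.Quotient.eq_zero_iff_mem.mpr (hK ▸ Ideal.mem_map_of_mem φ.toRingHom hx)
  have hmapB : ∀ n, (I.map (algebraMap A (S ⧸ K))) ^ n =
      ((IC ^ n).map (algebraMap C S)).map (Ideal.Quotient.mk K) := fun n => by
    rw [Ideal.map_pow, Ideal.map_pow, Ideal.map_map, Ideal.map_map]
    rfl
  have hmapR : ∀ n, (I.map (algebraMap A (Ch ⧸ J))) ^ n =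
      ((IC ^ n).map (algebraMap C Ch)).map (Ideal.Quotient.mk J) := fun n => by
    rw [Ideal.map_pow, Ideal.map_pow, Ideal.map_map, Ideal.map_map,
      show algebraMap A (Ch ⧸ J) = (Ideal.Quotient.mk J).comp ((algebraMap C Ch).comp (algebraMap A C)) by
        rw [← IsScalarTower.algebraMap_eq]; rfl]
    rw [RingHom.comp_assoc]
  refine nonempty_cplEquiv _ _ ψ (fun n => ?_) fun n => ⟨?_, fun q => ?_⟩
  · rw [← Ideal.map_le_iff_le_comap, Ideal.map_pow, Ideal.map_map, show
      ψ.toRingHom.comp (algebraMap A (S ⧸ K)) = algebraMap A (Ch ⧸ J) from ψ.comp_algebraMap]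
  · rw [injective_iff_map_eq_zero]
    intro x hx
    obtain ⟨x, rfl⟩ := Ideal.Quotient.mk_surjective x
    obtain ⟨s, rfl⟩ := Ideal.Quotient.mk_surjective x
    rw [Ideal.quotientMap_mk, Ideal.Quotient.eq_zero_iff_mem, hmapR] at hx
    change Ideal.Quotient.mk J (φ s) ∈ _ at hx
    rw [Ideal.mem_quotient_iff_mem_sup, ← hK, Submodule.mem_sup] at hx
    obtain ⟨a, ha, b, hb, hab⟩ := hx
    have hmem : ∀ b ∈ K.map φ.toRingHom, ∃ k ∈ K, b - φ k ∈ (IC ^ n).map (algebraMap C Ch) := by
      intro b hb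
      refine Submodule.span_induction (p := fun b _ => ∃ k ∈ K,
        b - φ k ∈ (IC ^ n).map (algebraMap C Ch)) ?_ ⟨0, zero_mem _, by simp⟩ ?_ ?_ hb
      · rintro _ ⟨k, hk, rfl⟩
        exact ⟨k, hk, by simp⟩
      · rintro a b - - ⟨ka, hka, ha⟩ ⟨kb, hkb, hb⟩
        exact ⟨ka + kb, add_mem hka hkb, by rw [map_add, add_sub_add_comm]; exact add_mem ha hb⟩
      · rintro t a - ⟨ka, hka, ha⟩
        obtain ⟨s', hs'⟩ := hpow n t
        refine ⟨s' * ka, Ideal.mul_mem_left _ _ hka, ?_⟩
        rw [smul_eq_mul, map_mul, show t * a - φ s' * φ ka =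
          (t - φ s') * a + φ s' * (a - φ ka) by ring]
        exact add_mem (Ideal.mul_mem_right _ _ hs') (Ideal.mul_mem_left _ _ ha)
    obtain ⟨k, hk, hbk⟩ := hmem b hb
    have h1 : s - k ∈ (IC ^ n).map (algebraMap C S) := hinjS n _ (by
      rw [map_sub, ← hab, add_sub_assoc]
      exact add_mem ha hbk)
    rw [Ideal.Quotient.eq_zero_iff_mem, hmapB, ← sub_add_cancel s k, map_add,
      Ideal.Quotient.eq_zero_iff_mem.mpr hk, add_zero]
    exact Ideal.mem_map_of_mem _ h1
  · obtain ⟨q, rfl⟩ := Ideal.Quotient.mk_surjective q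
    obtain ⟨b, rfl⟩ := Ideal.Quotient.mk_surjective q
    obtain ⟨s, hs⟩ := hpow n b
    refine ⟨Ideal.Quotient.mk _ (Ideal.Quotient.mk K s), ?_⟩
    rw [Ideal.quotientMap_mk, Ideal.Quotient.eq, hmapR]
    show Ideal.Quotient.mk J (φ s) - Ideal.Quotient.mk J b ∈ _
    rw [← map_sub, ← neg_sub, map_neg]
    exact neg_mem (Ideal.mem_map_of_mem _ hs)

end Groth.L05.Henselization
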