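import Groth.Agent.L05.Hensel.Pairs
import Groth.Agent.L05.Hensel.Product
import Groth.Agent.L05.Henselization.Pair
import Mathlib.RingTheory.Ideal.Quotient.Operations

/-!
# Henselization along a disjoint union of closed sets
-/

namespace Groth.L05.Henselization

universe u

variable {A : Type u} [CommRing A] {n : ℕ} (I : Fin n → Ideal A)

theorem henselianRing_pi {ι : Type*} (B : ι → Type u) [∀ j, CommRing (B j)] (K : ∀ j, Ideal (B j))
    (hh : ∀ j, HenselianRing (B j) (K j)) :
    HenselianRing (∀ j, B j) (⨅ j, Ideal.comap (Pi.evalRingHom B j) (K j)) := by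
  have hK : ∀ x, x ∈ ⨅ j, Ideal.comap (Pi.evalRingHom B j) (K j) ↔ ∀ j, x j ∈ K j := fun x => by
    simp only [Ideal.mem_iInf, Ideal.mem_comap, Pi.evalRingHom_apply]
  refine Groth.L05.henselianRing_of_gabberRoots ⟨fun x hx => ?_, fun f n hn hf hmap => ?_⟩
  · rw [Ideal.mem_jacobson_bot]
    intro y
    choose v hv using fun j =>
      (Ideal.mem_jacobson_bot.mp ((hh j).jac ((hK x).mp hx j)) (y j)).exists_right_inv
    exact IsUnit.of_mul_eq_one v (funext hv)
  · have key : ∀ j, ∃ α : B j, α - 1 ∈ K j ∧ (f.map (Pi.evalRingHom B j)).IsRoot α := by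
      intro j
      refine (@Groth.L05.gabberRoots_of_henselianRing _ _ (K j) (hh j)).2 _ n hn (hf.map _) ?_
      have := congrArg (Polynomial.map (Ideal.Quotient.lift _
        ((Ideal.Quotient.mk (K j)).comp (Pi.evalRingHom B j))
        fun x hx => Ideal.Quotient.eq_zero_iff_mem.mpr ((hK x).mp hx j))) hmap
      rw [Polynomial.map_map, Ideal.Quotient.lift_comp_mk, ← Polynomial.map_map] at this
      simpa using this
    choose α hα hroot using key
    refine ⟨α, (hK _).mpr fun j => hα j, ?_⟩
    rw [Polynomial.IsRoot.def]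
    funext j
    have := hroot j
    rw [Polynomial.IsRoot.def, show α j = Pi.evalRingHom B j α from rfl,
      Polynomial.eval_map_apply] at this
    exact this

theorem exists_idem_lifts (hI : Pairwise fun i j => I i ⊔ I j = ⊤) :
    ∃ ε : Fin n → A, (∀ i, ε i - 1 ∈ I i) ∧ ∀ i j, j ≠ i → ε i ∈ I j := by
  classical
  have hc : Pairwise fun i j => IsCoprime (I i) (I j) := fun i j h => Ideal.isCoprime_iff_sup_eq.mpr (hI h)
  choose ε hε using fun i => Ideal.pi_quotient_surjective hc
    (fun j => Ideal.Quotient.mk (I j) (if j = i then 1 else 0))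
  refine ⟨ε, fun i => ?_, fun i j hji => ?_⟩
  · rw [← Ideal.Quotient.eq, map_one]
    simpa using hε i i
  · rw [← Ideal.Quotient.eq_zero_iff_mem]
    simpa [hji] using hε i j

theorem isPairHenselization_pi (hI : Pairwise fun i j => I i ⊔ I j = ⊤) (Bi : Fin n → Type u)
    [∀ i, CommRing (Bi i)] [∀ i, Algebra A (Bi i)]
    (hBi : ∀ i, Hens2.IsPairHenselization A (I i) (Bi i)) :
    Hens2.IsPairHenselization A (⨅ i, I i) (∀ i, Bi i) := by
  classical
  obtain ⟨ε, hε1, hε0⟩ := exists_idem_lifts I hI
  set P : Ideal (∀ i, Bi i) :=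
    ⨅ i, Ideal.comap (Pi.evalRingHom Bi i) ((I i).map (algebraMap A (Bi i)))
  have hP : (⨅ i, I i).map (algebraMap A (∀ i, Bi i)) = P := by
    refine le_antisymm (Ideal.map_le_iff_le_comap.mpr fun a ha => ?_) fun x hx => ?_
    · simp only [P, Ideal.mem_comap, Ideal.mem_iInf] at ha ⊢
      exact fun i => Ideal.mem_map_of_mem _ (ha i)
    · rw [← Finset.univ_sum_single x]
      refine sum_mem fun i _ => ?_
      have hu : IsUnit (algebraMap A (Bi i) (ε i)) :=
        Groth.L05.isUnit_of_sub_one_mem (hBi i).1.jac (by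
          rw [← map_one (algebraMap A (Bi i)), ← map_sub]
          exact Ideal.mem_map_of_mem _ (hε1 i))
      have hxi : x i ∈ (I i).map (algebraMap A (Bi i)) := by
        simp only [P, Ideal.mem_iInf, Ideal.mem_comap] at hx
        exact hx i
      have h1 : x i * algebraMap A (Bi i) (ε i) ∈ (⨅ j, I j).map (algebraMap A (Bi i)) := by
        have h2 : ∀ a ∈ I i, a * ε i ∈ ⨅ j, I j := fun a ha => by
          rw [Ideal.mem_iInf]
          intro j
          by_cases hj : j = i
          · subst hj; exact Ideal.mul_mem_right _ _ ha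
          · exact Ideal.mul_mem_left _ _ (hε0 i j hj)
        have := Ideal.mul_mem_mul hxi (Ideal.mem_span_singleton_self (algebraMap A (Bi i) (ε i)))
        rw [← Set.image_singleton, ← Ideal.map_span, ← Ideal.map_mul] at this
        refine Ideal.map_mono ?_ this
        refine Ideal.mul_le.mpr fun a ha c hc => ?_
        obtain ⟨d, rfl⟩ := Ideal.mem_span_singleton'.mp hc
        rw [mul_left_comm]
        exact Ideal.mul_mem_left _ _ (h2 a ha)
      rw [Ideal.mul_unit_mem_iff_mem _ hu] at h1
      rw [Ideal.map, Ideal.span] at h1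
      refine Submodule.span_induction (p := fun b _ => Pi.single i b ∈
        (⨅ j, I j).map (algebraMap A (∀ j, Bi j))) ?_ ?_ ?_ ?_ h1
      · rintro _ ⟨a, ha, rfl⟩
        have := Ideal.mul_mem_left _ (Pi.single i (1 : Bi i))
          (Ideal.mem_map_of_mem (algebraMap A (∀ j, Bi j)) ha)
        convert this using 1
        funext j
        by_cases hj : j = i
        · subst hj; simp [Pi.algebraMap_apply]
        · simp [Pi.single_eq_of_ne hj]
      · simp
      · intro a b _ _ ha hb
        rw [Pi.single_add]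
        exact add_mem ha hb
      · intro c b _ hb
        rw [smul_eq_mul, Pi.single_mul]
        exact Ideal.mul_mem_left _ _ hb
  refine ⟨?_, ?_⟩
  · rw [hP]
    exact henselianRing_pi Bi _ fun i => (hBi i).1
  intro C _ J f hCJ hfJ
  haveI := hCJ
  have hmem : ∀ a ∈ ⨅ i, I i, f a ∈ J := fun a ha => hfJ (Ideal.mem_map_of_mem f ha)
  have hz : CompleteOrthogonalIdempotents fun i => Ideal.Quotient.mk J (f (ε i)) := by
    have key : ∀ a b : A, (∀ k, a - b ∈ I k) → Ideal.Quotient.mk J (f a) = Ideal.Quotient.mk J (f b) :=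
      fun a b h => Ideal.Quotient.eq.mpr (by
        rw [← map_sub]
        exact hmem _ (Ideal.mem_iInf.mpr h))
    refine ⟨⟨fun i => ?_, fun i j hij => ?_⟩, ?_⟩
    · show _ * _ = _
      rw [← map_mul, ← map_mul]
      refine key _ _ fun k => ?_
      rw [show ε i * ε i - ε i = ε i * (ε i - 1) by ring]
      by_cases hk : k = i
      · subst hk; exact Ideal.mul_mem_left _ _ (hε1 k)
      · exact Ideal.mul_mem_right _ _ (hε0 i k hk)
    · show _ * _ = _
      rw [← map_mul, ← map_mul, ← map_zero (Ideal.Quotient.mk J), ← map_zero f]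
      refine key _ _ fun k => ?_
      rw [sub_zero]
      by_cases hk : k = i
      · subst hk; exact Ideal.mul_mem_left _ _ (hε0 j k hij)
      · exact Ideal.mul_mem_right _ _ (hε0 i k hk)
    · simp only [← map_sum]
      rw [← map_one (Ideal.Quotient.mk J), ← map_one f]
      refine key _ _ fun k => ?_
      rw [← Finset.sum_erase_add _ _ (Finset.mem_univ k), add_sub_assoc]
      exact add_mem (sum_mem fun i hi => hε0 i k (Finset.mem_erase.mp hi).1.symm) (hε1 k)
  obtain ⟨E, hE, hEz⟩ := Groth.L05.exists_completeOrthogonalIdempotents_lift J hCJ.jac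
    (fun z hz => by
      obtain ⟨u, rfl⟩ := Ideal.Quotient.mk_surjective z
      obtain ⟨e, he, heu⟩ := Groth.L05.exists_idem_lift_of_finite J u
        (by rw [Algebra.algebraMap_self, Ideal.map_id, ← Ideal.Quotient.eq, map_mul]; exact hz)
      rw [Algebra.algebraMap_self, Ideal.map_id] at heu
      exact ⟨e, he, Ideal.Quotient.eq.mpr heu⟩) hz
  let π : ∀ i, C →+* C ⧸ Ideal.span ({1 - E i} : Set C) := fun i => Ideal.Quotient.mk _
  have hπ : ∀ i, π i (E i) = 1 := fun i => by
    rw [eq_comm, ← map_one (π i), Ideal.Quotient.eq]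
    exact Ideal.mem_span_singleton_self _
  have hπJ : ∀ i, ∀ c, π i c ∈ J.map (π i) ↔ c * E i ∈ J := by
    intro i c
    constructor
    · intro hc
      obtain ⟨d, hd, hdc⟩ := (Ideal.mem_map_iff_of_surjective _ Ideal.Quotient.mk_surjective).mp hc
      obtain ⟨r, hr⟩ := Ideal.mem_span_singleton'.mp (Ideal.Quotient.eq.mp hdc)
      have : c * E i = d * E i := by
        have h0 : (1 - E i) * E i = 0 := by rw [sub_mul, one_mul, (hE.idem i).eq, sub_self]
        linear_combination (E i) * hr - r * h0
      rw [this]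
      exact Ideal.mul_mem_right _ _ hd
    · intro hc
      have := Ideal.mem_map_of_mem (π i) hc
      rwa [map_mul, hπ, mul_one] at this
  have hIi : ∀ i, (I i).map ((π i).comp f) ≤ J.map (π i) := fun i =>
    Ideal.map_le_iff_le_comap.mpr fun a ha => by
      rw [Ideal.mem_comap, RingHom.comp_apply, hπJ]
      have h1 : f a * f (ε i) ∈ J := by
        rw [← map_mul]
        refine hmem _ (Ideal.mem_iInf.mpr fun j => ?_)
        by_cases hj : j = i
        · subst hj; exact Ideal.mul_mem_right _ _ ha
        · exact Ideal.mul_mem_left _ _ (hε0 i j hj)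
      have h2 : E i - f (ε i) ∈ J := Ideal.Quotient.eq.mp (hEz i)
      have := J.add_mem h1 (J.mul_mem_left (f a) h2)
      convert this using 1
      ring
  choose g hg hgu using fun i => (hBi i).2 (C ⧸ Ideal.span ({1 - E i} : Set C)) (J.map (π i))
    ((π i).comp f) (Groth.L05.henselianRing_quotient J _) (hIi i)
  let e := RingEquiv.ofBijective _ hE.bijective_pi
  let G : (∀ i, Bi i) →+* C :=
    e.symm.toRingHom.comp (Pi.ringHom fun i => (g i).comp (Pi.evalRingHom Bi i))
  have hinj : ∀ c d : C, (∀ i, π i c = π i d) → c = d := fun c d h => e.injective (funext h)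
  have hG : ∀ (x : ∀ i, Bi i) (i : Fin n), π i (G x) = g i (x i) := fun x i =>
    congrFun (e.apply_symm_apply (Pi.ringHom (fun j => (g j).comp (Pi.evalRingHom Bi j)) x)) i
  refine ⟨G, RingHom.ext fun a => hinj _ _ fun i => ?_, fun g' hg' => ?_⟩
  · rw [RingHom.comp_apply, hG, Pi.algebraMap_apply, ← RingHom.comp_apply (g i), hg i]
    rfl
  have hE' : ∀ i, g' (Pi.single i 1) = E i := by
    intro i
    refine Groth.L05.idem_eq_of_sub_mem hCJ.jac ?_ (hE.idem i) ?_
    · show _ * _ = _
      rw [← map_mul, ← Pi.single_mul, one_mul]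
    · have h1 : algebraMap A (∀ j, Bi j) (ε i) - Pi.single i 1 ∈ P := by
        simp only [P, Ideal.mem_iInf, Ideal.mem_comap]
        intro j
        by_cases hj : j = i
        · subst hj
          simp only [Pi.evalRingHom_apply, Pi.sub_apply, Pi.single_eq_same, Pi.algebraMap_apply]
          rw [← map_one (algebraMap A (Bi j)), ← map_sub]
          exact Ideal.mem_map_of_mem _ (hε1 j)
        · simp only [Pi.evalRingHom_apply, Pi.sub_apply, Pi.single_eq_of_ne hj, sub_zero,
            Pi.algebraMap_apply]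
          exact Ideal.mem_map_of_mem _ (hε0 i j hj)
      rw [← hP] at h1
      have h2 := Ideal.mem_map_of_mem g' h1
      rw [Ideal.map_map, hg'] at h2
      have h3 := hfJ h2
      rw [map_sub, ← RingHom.comp_apply g', hg'] at h3
      have h4 : E i - f (ε i) ∈ J := Ideal.Quotient.eq.mp (hEz i)
      have := J.add_mem (J.neg_mem h4) (J.neg_mem h3)
      convert this using 1
      ring
  have hfac : ∀ (x : ∀ j, Bi j) i, π i (g' x) = π i (g' (Pi.single i (x i))) := by
    intro x i
    have e1 : x * Pi.single i 1 = Pi.single i (x i) := by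
      funext j
      by_cases hj : j = i
      · subst hj; simp
      · simp [Pi.single_eq_of_ne hj]
    rw [← e1, map_mul, map_mul, hE', hπ, mul_one]
  have hgi : ∀ i, ∃ h : Bi i →+* C ⧸ Ideal.span ({1 - E i} : Set C),
      ∀ b, h b = π i (g' (Pi.single i b)) := fun i => by
    refine ⟨{ toFun := fun b => π i (g' (Pi.single i b))
              map_one' := ?_, map_mul' := ?_, map_zero' := ?_, map_add' := ?_ }, fun b => rfl⟩
    · rw [hE', hπ]
    · intro a b
      rw [← map_mul, ← map_mul, ← Pi.single_mul]
    · simp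
    · intro a b
      rw [Pi.single_add, map_add, map_add]
  refine RingHom.ext fun x => hinj _ _ fun i => ?_
  obtain ⟨h, hh⟩ := hgi i
  have : h = g i := hgu i h (RingHom.ext fun a => by
    show h (algebraMap A (Bi i) a) = π i (f a)
    have := hfac (algebraMap A (∀ j, Bi j) a) i
    rw [← RingHom.comp_apply g', hg'] at this
    rw [hh]
    exact this.symm)
  rw [hfac, hG, ← hh, this]

end Groth.L05.Henselization
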