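import Groth.Agent.L05.Henselization.SmoothUnibranch
import Groth.Agent.L20.TorAmpWeaklyEtale
import Mathlib.RingTheory.Smooth.Basic
import Mathlib.FieldTheory.IsAlgClosed.AlgebraicClosure

/-!
# Prime elements of strict henselizations are stable under smooth maps
-/

set_option autoImplicit false
universe u

open IsLocalRing TensorProduct

namespace Groth.L05.Henselization.Branches

theorem prime_of_faithfullyFlat {T T' : Type u} [CommRing T] [IsLocalRing T] [CommRing T'] [IsLocalRing T']
    (g : T →+* T') [IsLocalHom g] (hg : g.Flat) (x : T) (hx : Prime (g x)) : Prime x := by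
  letI := g.toAlgebra
  haveI : Module.Flat T T' := hg
  haveI : IsLocalHom (algebraMap T T') := ‹IsLocalHom g›
  haveI : Module.FaithfullyFlat T T' := Module.FaithfullyFlat.of_flat_of_isLocalHom
  have key : ∀ a, g x ∣ g a → x ∣ a := fun a h => by
    rw [← Ideal.mem_span_singleton] at h ⊢
    rw [← Ideal.comap_map_eq_self_of_faithfullyFlat (B := T') (Ideal.span {x}), Ideal.mem_comap,
      Ideal.map_span, Set.image_singleton]
    exact h
  exact ⟨fun h => hx.ne_zero (by rw [h, map_zero]), fun h => hx.not_unit (h.map g),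
    fun a b hab => (hx.dvd_or_dvd (by rw [← map_mul]; exact map_dvd g hab)).imp (key a) (key b)⟩

theorem isUnit_or_prime_strict {R : Type u} [CommRing R] (Δ : R)
    (h : ∀ (p : Ideal R) [p.IsPrime], Δ ∈ p →
      ∀ (T : Type u) [CommRing T] [IsLocalRing T] [Algebra (Localization.AtPrime p) T]
        [IsLocalHom (algebraMap (Localization.AtPrime p) T)]
        [Hensel.IsStrictHenselization (Localization.AtPrime p) T],
        Prime (algebraMap (Localization.AtPrime p) T (algebraMap R (Localization.AtPrime p) Δ)))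
    (R' : Type u) [CommRing R'] [Algebra R R'] [Algebra.Smooth R R'] (q : Ideal R') [q.IsPrime]
    (T : Type u) [CommRing T] [IsLocalRing T] [Algebra (Localization.AtPrime q) T]
    [IsLocalHom (algebraMap (Localization.AtPrime q) T)]
    [hT : Hensel.IsStrictHenselization (Localization.AtPrime q) T] :
    IsUnit (algebraMap (Localization.AtPrime q) T (algebraMap R' (Localization.AtPrime q) (algebraMap R R' Δ))) ∨
      Prime (algebraMap (Localization.AtPrime q) T (algebraMap R' (Localization.AtPrime q) (algebraMap R R' Δ))) := by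
  let p : Ideal R := q.comap (algebraMap R R')
  haveI : p.IsPrime := Ideal.IsPrime.comap _
  by_cases hΔp : Δ ∈ p
  swap
  · exact Or.inl (((IsLocalization.AtPrime.isUnit_to_map_iff _ q _).mpr hΔp).map _)
  right
  let Rp := Localization.AtPrime p
  let Rq := Localization.AtPrime q
  obtain ⟨Sh, _, _, _, _, hSh⟩ := exists_isStrictHenselization Rp
  have hΔ : Prime (algebraMap Rp Sh (algebraMap R Rp Δ)) := h p hΔp Sh
  haveI : HenselianLocalRing Sh := hSh.henselian
  haveI : IsSepClosed (ResidueField Sh) := hSh.isSepClosure.sep_closed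
  letI : Algebra R Sh := ((algebraMap Rp Sh).comp (algebraMap R Rp)).toAlgebra
  haveI : IsScalarTower R Rp Sh := IsScalarTower.of_algebraMap_eq' rfl
  haveI : Algebra.WeaklyEtale Rp Sh :=
    Groth.L27.IndEtale.weaklyEtale Rp Sh (isIndEtale_of_isStrictHenselization Rp Sh)
  haveI : Algebra.WeaklyEtale R Rp := Groth.L20.weaklyEtale_isLocalization p.primeCompl Rp
  haveI : Algebra.WeaklyEtale R Sh := Algebra.WeaklyEtale.trans R Rp Sh
  let R'' := R' ⊗[R] Sh
  letI : Algebra Sh R'' := Algebra.TensorProduct.rightAlgebra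
  haveI : Algebra.Smooth Sh R'' := Algebra.Smooth.of_equiv
    (AlgEquiv.ofRingEquiv (f := (Algebra.TensorProduct.comm R Sh R').toRingEquiv) fun s => by
      show Algebra.TensorProduct.comm R Sh R' (s ⊗ₜ 1) = _
      rw [Algebra.TensorProduct.comm_tmul]; rfl : Sh ⊗[R] R' ≃ₐ[Sh] R'')
  -- a prime over `q` and the closed point
  let ρ : Rp →+* Rq := Localization.localRingHom p q (algebraMap R R') rfl
  haveI : IsLocalHom ρ := Localization.isLocalHom_localRingHom _ _ _ _
  let L := AlgebraicClosure (ResidueField Rq)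
  letI : Algebra (ResidueField Rp) L :=
    ((algebraMap (ResidueField Rq) L).comp (ResidueField.map ρ)).toAlgebra
  haveI : Algebra.IsSeparable (ResidueField Rp) (ResidueField Sh) := hSh.isSepClosure.separable
  let j : ResidueField Sh →ₐ[ResidueField Rp] L := IsSepClosed.lift
  let a : R' →+* L := (algebraMap (ResidueField Rq) L).comp ((residue Rq).comp (algebraMap R' Rq))
  let b : Sh →+* L := j.toRingHom.comp (residue Sh)
  letI : Algebra R L := (a.comp (algebraMap R R')).toAlgebra
  let Ψ : R'' →ₐ[R] L := Algebra.TensorProduct.lift (⟨a, fun r => rfl⟩ : R' →ₐ[R] L)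
    (⟨b, fun r => by
      show j (residue Sh (algebraMap Rp Sh (algebraMap R Rp r))) = a (algebraMap R R' r)
      rw [show residue Sh (algebraMap Rp Sh (algebraMap R Rp r)) =
        algebraMap (ResidueField Rp) (ResidueField Sh) (residue Rp (algebraMap R Rp r)) from
        (ResidueField.map_residue (algebraMap Rp Sh) _).symm, j.commutes]
      show algebraMap (ResidueField Rq) L (ResidueField.map ρ (residue Rp (algebraMap R Rp r))) = _
      rw [ResidueField.map_residue, Localization.localRingHom_to_map]
      rfl⟩ : Sh →ₐ[R] L) fun _ _ => Commute.all _ _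
  let q'' : Ideal R'' := RingHom.ker Ψ.toRingHom
  haveI : q''.IsPrime := RingHom.ker_isPrime _
  have hΨl : ∀ x : R', Ψ (algebraMap R' R'' x) = a x := fun x => by
    show Ψ (x ⊗ₜ 1) = a x
    refine (Algebra.TensorProduct.lift_tmul _ _ _ _ _).trans ?_
    rw [map_one, mul_one]; rfl
  have hΨr : ∀ x : Sh, Ψ (algebraMap Sh R'' x) = b x := fun x => by
    show Ψ (1 ⊗ₜ x) = b x
    refine (Algebra.TensorProduct.lift_tmul _ _ _ _ _).trans ?_
    rw [map_one, one_mul]; rfl
  have hm : (maximalIdeal Sh).map (algebraMap Sh R'') ≤ q'' := by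
    rw [Ideal.map_le_iff_le_comap]
    intro x hx
    show Ψ (algebraMap Sh R'' x) = 0
    rw [hΨr]
    show j (residue Sh x) = 0
    rw [(residue_eq_zero_iff x).mpr hx, map_zero]
  have hq : q = q''.comap (algebraMap R' R'') := by
    ext x
    show x ∈ q ↔ Ψ (algebraMap R' R'' x) = 0
    rw [hΨl]
    show x ∈ q ↔ algebraMap (ResidueField Rq) L (residue Rq (algebraMap R' Rq x)) = 0
    rw [map_eq_zero_iff _ (algebraMap (ResidueField Rq) L).injective, residue_eq_zero_iff,
      IsLocalization.AtPrime.to_map_mem_maximal_iff Rq q]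
  let A'' := Localization.AtPrime q''
  let σ : Rq →+* A'' := Localization.localRingHom q q'' (algebraMap R' R'') hq
  haveI : IsLocalHom σ := Localization.isLocalHom_localRingHom _ _ _ _
  obtain ⟨T'', _, _, _, _, hT''⟩ := exists_isStrictHenselization A''
  haveI : HenselianLocalRing T'' := hT''.henselian
  haveI : IsSepClosed (ResidueField T'') := hT''.isSepClosure.sep_closed
  have hprime := prime_map_strict_of_smooth (R := Sh) R'' q'' hm T'' _ hΔ
  let f : Rq →+* T'' := (algebraMap A'' T'').comp σ
  haveI : IsLocalHom f :=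
    ⟨fun x hx => IsLocalHom.map_nonunit (f := σ) _ (IsLocalHom.map_nonunit (f := algebraMap A'' T'') _ hx)⟩
  letI : Algebra (ResidueField Rq) (ResidueField T'') := (ResidueField.map f).toAlgebra
  haveI : Algebra.IsSeparable (ResidueField Rq) (ResidueField T) := hT.isSepClosure.separable
  let τ : ResidueField T →ₐ[ResidueField Rq] ResidueField T'' := IsSepClosed.lift
  obtain ⟨g, ⟨hg1, hg2⟩, -⟩ := hT.universal T'' f τ.toRingHom τ.comp_algebraMap
  haveI : IsLocalHom g := ⟨fun x hx => by
    by_contra hnu
    have h0 := hg2 x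
    rw [(residue_eq_zero_iff x).mpr (by rwa [mem_maximalIdeal]), map_zero, residue_eq_zero_iff,
      mem_maximalIdeal] at h0
    exact h0 hx⟩
  -- flatness
  haveI : Algebra.WeaklyEtale R' R'' := inferInstance
  haveI : IsScalarTower R' R'' A'' := inferInstance
  letI : Algebra Rq A'' := σ.toAlgebra
  haveI : IsScalarTower R' Rq A'' :=
    IsScalarTower.of_algebraMap_eq fun x => (Localization.localRingHom_to_map q q'' _ hq x).symm
  haveI : Algebra.WeaklyEtale Rq A'' :=
    Groth.L20.weaklyEtale_of_isLocalization q.primeCompl q''.primeCompl Rq A''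
  haveI : Algebra.WeaklyEtale A'' T'' :=
    Groth.L27.IndEtale.weaklyEtale A'' T'' (isIndEtale_of_isStrictHenselization A'' T'')
  letI : Algebra Rq T'' := f.toAlgebra
  haveI : IsScalarTower Rq A'' T'' := IsScalarTower.of_algebraMap_eq' rfl
  haveI : Algebra.WeaklyEtale Rq T'' := Algebra.WeaklyEtale.trans Rq A'' T''
  haveI : Algebra.WeaklyEtale Rq T :=
    Groth.L27.IndEtale.weaklyEtale Rq T (isIndEtale_of_isStrictHenselization Rq T)
  letI : Algebra T T'' := g.toAlgebra
  haveI : IsScalarTower Rq T T'' := IsScalarTower.of_algebraMap_eq' hg1.symm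
  have hflat : g.Flat := (Groth.L20.TorAmp.weaklyEtale_cancel Rq T T'').1
  refine prime_of_faithfullyFlat g hflat _ ?_
  rw [show g (algebraMap Rq T (algebraMap R' Rq (algebraMap R R' Δ))) = f (algebraMap R' Rq (algebraMap R R' Δ))
    from RingHom.congr_fun hg1 _]
  show Prime (algebraMap A'' T'' (σ (algebraMap R' Rq (algebraMap R R' Δ))))
  rw [Localization.localRingHom_to_map]
  have hΔeq : algebraMap R' R'' (algebraMap R R' Δ) = algebraMap Sh R'' (algebraMap R Sh Δ) := by
    show (algebraMap R R' Δ) ⊗ₜ[R] (1 : Sh) = (1 : R') ⊗ₜ[R] (algebraMap R Sh Δ)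
    rw [Algebra.TensorProduct.tmul_one_eq_one_tmul]
  rw [hΔeq]
  exact hprime

end Groth.L05.Henselization.Branches
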