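import Groth.Agent.L05.Henselization.FormalConnected
import Mathlib.AlgebraicGeometry.Geometrically.Reduced
import Mathlib.AlgebraicGeometry.Pullbacks

/-!
# Connectedness of the fibres of flat local maps out of henselian local rings
-/

set_option autoImplicit false
set_option maxSynthPendingDepth 3
set_option linter.style.haveILetI false

open IsLocalRing TensorProduct AlgebraicGeometry CategoryTheory

namespace Groth.L05.Henselization.FibreConnected

universe u

theorem isReduced_tensor_of_geometricallyReduced (A B : Type u) [CommRing A] [CommRing B] [Algebra A B]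
    [GeometricallyReduced (Spec.map (CommRingCat.ofHom (algebraMap A B)))]
    (κ : Type u) [Field κ] [Algebra A κ] : _root_.IsReduced (B ⊗[A] κ) := by
  have h := GeometricallyReduced.geometrically_isReduced
    (f := Spec.map (CommRingCat.ofHom (algebraMap A B))) (Spec.map (CommRingCat.ofHom (algebraMap A κ))) _ _
    (isPullback_SpecMap_of_isPushout _ _ _ _ (CommRingCat.isPushout_tensorProduct A B κ))
  exact (affine_isReduced_iff _).mp h

variable (A B : Type u) [CommRing A] [IsNoetherianRing A] [HenselianLocalRing A]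
  [CommRing B] [IsLocalRing B] [IsNoetherianRing B] [Algebra A B] [IsLocalHom (algebraMap A B)] [Module.Flat A B]
  (hred : ∀ (κ : Type u) [Field κ] [Algebra A κ], _root_.IsReduced (B ⊗[A] κ))
  (hloc : ∀ (N : Type u) [CommRing N] [IsDomain N] [IsLocalRing N] [Algebra A N] [Algebra.IsIntegral A N],
    IsLocalRing (N ⊗[A] B))

include hred hloc in
theorem idem_tensor_algebraic (L : Type u) [Field L] [Algebra A L]
    (halg : ∀ x : L, ∃ a : A, algebraMap A L a ≠ 0 ∧ IsIntegral A (a • x))
    (e : B ⊗[A] L) (he : IsIdempotentElem e) : e = 0 ∨ e = 1 := by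
  let N := integralClosure A L
  haveI : IsFractionRing N L := IsFractionRing.of_field N L fun x => by
    obtain ⟨a, ha0, ha⟩ := halg x
    refine ⟨⟨a • x, ha⟩, algebraMap A N a, ?_⟩
    show _ = (a • x : L) / algebraMap A L a
    rw [Algebra.smul_def, mul_div_cancel_left₀ _ ha0]
  haveI : IsIntegrallyClosed N := (isIntegrallyClosed_iff L).mpr fun {x} hx =>
    ⟨⟨x, isIntegral_trans (A := N) _ hx⟩, rfl⟩
  haveI : Module.FaithfullyFlat A B := Module.FaithfullyFlat.of_flat_of_isLocalHom
  haveI : IsLocalRing N := Groth.L05.isLocalRing_of_integral_domain (A := A) N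
  haveI := hloc N
  haveI : IsLocalRing (B ⊗[A] N) :=
    (Algebra.TensorProduct.comm A B N).symm.toRingEquiv.isLocalRing
  let f := Algebra.TensorProduct.map (AlgHom.id A (B)) (IsScalarTower.toAlgHom A N L)
  obtain ⟨w, hw⟩ := Groth.L06.NormalTensor.mem_range_of_isIntegralElem (B)
    hred N L e
    ⟨Polynomial.X ^ 2 - Polynomial.X, (Polynomial.monic_X_pow 2).sub_of_left (by
      rw [Polynomial.degree_X_pow, Polynomial.degree_X]; norm_cast), by
      simp [pow_two, he.eq]⟩
  have hf : Function.Injective f :=
    Module.Flat.lTensor_preserves_injective_linearMap (M := B)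
      (IsScalarTower.toAlgHom A N L).toLinearMap (IsFractionRing.injective N L)
  have hwi : IsIdempotentElem w := hf (by rw [map_mul, hw]; exact he)
  rcases IsLocalRing.isUnit_or_isUnit_one_sub_self w with hu | hu
  · exact Or.inr (by rw [← hw, hu.mul_eq_left.mp hwi, map_one])
  · exact Or.inl (by rw [← hw, hu.mul_right_eq_zero.mp hwi.one_sub_mul_self, map_zero])

include hred hloc in
theorem connectedSpace_tensor (K : Type u) [Field K] [Algebra A K] :
    ConnectedSpace (PrimeSpectrum (K ⊗[A] B)) := by
  let p := RingHom.ker (algebraMap A K)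
  haveI : p.IsPrime := RingHom.ker_isPrime _
  let k := p.ResidueField
  let g : k →ₐ[A] K := Ideal.ResidueField.liftₐ p (Algebra.ofId A K) le_rfl
    fun x hx => isUnit_iff_ne_zero.mpr hx
  letI : Algebra k K := g.toRingHom.toAlgebra
  haveI : IsScalarTower A k K := IsScalarTower.of_algebraMap_eq fun x => (g.commutes x).symm
  haveI : Module.FaithfullyFlat A B := Module.FaithfullyFlat.of_flat_of_isLocalHom
  haveI : Nontrivial (B ⊗[A] K) := Module.FaithfullyFlat.lTensor_nontrivial A (B) K
  haveI : Nontrivial (K ⊗[A] B) :=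
    (Algebra.TensorProduct.comm A K (B)).toRingEquiv.toEquiv.nontrivial
  let Ω := AlgebraicClosure k
  let K' := AlgebraicClosure K
  let φ : Ω →ₐ[k] K' := IsAlgClosed.lift
  letI : Algebra Ω K' := φ.toRingHom.toAlgebra
  haveI : IsScalarTower k Ω K' := IsScalarTower.of_algebraMap_eq fun x => (φ.commutes x).symm
  haveI : IsScalarTower A Ω K' := IsScalarTower.of_algebraMap_eq fun x => by
    rw [IsScalarTower.algebraMap_apply A k Ω, ← IsScalarTower.algebraMap_apply k Ω K',
      ← IsScalarTower.algebraMap_apply A k K']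
  have hΩ : ∀ e : Ω ⊗[A] B, IsIdempotentElem e → e = 0 ∨ e = 1 := by
    intro e he
    have halg : ∀ x : Ω, ∃ a : A, algebraMap A Ω a ≠ 0 ∧ IsIntegral A (a • x) := fun x => by
      haveI : FaithfulSMul (A ⧸ p) Ω := (faithfulSMul_iff_algebraMap_injective _ _).mpr (by
        rw [IsScalarTower.algebraMap_eq (A ⧸ p) k Ω]
        exact (algebraMap k Ω).injective.comp (IsFractionRing.injective (A ⧸ p) k))
      obtain ⟨y, hy0, hy⟩ := ((IsFractionRing.isAlgebraic_iff (A ⧸ p) k Ω).mpr
        (Algebra.IsAlgebraic.isAlgebraic (R := k) x)).exists_integral_multiple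
      obtain ⟨a, rfl⟩ := Ideal.Quotient.mk_surjective y
      refine ⟨a, fun h0 => hy0 ?_, ?_⟩
      · rw [IsScalarTower.algebraMap_apply A (A ⧸ p) Ω] at h0
        exact (map_eq_zero_iff _ (FaithfulSMul.algebraMap_injective (A ⧸ p) Ω)).mp h0
      · haveI : Algebra.IsIntegral A (A ⧸ p) := Algebra.IsIntegral.of_finite A _
        have h1 := isIntegral_trans (R := A) (A := A ⧸ p) _ hy
        rwa [show (a • x : Ω) = (Ideal.Quotient.mk p a) • x from (algebraMap_smul (A ⧸ p) a x).symm]
    have c := Algebra.TensorProduct.comm A Ω (B)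
    rcases idem_tensor_algebraic A B hred hloc Ω halg (c e) (he.map c) with h0 | h0
    · exact Or.inl (c.injective (h0.trans (map_zero c).symm))
    · exact Or.inr (c.injective (h0.trans (map_one c).symm))
  refine Groth.L18.SchFin.connectedSpace_of_idem fun e he => ?_
  let ι : K ⊗[A] B →ₐ[A] K' ⊗[A] B :=
    Algebra.TensorProduct.map (IsScalarTower.toAlgHom A K K') (AlgHom.id A _)
  have hι : Function.Injective ι :=
    Module.Flat.rTensor_preserves_injective_linearMap (M := B)
      (IsScalarTower.toAlgHom A K K').toLinearMap (algebraMap K K').injective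
  let ε := (Algebra.TensorProduct.cancelBaseChange A Ω Ω K' (B)).toRingEquiv
  rcases FormalConnected.idem_tensor_of_isAlgClosed (k := Ω) hΩ (ε.symm (ι e)) ((he.map ι).map ε.symm) with h0 | h0
  · exact Or.inl (hι ((ε.symm.injective (h0.trans (map_zero ε.symm).symm)).trans (map_zero ι).symm))
  · exact Or.inr (hι ((ε.symm.injective (h0.trans (map_one ε.symm).symm)).trans (map_one ι).symm))


theorem connectedSpace_of_surjective
    [GeometricallyReduced (Spec.map (CommRingCat.ofHom (algebraMap A B)))]
    (hres : Function.Bijective (ResidueField.map (algebraMap A B)))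
    (K : Type u) [Field K] [Algebra A K] : ConnectedSpace (PrimeSpectrum (K ⊗[A] B)) := by
  refine connectedSpace_tensor A B (fun κ _ _ => isReduced_tensor_of_geometricallyReduced A B κ)
    (fun N _ _ _ _ _ => ?_) K
  refine Branches.isLocalRing_tensor_of_surjective A B N fun s => ?_
  obtain ⟨y, hy⟩ := hres.2 (residue B s)
  obtain ⟨a, rfl⟩ := residue_surjective y
  rw [ResidueField.map_residue] at hy
  exact ⟨a, (residue_eq_zero_iff _).mp (by rw [map_sub, hy, sub_self])⟩

theorem connectedSpace_of_isSepClosed
    [GeometricallyReduced (Spec.map (CommRingCat.ofHom (algebraMap A B)))]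
    [IsSepClosed (ResidueField A)]
    (K : Type u) [Field K] [Algebra A K] : ConnectedSpace (PrimeSpectrum (K ⊗[A] B)) := by
  refine connectedSpace_tensor A B (fun κ _ _ => isReduced_tensor_of_geometricallyReduced A B κ)
    (fun N _ _ _ _ _ => ?_) K
  refine Branches.isLocalRing_tensor_of_pi A B N fun x => ?_
  haveI : IsLocalHom (algebraMap A N) := ((IsLocalRing.local_hom_TFAE _).out 0 4 rfl rfl).mpr
    (eq_maximalIdeal (Ideal.isMaximal_comap_of_isIntegral_of_isMaximal (maximalIdeal N)))
  let k := ResidueField A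
  let kN := ResidueField N
  haveI : Algebra.IsAlgebraic k kN := by
    haveI : IsScalarTower A k kN := IsScalarTower.of_algebraMap_eq fun r => rfl
    haveI : Algebra.IsIntegral A kN := ⟨fun z => by
      obtain ⟨a, rfl⟩ := Ideal.Quotient.mk_surjective z
      exact (Algebra.IsIntegral.isIntegral (R := A) a).map (IsScalarTower.toAlgHom A N kN)⟩
    haveI : Algebra.IsIntegral k kN := Algebra.IsIntegral.tower_top (R := A)
    infer_instance
  haveI := Groth.L05.isPurelyInseparable_of_isSepClosed_base k kN
  haveI : ExpChar k (ringExpChar kN) :=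
    RingHom.expChar (algebraMap k kN) (algebraMap k kN).injective (ringExpChar kN)
  obtain ⟨n, y, hy⟩ := IsPurelyInseparable.pow_mem k (ringExpChar kN) x
  obtain ⟨r, rfl⟩ := residue_surjective y
  exact ⟨n, r, hy⟩

end Groth.L05.Henselization.FibreConnected
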