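import Groth.Agent.L05.Henselization.NbhdTensor
import Groth.Agent.L05.Hfp.Finite
import Mathlib.RingTheory.Etale.Basic
import Mathlib.RingTheory.Localization.Away.Lemmas
import Mathlib.Algebra.Polynomial.Lifts

/-!
# A finite piece over an étale neighbourhood
-/

set_option autoImplicit false

universe u

open TensorProduct

namespace Groth.L05.Henselization

theorem exists_finite_piece (A : Type u) [CommRing A] (I : Ideal A) (B : Type u) [CommRing B] [Algebra A B]
    [Algebra.FiniteType A B] (hfin : Module.Finite A (B ⧸ Ideal.map (algebraMap A B) I)) :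
    ∃ (S : Type u) (_ : CommRing S) (_ : Algebra A S) (_ : Algebra.Etale A S)
      (σ : S →ₐ[A] A ⧸ I) (e : S ⊗[A] B), RingHom.ker σ = I.map (algebraMap A S) ∧ IsIdempotentElem e ∧
      e - 1 ∈ I.map (algebraMap A (S ⊗[A] B)) ∧
      Module.Finite S ((S ⊗[A] B) ⧸ Ideal.span ({1 - e} : Set (S ⊗[A] B))) := by
  classical
  let Ah := PairHens A I
  have hAh := isPairHenselization A I
  haveI := hAh.1
  let J : Ideal Ah := I.map (algebraMap A Ah)
  let T := Ah ⊗[A] B
  have hIT : J.map (algebraMap Ah T) = I.map (algebraMap A T) := by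
    rw [Ideal.map_map, ← IsScalarTower.algebraMap_eq]
  haveI : Algebra.FiniteType Ah T := inferInstance
  have hsurj : ∀ z : T, ∃ b : B, z - (1 : Ah) ⊗ₜ[A] b ∈ I.map (algebraMap A T) := fun z =>
    exists_sub_tmul_mem I (σ := ε A (A ⧸ I)) (ker_ε_pair A I) z
  haveI : Module.Finite Ah (T ⧸ J.map (algebraMap Ah T)) := by
    let f : (B ⧸ I.map (algebraMap A B)) →ₐ[A] T ⧸ J.map (algebraMap Ah T) :=
      Ideal.quotientMapₐ _ (Algebra.TensorProduct.includeRight (R := A) (A := Ah) (B := B))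
        (Ideal.map_le_iff_le_comap.mpr fun a ha => by
          show Algebra.TensorProduct.includeRight (algebraMap A B a) ∈ J.map (algebraMap Ah T)
          rw [AlgHom.commutes, hIT]
          exact Ideal.mem_map_of_mem _ ha)
    have hf : Function.Surjective f := fun z => by
      obtain ⟨z, rfl⟩ := Ideal.Quotient.mk_surjective z
      obtain ⟨b, hb⟩ := hsurj z
      refine ⟨Ideal.Quotient.mk _ b, Ideal.Quotient.eq.mpr ?_⟩
      rw [hIT, ← neg_sub]
      exact neg_mem hb
    haveI : Module.Finite A (T ⧸ J.map (algebraMap Ah T)) := Module.Finite.of_surjective f.toLinearMap hf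
    exact Module.Finite.of_restrictScalars_finite A Ah _
  obtain ⟨e, he, heJ, hef⟩ := Groth.L05.Hfp.exists_idem_finite_of_quotient_finite J (R := T)
  obtain ⟨nx, π, hπ⟩ := Algebra.FiniteType.iff_quotient_mvPolynomial''.mp ‹Algebra.FiniteType A B›
  let x : Fin nx → B := fun i => π (MvPolynomial.X i)
  let xh : Fin nx → T ⧸ Ideal.span ({1 - e} : Set T) := fun i => Ideal.Quotient.mk _ ((1 : Ah) ⊗ₜ[A] x i)
  choose P hP hPx using fun i => (IsIntegral.of_finite Ah (xh i) : IsIntegral Ah (xh i))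
  have hmem : ∀ i, ∃ c : T, Polynomial.aeval ((1 : Ah) ⊗ₜ[A] x i) (P i) = c * (1 - e) := fun i => by
    have h0 : Polynomial.aeval ((1 : Ah) ⊗ₜ[A] x i) (P i) ∈ Ideal.span ({1 - e} : Set T) := by
      rw [← Ideal.Quotient.eq_zero_iff_mem]
      have := hPx i
      rw [← Polynomial.aeval_def] at this
      rw [← this]
      exact (Polynomial.aeval_algHom_apply (Ideal.Quotient.mkₐ Ah (Ideal.span ({1 - e} : Set T))) _ (P i)).symm
    obtain ⟨c, hc⟩ := Ideal.mem_span_singleton'.mp h0
    exact ⟨c, hc.symm⟩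
  choose c hc using hmem
  obtain ⟨S₀, _, _, _, σ₀, g₀, hσ₀, hlift⟩ := exists_nbhd_lift_tensor (ι := Option (Fin nx)) I
    (fun o => o.elim e c)
  obtain ⟨S₁, _, _, _, ψ₀, σ₁, g₁, hσ₁, hg₁, hcoeff⟩ :=
    exists_nbhd_extend I hσ₀ g₀ (Finset.univ.biUnion fun i => (P i).coeffs)
  obtain ⟨e₀, he₀⟩ := hlift none
  choose c₀ hc₀ using fun i => hlift (some i)
  let m₀ := Algebra.TensorProduct.map ψ₀ (AlgHom.id A B)
  let m₁ := Algebra.TensorProduct.map g₁ (AlgHom.id A B)
  have hm : ∀ z, m₁ (m₀ z) = Algebra.TensorProduct.map g₀ (AlgHom.id A B) z := fun z => by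
    rw [← AlgHom.comp_apply, ← Algebra.TensorProduct.map_comp, hg₁, AlgHom.comp_id]
  have hlifts : ∀ i, ∃ Q : Polynomial S₁, Q.map g₁.toRingHom = P i ∧ Q.Monic := fun i => by
    rcases subsingleton_or_nontrivial (PairHens A I) with _ | _
    · exact ⟨1, Subsingleton.elim _ _, Polynomial.monic_one⟩
    obtain ⟨Q, h1, -, h2⟩ := Polynomial.lifts_and_degree_eq_and_monic (f := g₁.toRingHom) (p := P i)
      ((Polynomial.lifts_iff_coeff_lifts (P i)).mpr fun k => by
        by_cases hk : (P i).coeff k = 0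
        · exact ⟨0, by rw [map_zero, hk]⟩
        · obtain ⟨y, hy⟩ := hcoeff _ (Finset.mem_biUnion.mpr ⟨i, Finset.mem_univ i, Polynomial.coeff_mem_coeffs hk⟩)
          exact ⟨y, hy⟩) (hP i)
    exact ⟨Q, h1, h2⟩
  choose Q hQ hQm using hlifts
  have hme : m₁ (m₀ e₀) = e := (hm _).trans he₀
  have hmQ : ∀ i, m₁ (Polynomial.aeval ((1 : S₁) ⊗ₜ[A] x i) (Q i)) = Polynomial.aeval ((1 : Ah) ⊗ₜ[A] x i) (P i) := by
    intro i
    rw [← hQ i, Polynomial.aeval_def, Polynomial.aeval_def, Polynomial.eval₂_map]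
    refine (Polynomial.hom_eval₂ (Q i) (algebraMap S₁ (S₁ ⊗[A] B)) m₁.toRingHom ((1 : S₁) ⊗ₜ[A] x i)).trans ?_
    rw [show m₁.toRingHom.comp (algebraMap S₁ (S₁ ⊗[A] B)) = (algebraMap Ah T).comp g₁.toRingHom from
        RingHom.ext fun s => by
          show m₁ (s ⊗ₜ[A] (1 : B)) = g₁ s ⊗ₜ[A] (1 : B)
          simp [m₁],
      show m₁.toRingHom ((1 : S₁) ⊗ₜ[A] x i) = (1 : Ah) ⊗ₜ[A] x i by simp [m₁]]
  obtain ⟨S, _, _, _, ψ, σ, g, hσ, hg, hkill⟩ := exists_nbhd_kill_tensor I hσ₁ g₁
    (insert (m₀ e₀ * m₀ e₀ - m₀ e₀)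
      (Finset.univ.image fun i => Polynomial.aeval ((1 : S₁) ⊗ₜ[A] x i) (Q i) - m₀ (c₀ i) * (1 - m₀ e₀))) (by
    intro z hz
    rcases Finset.mem_insert.mp hz with rfl | hz
    · show m₁ (_ - _) = 0
      rw [map_sub, map_mul, hme, he.eq, sub_self]
    · obtain ⟨i, -, rfl⟩ := Finset.mem_image.mp hz
      show m₁ (_ - _) = 0
      rw [map_sub, map_mul, map_sub, map_one, hme, hmQ, hm, show Algebra.TensorProduct.map g₀ (AlgHom.id A B) (c₀ i) = c i from hc₀ i,
        hc, sub_self])
  let m := Algebra.TensorProduct.map ψ (AlgHom.id A B)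
  let e₁ := m (m₀ e₀)
  have he₁ : IsIdempotentElem e₁ := by
    have := hkill _ (Finset.mem_insert_self _ _)
    rwa [map_sub, map_mul, sub_eq_zero] at this
  refine ⟨S, inferInstance, inferInstance, inferInstance, σ, e₁, hσ, he₁, ?_, ?_⟩
  · obtain ⟨b, hb⟩ := exists_sub_tmul_mem I hσ e₁
    let τ : Ah →ₐ[A] A ⧸ I := ε A (A ⧸ I)
    let q : (A ⧸ I) →ₐ[A] B ⧸ I.map (algebraMap A B) :=
      Ideal.quotientMapₐ _ (Algebra.ofId A B) Ideal.le_comap_map
    let Φ : T →ₐ[A] B ⧸ I.map (algebraMap A B) :=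
      Algebra.TensorProduct.lift (q.comp τ) (Ideal.Quotient.mkₐ A _) fun _ _ => Commute.all _ _
    have hΦI : ∀ z ∈ I.map (algebraMap A T), Φ z = 0 := fun z hz => by
      have := Ideal.mem_map_of_mem Φ.toRingHom hz
      rw [Ideal.map_map, show Φ.toRingHom.comp (algebraMap A T) = algebraMap A _ from Φ.comp_algebraMap,
        IsScalarTower.algebraMap_eq A B (B ⧸ I.map (algebraMap A B)), ← Ideal.map_map, Ideal.Quotient.algebraMap_eq,
        Ideal.map_quotient_self, Ideal.mem_bot] at this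
      exact this
    let m₂ := Algebra.TensorProduct.map g (AlgHom.id A B)
    have he₂ : m₂ e₁ = e := by
      rw [← hme]
      show m₂ (m _) = _
      rw [← AlgHom.comp_apply, ← Algebra.TensorProduct.map_comp, hg, AlgHom.comp_id]
    have h1 : Φ e = 1 := by
      have hTe := hΦI _ (hIT ▸ heJ)
      rwa [map_sub, map_one, sub_eq_zero] at hTe
    have h2 : Φ (m₂ (e₁ - (1 : S) ⊗ₜ[A] b)) = 0 := by
      refine hΦI _ ?_
      have := Ideal.mem_map_of_mem m₂.toRingHom hb
      rwa [Ideal.map_map, show m₂.toRingHom.comp (algebraMap A (S ⊗[A] B)) = algebraMap A T from m₂.comp_algebraMap] at this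
    rw [map_sub, map_sub, he₂, h1, sub_eq_zero] at h2
    have h3 : Ideal.Quotient.mk (I.map (algebraMap A B)) b = 1 := by
      refine Eq.trans ?_ h2.symm
      show _ = Φ (Algebra.TensorProduct.map g (AlgHom.id A B) ((1 : S) ⊗ₜ[A] b))
      rw [Algebra.TensorProduct.map_tmul, map_one, AlgHom.id_apply]
      show _ = (q.comp τ) 1 * Ideal.Quotient.mkₐ A _ b
      rw [map_one, one_mul]
      rfl
    rw [← map_one (Ideal.Quotient.mk (I.map (algebraMap A B))), Ideal.Quotient.eq] at h3
    have h4 := Ideal.mem_map_of_mem (Algebra.TensorProduct.includeRight (R := A) (A := S) (B := B)).toRingHom h3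
    rw [Ideal.map_map, show (Algebra.TensorProduct.includeRight (R := A) (A := S) (B := B)).toRingHom.comp
      (algebraMap A B) = algebraMap A (S ⊗[A] B) from
        (Algebra.TensorProduct.includeRight (R := A) (A := S) (B := B)).comp_algebraMap] at h4
    change (1 : S) ⊗ₜ[A] (b - 1) ∈ _ at h4
    rw [TensorProduct.tmul_sub, ← Algebra.TensorProduct.one_def] at h4
    simpa using add_mem hb h4
  · let C := (S ⊗[A] B) ⧸ Ideal.span ({1 - e₁} : Set (S ⊗[A] B))
    let mkC : S ⊗[A] B →ₐ[S] C := Ideal.Quotient.mkₐ S _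
    have hint : ∀ i, IsIntegral S (mkC ((1 : S) ⊗ₜ[A] x i)) := fun i => by
      refine ⟨(Q i).map ψ.toRingHom, (hQm i).map _, ?_⟩
      rw [Polynomial.eval₂_map]
      have hk := hkill _ (Finset.mem_insert_of_mem (Finset.mem_image_of_mem _ (Finset.mem_univ i)))
      rw [map_sub, map_mul, map_sub, map_one, sub_eq_zero] at hk
      have h1 := congrArg mkC hk
      rw [map_mul, show mkC (1 - e₁) = 0 from Ideal.Quotient.eq_zero_iff_mem.mpr (Ideal.mem_span_singleton_self _),
        mul_zero] at h1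
      refine Eq.trans ?_ h1
      rw [Polynomial.aeval_def]
      refine ((congrArg mkC (Polynomial.hom_eval₂ (Q i) (algebraMap S₁ (S₁ ⊗[A] B)) m.toRingHom _)).trans
        (Polynomial.hom_eval₂ (Q i) _ mkC.toRingHom _)).trans ?_ |>.symm
      refine congrArg₂ (fun f a => Polynomial.eval₂ f a (Q i)) (RingHom.ext fun s => ?_) ?_
      · show mkC (m (s ⊗ₜ[A] (1 : B))) = mkC (ψ s ⊗ₜ[A] (1 : B))
        simp [m]
      · show mkC (m ((1 : S₁) ⊗ₜ[A] x i)) = _
        simp [m]
    have hgen : Algebra.adjoin S (Set.range fun i => mkC ((1 : S) ⊗ₜ[A] x i)) = ⊤ := by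
      refine Algebra.eq_top_iff.mpr fun z => ?_
      obtain ⟨z, rfl⟩ := Ideal.Quotient.mk_surjective z
      induction z using TensorProduct.induction_on with
      | zero => rw [map_zero]; exact zero_mem _
      | add p q hp hq => rw [map_add]; exact add_mem hp hq
      | tmul s b =>
        obtain ⟨p, rfl⟩ := hπ b
        rw [show s ⊗ₜ[A] π p = s • ((1 : S) ⊗ₜ[A] π p) by rw [TensorProduct.smul_tmul', smul_eq_mul, mul_one]]
        show mkC (s • _) ∈ _
        rw [map_smul]
        refine Subalgebra.smul_mem _ ?_ s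
        let f : MvPolynomial (Fin nx) A →ₐ[A] C :=
          (mkC.restrictScalars A).comp (Algebra.TensorProduct.includeRight.comp π)
        show f p ∈ Algebra.adjoin S (Set.range fun i => mkC ((1 : S) ⊗ₜ[A] x i))
        induction p using MvPolynomial.induction_on with
        | C a =>
          rw [← MvPolynomial.algebraMap_eq, AlgHom.commutes, IsScalarTower.algebraMap_apply A S C]
          exact Subalgebra.algebraMap_mem _ _
        | add p q hp hq => rw [map_add]; exact add_mem hp hq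
        | mul_X p i hp =>
          rw [map_mul]
          exact mul_mem hp (Algebra.subset_adjoin ⟨i, rfl⟩)
    exact ⟨by
      rw [← Algebra.top_toSubmodule, ← hgen]
      exact fg_adjoin_of_finite (Set.finite_range _) (by rintro _ ⟨i, rfl⟩; exact hint i)⟩

end Groth.L05.Henselization
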