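import Groth.Agent.L05.Henselization.Branches
import Groth.Agent.L06.NormalClosed
import Groth.Agent.L06.NormalAscent
import Groth.Agent.L01.AnalUnram
import Groth.Agent.L18.SchFin.CommAlg
import Groth.Prelude.Def_EGA4b
import Mathlib.RingTheory.Nilpotent.GeometricallyReduced
import Mathlib.RingTheory.Jacobson.Ring
import Mathlib.RingTheory.TensorProduct.Free
import Groth.Agent.L25.GeomIrred

/-!
# Connectedness of formal fibres of henselian local rings
-/

set_option autoImplicit false
set_option maxSynthPendingDepth 3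
set_option linter.style.haveILetI false

open IsLocalRing TensorProduct

namespace Groth.L05.Henselization.FormalConnected

universe u

/-- Every element of a tensor product comes from a finitely generated subalgebra. -/
theorem exists_fg_descent {k A C : Type u} [Field k] [CommRing A] [CommRing C] [Algebra k A] [Algebra k C]
    (e : A ⊗[k] C) : ∃ A₀ : Subalgebra k A, Algebra.FiniteType k A₀ ∧ ∃ e₀ : A₀ ⊗[k] C,
      Algebra.TensorProduct.map A₀.val (AlgHom.id k C) e₀ = e := by
  classical
  induction e using TensorProduct.induction_on with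
  | zero => exact ⟨Algebra.adjoin k (∅ : Set A),
      (Subalgebra.fg_iff_finiteType _).mp ⟨∅, by simp⟩, 0, map_zero _⟩
  | tmul a c =>
    exact ⟨Algebra.adjoin k ({a} : Set A), (Subalgebra.fg_iff_finiteType _).mp ⟨{a}, by simp⟩,
      (⟨a, Algebra.subset_adjoin rfl⟩ : Algebra.adjoin k ({a} : Set A)) ⊗ₜ c, rfl⟩
  | add x y hx hy =>
    obtain ⟨A₁, h₁, x₁, rfl⟩ := hx
    obtain ⟨A₂, h₂, y₂, rfl⟩ := hy
    refine ⟨A₁ ⊔ A₂, (Subalgebra.fg_iff_finiteType _).mp
      (((Subalgebra.fg_iff_finiteType _).mpr h₁).sup ((Subalgebra.fg_iff_finiteType _).mpr h₂)),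
      Algebra.TensorProduct.map (Subalgebra.inclusion (show A₁ ≤ A₁ ⊔ A₂ from le_sup_left)) (AlgHom.id k C) x₁ +
        Algebra.TensorProduct.map (Subalgebra.inclusion (show A₂ ≤ A₁ ⊔ A₂ from le_sup_right)) (AlgHom.id k C) y₂, ?_⟩
    rw [map_add, ← AlgHom.comp_apply, ← AlgHom.comp_apply, ← Algebra.TensorProduct.map_comp,
      ← Algebra.TensorProduct.map_comp]
    rfl

/-- Over an algebraically closed field, base change to a domain preserves reducedness. -/
theorem isReduced_tensor_of_isAlgClosed {k A C : Type u} [Field k] [IsAlgClosed k] [CommRing A] [IsDomain A]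
    [CommRing C] [Algebra k A] [Algebra k C] [IsReduced C] : IsReduced (A ⊗[k] C) := by
  refine ⟨fun e ⟨n, hn⟩ => ?_⟩
  obtain ⟨A₀, _, e₀, rfl⟩ := exists_fg_descent e
  have hJ : Function.Injective (Algebra.TensorProduct.map A₀.val (AlgHom.id k C)) :=
    Module.Flat.rTensor_preserves_injective_linearMap (M := C) A₀.val.toLinearMap Subtype.val_injective
  have hn₀ : e₀ ^ n = 0 := hJ (by rw [map_pow, hn, map_zero])
  let b := Module.Free.chooseBasis k C
  let bB := Algebra.TensorProduct.basis A₀ b
  suffices bB.repr e₀ = 0 by rw [bB.repr.map_eq_zero_iff.mp this, map_zero]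
  refine Finsupp.ext fun i => Groth.L25.GeomIrred.eq_zero_of_forall_algHom (k := k) _ fun φ => ?_
  let ev : A₀ ⊗[k] C →ₐ[k] C :=
    (Algebra.TensorProduct.lid k C).toAlgHom.comp (Algebra.TensorProduct.map φ (AlgHom.id k C))
  have key : ∀ (z : A₀ ⊗[k] C) (l), b.repr (ev z) l = φ (bB.repr z l) := by
    intro z l
    induction z using TensorProduct.induction_on with
    | zero => simp
    | tmul a v => simp [ev, bB, Algebra.TensorProduct.basis_repr_tmul]
    | add z w hz hw => simp [hz, hw]
  have hev : ev e₀ = 0 := IsNilpotent.eq_zero ⟨n, by rw [← map_pow, hn₀, map_zero]⟩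
  rw [← key e₀ i, hev, map_zero, Finsupp.zero_apply]

/-- Over an algebraically closed field, base change to a domain creates no idempotents. -/
theorem idem_tensor_of_isAlgClosed {k A C : Type u} [Field k] [IsAlgClosed k] [CommRing A] [IsDomain A]
    [CommRing C] [Algebra k A] [Algebra k C] (hC : ∀ e : C, IsIdempotentElem e → e = 0 ∨ e = 1)
    (e : A ⊗[k] C) (he : IsIdempotentElem e) : e = 0 ∨ e = 1 := by
  obtain ⟨A₀, _, e₀, rfl⟩ := exists_fg_descent e
  let J : A₀ ⊗[k] C →ₐ[k] A ⊗[k] C := Algebra.TensorProduct.map A₀.val (AlgHom.id k C)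
  have hJ : Function.Injective J :=
    Module.Flat.rTensor_preserves_injective_linearMap (M := C) A₀.val.toLinearMap Subtype.val_injective
  have he₀ : IsIdempotentElem e₀ := hJ (by rw [map_mul]; exact he)
  let b := Module.Free.chooseBasis k C
  suffices e₀ = 0 ∨ e₀ = 1 by
    rcases this with h | h
    · exact Or.inl (by rw [h]; exact map_zero J)
    · exact Or.inr (by rw [h]; exact map_one J)
  let bB := Algebra.TensorProduct.basis A₀ b
  by_contra hne
  push Not at hne
  obtain ⟨i, hi⟩ : ∃ i, bB.repr e₀ i ≠ 0 := by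
    by_contra hc
    push Not at hc
    exact hne.1 (bB.repr.map_eq_zero_iff.mp (Finsupp.ext hc))
  obtain ⟨j, hj⟩ : ∃ j, bB.repr e₀ j - bB.repr 1 j ≠ 0 := by
    by_contra hc
    push Not at hc
    exact hne.2 (bB.repr.injective (Finsupp.ext fun j => sub_eq_zero.mp (hc j)))
  refine mul_ne_zero hi hj (Groth.L25.GeomIrred.eq_zero_of_forall_algHom (k := k) _ fun φ => ?_)
  let ev : A₀ ⊗[k] C →ₐ[k] C :=
    (Algebra.TensorProduct.lid k C).toAlgHom.comp (Algebra.TensorProduct.map φ (AlgHom.id k C))
  have key : ∀ (z : A₀ ⊗[k] C) (l), b.repr (ev z) l = φ (bB.repr z l) := by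
    intro z l
    induction z using TensorProduct.induction_on with
    | zero => simp
    | tmul a v => simp [ev, bB, Algebra.TensorProduct.basis_repr_tmul]
    | add z w hz hw => simp [hz, hw]
  rw [map_mul, map_sub]
  rcases hC (ev e₀) (he₀.map ev) with h | h
  · rw [← key e₀ i, h, map_zero, Finsupp.zero_apply, zero_mul]
  · rw [← key e₀ j, ← key 1 j, h, map_one ev, sub_self, mul_zero]

variable {A : Type u} [CommRing A] [IsNoetherianRing A] [HenselianLocalRing A]
  (h : EGA4.HasGeomReducedFormalFibres A)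

include h in
theorem isReduced_tensor_field (κ : Type u) [Field κ] [Algebra A κ] : IsReduced (EGA4.Cpl A ⊗[A] κ) := by
  let p := RingHom.ker (algebraMap A κ)
  haveI : p.IsPrime := RingHom.ker_isPrime _
  let g : p.ResidueField →ₐ[A] κ := Ideal.ResidueField.liftₐ p (Algebra.ofId A κ) le_rfl
    fun x hx => isUnit_iff_ne_zero.mpr hx
  letI : Algebra p.ResidueField κ := g.toRingHom.toAlgebra
  haveI : IsScalarTower A p.ResidueField κ := IsScalarTower.of_algebraMap_eq fun x => (g.commutes x).symm
  haveI := h p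
  haveI : IsReduced (κ ⊗[p.ResidueField] EGA4.formalFibre A p) := by
    let Ω := AlgebraicClosure p.ResidueField
    let K' := AlgebraicClosure κ
    let φ : Ω →ₐ[p.ResidueField] K' := IsAlgClosed.lift
    letI : Algebra Ω K' := φ.toRingHom.toAlgebra
    haveI : IsScalarTower p.ResidueField Ω K' := IsScalarTower.of_algebraMap_eq fun x => (φ.commutes x).symm
    haveI : IsReduced (Ω ⊗[p.ResidueField] EGA4.formalFibre A p) :=
      (Algebra.isGeometricallyReduced_field_iff _ _).mp (h p)
    haveI : IsReduced (K' ⊗[Ω] (Ω ⊗[p.ResidueField] EGA4.formalFibre A p)) :=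
      isReduced_tensor_of_isAlgClosed (k := Ω) (A := K') (C := Ω ⊗[p.ResidueField] EGA4.formalFibre A p)
    haveI : IsReduced (K' ⊗[p.ResidueField] EGA4.formalFibre A p) :=
      isReduced_of_injective (Algebra.TensorProduct.cancelBaseChange p.ResidueField Ω Ω K'
        (EGA4.formalFibre A p)).symm (AlgEquiv.injective _)
    exact isReduced_of_injective
      (Algebra.TensorProduct.map (IsScalarTower.toAlgHom p.ResidueField κ K') (AlgHom.id _ _))
      (Module.Flat.rTensor_preserves_injective_linearMap (M := EGA4.formalFibre A p)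
        (IsScalarTower.toAlgHom p.ResidueField κ K').toLinearMap (algebraMap κ K').injective)
  exact isReduced_of_injective
    (((Algebra.TensorProduct.cancelBaseChange A p.ResidueField κ κ (EGA4.Cpl A)).toRingEquiv).trans
      (Algebra.TensorProduct.comm A κ (EGA4.Cpl A)).toRingEquiv).symm (RingEquiv.injective _)

include h in
theorem idem_tensor_algebraic (L : Type u) [Field L] [Algebra A L]
    (halg : ∀ x : L, ∃ a : A, algebraMap A L a ≠ 0 ∧ IsIntegral A (a • x))
    (e : EGA4.Cpl A ⊗[A] L) (he : IsIdempotentElem e) : e = 0 ∨ e = 1 := by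
  let N := integralClosure A L
  haveI : IsFractionRing N L := IsFractionRing.of_field N L fun x => by
    obtain ⟨a, ha0, ha⟩ := halg x
    refine ⟨⟨a • x, ha⟩, algebraMap A N a, ?_⟩
    show _ = (a • x : L) / algebraMap A L a
    rw [Algebra.smul_def, mul_div_cancel_left₀ _ ha0]
  haveI : IsIntegrallyClosed N := (isIntegrallyClosed_iff L).mpr fun {x} hx =>
    ⟨⟨x, isIntegral_trans (A := N) _ hx⟩, rfl⟩
  haveI := Groth.L06.NormalAscent.faithfullyFlat_cpl A
  haveI : IsNoetherianRing (EGA4.Cpl A) := Groth.L01.AnalUnram.isNoetherianRing_completion A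
  haveI : IsLocalHom (algebraMap A (EGA4.Cpl A)) :=
    ((IsLocalRing.local_hom_TFAE _).out 0 2 rfl rfl).mpr
      (Groth.L01.AnalUnram.completion_map_maximalIdeal A).le
  haveI : IsLocalRing N := Groth.L05.isLocalRing_of_integral_domain (A := A) N
  haveI := Groth.L05.Henselization.Branches.isLocalRing_tensor_of_surjective A (EGA4.Cpl A) N
    (Groth.L01.AnalUnram.exists_sub_mem A)
  haveI : IsLocalRing (EGA4.Cpl A ⊗[A] N) :=
    (Algebra.TensorProduct.comm A (EGA4.Cpl A) N).symm.toRingEquiv.isLocalRing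
  let f := Algebra.TensorProduct.map (AlgHom.id A (EGA4.Cpl A)) (IsScalarTower.toAlgHom A N L)
  obtain ⟨w, hw⟩ := Groth.L06.NormalTensor.mem_range_of_isIntegralElem (EGA4.Cpl A)
    (fun κ _ _ => isReduced_tensor_field h κ) N L e
    ⟨Polynomial.X ^ 2 - Polynomial.X, (Polynomial.monic_X_pow 2).sub_of_left (by
      rw [Polynomial.degree_X_pow, Polynomial.degree_X]; norm_cast), by
      simp [pow_two, he.eq]⟩
  have hf : Function.Injective f :=
    Module.Flat.lTensor_preserves_injective_linearMap (M := EGA4.Cpl A)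
      (IsScalarTower.toAlgHom A N L).toLinearMap (IsFractionRing.injective N L)
  have hwi : IsIdempotentElem w := hf (by rw [map_mul, hw]; exact he)
  rcases IsLocalRing.isUnit_or_isUnit_one_sub_self w with hu | hu
  · exact Or.inr (by rw [← hw, hu.mul_eq_left.mp hwi, map_one])
  · exact Or.inl (by rw [← hw, hu.mul_right_eq_zero.mp hwi.one_sub_mul_self, map_zero])

include h in
theorem connectedSpace_tensor (K : Type u) [Field K] [Algebra A K] :
    ConnectedSpace (PrimeSpectrum (K ⊗[A] EGA4.Cpl A)) := by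
  let p := RingHom.ker (algebraMap A K)
  haveI : p.IsPrime := RingHom.ker_isPrime _
  let k := p.ResidueField
  let g : k →ₐ[A] K := Ideal.ResidueField.liftₐ p (Algebra.ofId A K) le_rfl
    fun x hx => isUnit_iff_ne_zero.mpr hx
  letI : Algebra k K := g.toRingHom.toAlgebra
  haveI : IsScalarTower A k K := IsScalarTower.of_algebraMap_eq fun x => (g.commutes x).symm
  haveI := Groth.L06.NormalAscent.faithfullyFlat_cpl A
  haveI : Nontrivial (EGA4.Cpl A ⊗[A] K) := Module.FaithfullyFlat.lTensor_nontrivial A (EGA4.Cpl A) K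
  haveI : Nontrivial (K ⊗[A] EGA4.Cpl A) :=
    (Algebra.TensorProduct.comm A K (EGA4.Cpl A)).toRingEquiv.toEquiv.nontrivial
  let Ω := AlgebraicClosure k
  let K' := AlgebraicClosure K
  let φ : Ω →ₐ[k] K' := IsAlgClosed.lift
  letI : Algebra Ω K' := φ.toRingHom.toAlgebra
  haveI : IsScalarTower k Ω K' := IsScalarTower.of_algebraMap_eq fun x => (φ.commutes x).symm
  haveI : IsScalarTower A Ω K' := IsScalarTower.of_algebraMap_eq fun x => by
    rw [IsScalarTower.algebraMap_apply A k Ω, ← IsScalarTower.algebraMap_apply k Ω K',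
      ← IsScalarTower.algebraMap_apply A k K']
  have hΩ : ∀ e : Ω ⊗[A] EGA4.Cpl A, IsIdempotentElem e → e = 0 ∨ e = 1 := by
    intro e he
    have halg : ∀ x : Ω, ∃ a : A, algebraMap A Ω a ≠ 0 ∧ IsIntegral A (a • x) := fun x => by
      haveI : FaithfulSMul (A ⧸ p) Ω := (faithfulSMul_iff_algebraMap_injective _ _).mpr (by
        rw [IsScalarTower.algebraMap_eq (A ⧸ p) k Ω]
        exact (algebraMap k Ω).injective.comp (IsFractionRing.injective (A ⧸ p) k))
      obtain ⟨y, hy0, hy⟩ := ((IsFractionRing.isAlgebraic_iff (A ⧸ p) k Ω).mpr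
        (Algebra.IsAlgebraic.isAlgebraic (R := k) x)).exists_integral_multiple
      obtain ⟨a, rfl⟩ := Ideal.Quotient.mk_surjective y
      refine ⟨a, fun h0 => hy0 ?_, ?_⟩
      · rw [IsScalarTower.algebraMap_apply A (A ⧸ p) Ω] at h0
        exact (map_eq_zero_iff _ (FaithfulSMul.algebraMap_injective (A ⧸ p) Ω)).mp h0
      · haveI : Algebra.IsIntegral A (A ⧸ p) := Algebra.IsIntegral.of_finite A _
        have h1 := isIntegral_trans (R := A) (A := A ⧸ p) _ hy
        rwa [show (a • x : Ω) = (Ideal.Quotient.mk p a) • x from (algebraMap_smul (A ⧸ p) a x).symm]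
    have c := Algebra.TensorProduct.comm A Ω (EGA4.Cpl A)
    rcases idem_tensor_algebraic h Ω halg (c e) (he.map c) with h0 | h0
    · exact Or.inl (c.injective (h0.trans (map_zero c).symm))
    · exact Or.inr (c.injective (h0.trans (map_one c).symm))
  refine Groth.L18.SchFin.connectedSpace_of_idem fun e he => ?_
  let ι : K ⊗[A] EGA4.Cpl A →ₐ[A] K' ⊗[A] EGA4.Cpl A :=
    Algebra.TensorProduct.map (IsScalarTower.toAlgHom A K K') (AlgHom.id A _)
  have hι : Function.Injective ι :=
    Module.Flat.rTensor_preserves_injective_linearMap (M := EGA4.Cpl A)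
      (IsScalarTower.toAlgHom A K K').toLinearMap (algebraMap K K').injective
  let ε := (Algebra.TensorProduct.cancelBaseChange A Ω Ω K' (EGA4.Cpl A)).toRingEquiv
  rcases idem_tensor_of_isAlgClosed (k := Ω) hΩ (ε.symm (ι e)) ((he.map ι).map ε.symm) with h0 | h0
  · exact Or.inl (hι ((ε.symm.injective (h0.trans (map_zero ε.symm).symm)).trans (map_zero ι).symm))
  · exact Or.inr (hι ((ε.symm.injective (h0.trans (map_one ε.symm).symm)).trans (map_one ι).symm))

end Groth.L05.Henselization.FormalConnected
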