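import Groth.Agent.L05.Henselization.Branches
import Groth.Agent.L06.NormalTensorFlat
import Groth.Agent.L06.NormalAscent
import Groth.Agent.L01.AnalUnram
import Groth.Agent.L25.GeomIrred
import Groth.Prelude.Def_EGA4b
import Mathlib.RingTheory.Nilpotent.GeometricallyReduced

/-!
# Formal fibres of henselian local rings with geometrically normal formal fibres
-/

set_option autoImplicit false
set_option maxSynthPendingDepth 3
set_option linter.style.haveILetI false

open IsLocalRing TensorProduct

namespace Groth.L05.Henselization.FormalDomain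

universe u

section

variable {A : Type u} [CommRing A] [IsNoetherianRing A] [HenselianLocalRing A]
  (h : EGA4.HasGeomNormalFormalFibres A)

include h in
/-- The completion tensored with a normal domain integral over the base is a domain. -/
theorem isDomain_tensor_normal (N : Type u) [CommRing N] [IsDomain N] [IsIntegrallyClosed N]
    [Algebra A N] [Algebra.IsIntegral A N] : IsDomain (EGA4.Cpl A ⊗[A] N) := by
  haveI := Groth.L06.NormalAscent.faithfullyFlat_cpl A
  haveI : IsNoetherianRing (EGA4.Cpl A) := Groth.L01.AnalUnram.isNoetherianRing_completion A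
  haveI : IsLocalHom (algebraMap A (EGA4.Cpl A)) :=
    ((IsLocalRing.local_hom_TFAE _).out 0 2 rfl rfl).mpr
      (Groth.L01.AnalUnram.completion_map_maximalIdeal A).le
  haveI : IsLocalRing N := Groth.L05.isLocalRing_of_integral_domain (A := A) N
  haveI := Groth.L05.Henselization.Branches.isLocalRing_tensor_of_surjective A (EGA4.Cpl A) N
    (Groth.L01.AnalUnram.exists_sub_mem A)
  let e : EGA4.Cpl A ⊗[A] N ≃ₐ[A] N ⊗[A] EGA4.Cpl A := Algebra.TensorProduct.comm A _ N
  haveI : IsLocalRing (EGA4.Cpl A ⊗[A] N) := e.symm.toRingEquiv.isLocalRing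
  have hn := (Groth.L06.NormalTensor.normal_tensor_domain (A := A) (A' := EGA4.Cpl A)
    ⟨inferInstance, h⟩ N).1
  haveI := (hn (maximalIdeal (EGA4.Cpl A ⊗[A] N))).1
  exact Function.Injective.isDomain
    (algebraMap (EGA4.Cpl A ⊗[A] N) (Localization.AtPrime (maximalIdeal (EGA4.Cpl A ⊗[A] N))))
    ((IsLocalization.atUnits (EGA4.Cpl A ⊗[A] N) (maximalIdeal (EGA4.Cpl A ⊗[A] N)).primeCompl
      fun x hx => IsLocalRing.notMem_maximalIdeal.mp hx).injective)

include h in
/-- The completion tensored with a field algebraic over a residue field of the base is a domain. -/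
theorem isDomain_tensor_field (L : Type u) [Field L] [Algebra A L]
    (halg : ∀ x : L, ∃ a : A, algebraMap A L a ≠ 0 ∧ IsIntegral A (a • x)) :
    IsDomain (EGA4.Cpl A ⊗[A] L) := by
  classical
  let N := integralClosure A L
  haveI : IsIntegrallyClosedIn N L := inferInstance
  haveI : IsFractionRing N L := IsFractionRing.of_field N L fun x => by
    obtain ⟨a, ha0, ha⟩ := halg x
    refine ⟨⟨a • x, ha⟩, algebraMap A N a, ?_⟩
    show _ = (a • x : L) / algebraMap A L a
    rw [Algebra.smul_def, mul_div_cancel_left₀ _ ha0]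
  haveI : IsIntegrallyClosed N := (isIntegrallyClosed_iff L).mpr fun {x} hx =>
    ⟨⟨x, isIntegral_trans (A := N) _ hx⟩, rfl⟩
  haveI := isDomain_tensor_normal h N
  haveI := Groth.L06.NormalAscent.faithfullyFlat_cpl A
  let ψ : EGA4.Cpl A ⊗[A] N →ₐ[A] EGA4.Cpl A ⊗[A] L :=
    Algebra.TensorProduct.map (AlgHom.id A _) N.val
  have hψ : Function.Injective ψ :=
    Module.Flat.lTensor_preserves_injective_linearMap (M := EGA4.Cpl A) N.val.toLinearMap Subtype.val_injective
  have hden : ∀ z : EGA4.Cpl A ⊗[A] L, ∃ a : A, algebraMap A L a ≠ 0 ∧ ∃ w, a • z = ψ w := by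
    intro z
    induction z using TensorProduct.induction_on with
    | zero => exact ⟨1, by simp, 0, by simp⟩
    | tmul r x =>
      obtain ⟨a, ha0, ha⟩ := halg x
      exact ⟨a, ha0, r ⊗ₜ[A] (⟨a • x, ha⟩ : N), (TensorProduct.tmul_smul a r x).symm⟩
    | add z z' hz hz' =>
      obtain ⟨a, ha0, w, hw⟩ := hz
      obtain ⟨a', ha0', w', hw'⟩ := hz'
      refine ⟨a * a', by rw [map_mul]; exact mul_ne_zero ha0 ha0', a' • w + a • w', ?_⟩
      rw [map_add, map_smul, map_smul, ← hw, ← hw', smul_add, smul_smul, smul_smul, mul_comm a' a]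
  have hunit : ∀ a : A, algebraMap A L a ≠ 0 → ∀ z : EGA4.Cpl A ⊗[A] L, a • z = 0 → z = 0 := by
    intro a ha z hz
    have hu : IsUnit ((1 : EGA4.Cpl A) ⊗ₜ[A] algebraMap A L a) :=
      (isUnit_iff_ne_zero.mpr ha).map (Algebra.TensorProduct.includeRight : L →ₐ[A] EGA4.Cpl A ⊗[A] L)
    refine hu.mul_right_eq_zero.mp ?_
    rwa [← Algebra.TensorProduct.tmul_one_eq_one_tmul, ← Algebra.TensorProduct.algebraMap_apply,
      ← Algebra.smul_def]
  haveI : Nontrivial (EGA4.Cpl A ⊗[A] L) :=
    Module.FaithfullyFlat.lTensor_nontrivial A (EGA4.Cpl A) L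
  haveI : NoZeroDivisors (EGA4.Cpl A ⊗[A] L) := ⟨fun {z z'} hzz' => by
    obtain ⟨a, ha, w, hw⟩ := hden z
    obtain ⟨a', ha', w', hw'⟩ := hden z'
    have : w * w' = 0 := hψ (by
      rw [map_mul, ← hw, ← hw', map_zero, smul_mul_smul_comm, hzz', smul_zero])
    rcases mul_eq_zero.mp this with h0 | h0
    · exact Or.inl (hunit a ha z (by rw [hw, h0, map_zero]))
    · exact Or.inr (hunit a' ha' z' (by rw [hw', h0, map_zero]))⟩
  exact NoZeroDivisors.to_isDomain _

end


theorem exists_smul_integral {A : Type u} [CommRing A] (p : Ideal A) [p.IsPrime] (L : Type u) [Field L]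
    [Algebra p.ResidueField L] [Algebra A L] [IsScalarTower A p.ResidueField L]
    [Algebra.IsAlgebraic p.ResidueField L] (x : L) :
    ∃ a : A, algebraMap A L a ≠ 0 ∧ IsIntegral A (a • x) := by
  letI : Algebra (A ⧸ p) L := ((algebraMap p.ResidueField L).comp (algebraMap (A ⧸ p) p.ResidueField)).toAlgebra
  haveI : IsScalarTower (A ⧸ p) p.ResidueField L := IsScalarTower.of_algebraMap_eq' rfl
  haveI : IsScalarTower A (A ⧸ p) L := IsScalarTower.of_algebraMap_eq fun a => by
    rw [IsScalarTower.algebraMap_apply A p.ResidueField L, IsScalarTower.algebraMap_apply A (A ⧸ p) p.ResidueField,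
      ← IsScalarTower.algebraMap_apply (A ⧸ p) p.ResidueField L]
  haveI : FaithfulSMul (A ⧸ p) L := (faithfulSMul_iff_algebraMap_injective _ _).mpr
    ((algebraMap p.ResidueField L).injective.comp (IsFractionRing.injective (A ⧸ p) p.ResidueField))
  obtain ⟨y, hy0, hy⟩ := ((IsFractionRing.isAlgebraic_iff (A ⧸ p) p.ResidueField L).mpr
    (Algebra.IsAlgebraic.isAlgebraic (R := p.ResidueField) x)).exists_integral_multiple
  obtain ⟨a, rfl⟩ := Ideal.Quotient.mk_surjective y
  refine ⟨a, fun h => hy0 ?_, ?_⟩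
  · rw [IsScalarTower.algebraMap_apply A (A ⧸ p) L] at h
    exact (map_eq_zero_iff _ (FaithfulSMul.algebraMap_injective (A ⧸ p) L)).mp h
  · haveI : Algebra.IsIntegral A (A ⧸ p) := Algebra.IsIntegral.of_finite A _
    have h := isIntegral_trans (R := A) (A := A ⧸ p) _ hy
    rwa [show (a • x : L) = (Ideal.Quotient.mk p a) • x from (algebraMap_smul (A ⧸ p) a x).symm]

section

variable {A : Type u} [CommRing A] [IsNoetherianRing A] [HenselianLocalRing A]
  (h : EGA4.HasGeomNormalFormalFibres A)

include h in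
theorem isDomain_fibre_tensor (p : Ideal A) [p.IsPrime] (K : Type u) [Field K] [Algebra p.ResidueField K] :
    IsDomain (K ⊗[p.ResidueField] EGA4.formalFibre A p) := by
  let k := p.ResidueField
  let F := EGA4.formalFibre A p
  let Ω := AlgebraicClosure k
  let K' := AlgebraicClosure K
  haveI : IsDomain (EGA4.Cpl A ⊗[A] Ω) := isDomain_tensor_field h Ω (exists_smul_integral p Ω)
  haveI : IsDomain (Ω ⊗[k] F) := by
    let e : Ω ⊗[k] F ≃+* EGA4.Cpl A ⊗[A] Ω :=
      ((Algebra.TensorProduct.cancelBaseChange A k k Ω (EGA4.Cpl A)).toRingEquiv).trans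
        (Algebra.TensorProduct.comm A Ω (EGA4.Cpl A)).toRingEquiv
    exact e.toMulEquiv.isDomain _
  let φ : Ω →ₐ[k] K' := IsAlgClosed.lift
  letI : Algebra Ω K' := φ.toRingHom.toAlgebra
  haveI : IsScalarTower k Ω K' := IsScalarTower.of_algebraMap_eq fun x => (φ.commutes x).symm
  haveI : IsDomain (K' ⊗[Ω] (Ω ⊗[k] F)) :=
    Groth.L25.GeomIrred.isDomain_tensorProduct (k := Ω) (A := K') (B := Ω ⊗[k] F)
  haveI : IsDomain (K' ⊗[k] F) :=
    (Algebra.TensorProduct.cancelBaseChange k Ω Ω K' F).symm.toRingEquiv.toMulEquiv.isDomain _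
  exact Function.Injective.isDomain
    (Algebra.TensorProduct.map (IsScalarTower.toAlgHom k K K') (AlgHom.id k F)).toRingHom
    (Module.Flat.rTensor_preserves_injective_linearMap (M := F) (IsScalarTower.toAlgHom k K K').toLinearMap
      (algebraMap K K').injective)

include h in
theorem isDomain_cpl [IsDomain A] : IsDomain (EGA4.Cpl A) := by
  let K := FractionRing A
  haveI := isDomain_tensor_field h K fun x => by
    obtain ⟨a, b, hb, rfl⟩ := IsFractionRing.div_surjective (A := A) x
    have hb' : algebraMap A K b ≠ 0 := (map_ne_zero_iff _ (IsFractionRing.injective A K)).mpr (nonZeroDivisors.ne_zero hb)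
    refine ⟨b, hb', ?_⟩
    rw [Algebra.smul_def, mul_div_cancel₀ _ hb']
    exact isIntegral_algebraMap
  haveI := Groth.L06.NormalAscent.faithfullyFlat_cpl A
  exact Function.Injective.isDomain
    (Algebra.TensorProduct.includeLeft : EGA4.Cpl A →ₐ[A] EGA4.Cpl A ⊗[A] K).toRingHom
    (Algebra.TensorProduct.includeLeft_injective (S := A) (IsFractionRing.injective A K))

include h in
/-- The fraction field of the completion is a regular extension of the fraction field. -/
theorem regular_fractionField [IsDomain A] [IsDomain (EGA4.Cpl A)] (K L : Type u) [Field K] [Field L]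
    [Algebra A K] [IsFractionRing A K] [Algebra (EGA4.Cpl A) L] [IsFractionRing (EGA4.Cpl A) L]
    [Algebra K L] [Algebra A L] [IsScalarTower A K L] [IsScalarTower A (EGA4.Cpl A) L] :
    Algebra.IsGeometricallyReduced K L ∧ ∀ x : L, IsAlgebraic K x → x ∈ Set.range (algebraMap K L) := by
  let Ah := EGA4.Cpl A
  let Ω := AlgebraicClosure K
  haveI := Groth.L06.NormalAscent.faithfullyFlat_cpl A
  haveI : IsDomain (Ah ⊗[A] Ω) := isDomain_tensor_field h Ω fun x => by
    haveI : FaithfulSMul A K := (faithfulSMul_iff_algebraMap_injective A K).mpr (IsFractionRing.injective A K)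
    haveI : FaithfulSMul A Ω := (faithfulSMul_iff_algebraMap_injective A Ω).mpr (by
      rw [IsScalarTower.algebraMap_eq A K Ω]
      exact (algebraMap K Ω).injective.comp (IsFractionRing.injective A K))
    obtain ⟨y, hy0, hy⟩ := ((IsFractionRing.isAlgebraic_iff A K Ω).mpr
      (Algebra.IsAlgebraic.isAlgebraic (R := K) x)).exists_integral_multiple
    exact ⟨y, (map_ne_zero_iff _ (FaithfulSMul.algebraMap_injective A Ω)).mpr hy0, hy⟩
  let T := Ah ⊗[A] Ω
  haveI : IsLocalization (Algebra.algebraMapSubmonoid T (nonZeroDivisors Ah)) (T ⊗[Ah] L) :=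
    IsLocalization.tensor L (nonZeroDivisors Ah)
  have hinjT : Function.Injective (algebraMap Ah T) :=
    Algebra.TensorProduct.includeLeft_injective (S := A) (by
        rw [IsScalarTower.algebraMap_eq A K Ω]
        exact (algebraMap K Ω).injective.comp (IsFractionRing.injective A K))
  haveI : IsDomain (T ⊗[Ah] L) := IsLocalization.isDomain_of_le_nonZeroDivisors
    (S := T ⊗[Ah] L) (M := Algebra.algebraMapSubmonoid T (nonZeroDivisors Ah)) (by
      rintro _ ⟨r, hr, rfl⟩
      exact mem_nonZeroDivisors_of_ne_zero ((map_ne_zero_iff _ hinjT).mpr (nonZeroDivisors.ne_zero hr)))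
  haveI : IsDomain (L ⊗[A] Ω) :=
    (((Algebra.TensorProduct.cancelBaseChange A Ah Ah L Ω).symm.toRingEquiv).trans
      (Algebra.TensorProduct.comm Ah L T).toRingEquiv).toMulEquiv.isDomain _
  have hΩ : IsDomain (Ω ⊗[K] L) := by
    let Y := L ⊗[A] Ω
    let iL : L →+* Y := Algebra.TensorProduct.includeLeftRingHom
    let iO : Ω →+* Y := (Algebra.TensorProduct.includeRight : Ω →ₐ[A] Y).toRingHom
    have hagree : iO.comp (algebraMap K Ω) = iL.comp (algebraMap K L) :=
      IsLocalization.ringHom_ext (nonZeroDivisors A) (RingHom.ext fun a => by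
        show (1 : L) ⊗ₜ[A] algebraMap K Ω (algebraMap A K a) = algebraMap K L (algebraMap A K a) ⊗ₜ[A] (1 : Ω)
        rw [← IsScalarTower.algebraMap_apply A K Ω, ← IsScalarTower.algebraMap_apply A K L,
          Algebra.TensorProduct.tmul_one_eq_one_tmul])
    let fO : Ω →ₐ[K] Y := { iO with commutes' := fun k => RingHom.congr_fun hagree k }
    let fL : L →ₐ[K] Y := { iL with commutes' := fun k => rfl }
    let g : Ω ⊗[K] L →ₐ[K] Y := Algebra.TensorProduct.lift fO fL fun _ _ => Commute.all _ _
    let π : Y →ₐ[A] Ω ⊗[K] L := Algebra.TensorProduct.lift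
      ((Algebra.TensorProduct.includeRight : L →ₐ[K] Ω ⊗[K] L).restrictScalars A)
      ((Algebra.TensorProduct.includeLeft (R := K) (S := K) (A := Ω) (B := L)).restrictScalars A)
      fun _ _ => Commute.all _ _
    have hπg : ∀ z, π (g z) = z := by
      intro z
      induction z using TensorProduct.induction_on with
      | zero => simp
      | add a b ha hb => rw [map_add, map_add, ha, hb]
      | tmul o l =>
        have h1 : g (o ⊗ₜ[K] l) = ((1 : L) ⊗ₜ[A] o) * (l ⊗ₜ[A] (1 : Ω)) :=
          Algebra.TensorProduct.lift_tmul _ _ _ o l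
        have h2 : ∀ (l : L) (o : Ω), π (l ⊗ₜ[A] o) = ((1 : Ω) ⊗ₜ[K] l) * (o ⊗ₜ[K] (1 : L)) := fun l o =>
          Algebra.TensorProduct.lift_tmul _ _ _ l o
        rw [h1, Algebra.TensorProduct.tmul_mul_tmul, one_mul, mul_one, h2,
          Algebra.TensorProduct.tmul_mul_tmul, one_mul, mul_one]
    exact Function.Injective.isDomain g.toRingHom (Function.LeftInverse.injective hπg)
  refine ⟨(Algebra.isGeometricallyReduced_field_iff K L).mpr inferInstance, fun x hx => ?_⟩
  let E := IntermediateField.adjoin K {x}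
  haveI : FiniteDimensional K E := IntermediateField.adjoin.finiteDimensional hx.isIntegral
  let φ : E →ₐ[K] Ω := IsAlgClosed.lift
  haveI : IsDomain (E ⊗[K] E) := by
    refine Function.Injective.isDomain (Algebra.TensorProduct.map φ E.val).toRingHom ?_
    show Function.Injective (TensorProduct.map φ.toLinearMap E.val.toLinearMap)
    rw [← LinearMap.lTensor_comp_rTensor, LinearMap.coe_comp]
    exact (Module.Flat.lTensor_preserves_injective_linearMap (M := Ω) E.val.toLinearMap Subtype.val_injective).comp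
      (Module.Flat.rTensor_preserves_injective_linearMap (M := E) φ.toLinearMap φ.injective)
  letI : Field (E ⊗[K] E) := (isField_of_isIntegral_of_isField' (R := K) (Field.toIsField K)).toField
  have hμ : Function.Injective (Algebra.TensorProduct.lmul' K : E ⊗[K] E →ₐ[K] E) :=
    RingHom.injective (Algebra.TensorProduct.lmul' K : E ⊗[K] E →ₐ[K] E).toRingHom
  have hle : Module.finrank K (E ⊗[K] E) ≤ Module.finrank K E :=
    LinearMap.finrank_le_finrank_of_injective
      (f := (Algebra.TensorProduct.lmul' K : E ⊗[K] E →ₐ[K] E).toLinearMap) hμ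
  rw [Module.finrank_tensorProduct] at hle
  have h1 : Module.finrank K E = 1 :=
    le_antisymm (Nat.le_of_mul_le_mul_right (by simpa using hle) Module.finrank_pos) Module.finrank_pos
  have h2 := IntermediateField.finrank_eq_one_iff.mp h1
  have hxE : x ∈ E := IntermediateField.subset_adjoin K _ rfl
  rw [h2, IntermediateField.mem_bot] at hxE
  exact hxE

end

end Groth.L05.Henselization.FormalDomain
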