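import Groth.Agent.L05.Henselization.FormalDomain
import Groth.Agent.L06.FormalFibres
import Groth.Agent.L06.GRingTransport
import Mathlib.RingTheory.TensorProduct.Quotient

/-!
# Prime elements of a henselian G-ring in its completion
-/

set_option autoImplicit false
set_option maxSynthPendingDepth 3
set_option linter.style.haveILetI false

open IsLocalRing TensorProduct

namespace Groth.L05.Henselization.FormalDomain

universe u

theorem hasGeomNormalFormalFibres_of_gRing {A : Type u} [CommRing A] [IsLocalRing A] (hA : CAlg.IsGRing A) :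
    EGA4.HasGeomNormalFormalFibres A := by
  haveI := hA.1
  let m := maximalIdeal A
  let e : A ≃+* Localization.AtPrime m :=
    (IsLocalization.atUnits A m.primeCompl (fun x hx => IsLocalRing.notMem_maximalIdeal.mp hx)).toRingEquiv
  have h := Groth.L06.GRingTransport.isRegularHom_completion_of_ringEquiv e.symm (hA.2 m)
  haveI : IsNoetherianRing (EGA4.Cpl A) := Groth.L01.AnalUnram.isNoetherianRing_completion A
  exact fun p _ => (Groth.L06.FormalFibres.isNormalHom_of_isRegularHom h).2 p

theorem prime_iff_prime_cpl {A : Type u} [CommRing A] [IsNoetherianRing A] [HenselianLocalRing A]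
    (h : EGA4.HasGeomNormalFormalFibres A) (Δ : A) :
    Prime Δ ↔ Prime (algebraMap A (EGA4.Cpl A) Δ) := by
  haveI := Groth.L06.NormalAscent.faithfullyFlat_cpl A
  let Ah := EGA4.Cpl A
  have hinj : Function.Injective (algebraMap A Ah) := FaithfulSMul.algebraMap_injective A Ah
  have hmap : (Ideal.span {Δ}).map (algebraMap A Ah) = Ideal.span {algebraMap A Ah Δ} := by
    rw [Ideal.map_span, Set.image_singleton]
  constructor
  · intro hΔ
    haveI hp : (Ideal.span {Δ}).IsPrime := (Ideal.span_singleton_prime hΔ.ne_zero).mpr hΔ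
    let p := Ideal.span {Δ}
    haveI := isDomain_tensor_field h p.ResidueField (exists_smul_integral p p.ResidueField)
    let ψ := Algebra.TensorProduct.map (AlgHom.id A Ah) (IsScalarTower.toAlgHom A (A ⧸ p) p.ResidueField)
    haveI : IsDomain (Ah ⊗[A] (A ⧸ p)) := Function.Injective.isDomain ψ.toRingHom
      (Module.Flat.lTensor_preserves_injective_linearMap (M := Ah)
        (IsScalarTower.toAlgHom A (A ⧸ p) p.ResidueField).toLinearMap (IsFractionRing.injective (A ⧸ p) p.ResidueField))
    haveI : IsDomain (Ah ⧸ p.map (algebraMap A Ah)) :=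
      (Algebra.TensorProduct.quotIdealMapEquivTensorQuot Ah p).toRingEquiv.toMulEquiv.isDomain _
    refine (Ideal.span_singleton_prime ((map_ne_zero_iff _ hinj).mpr hΔ.ne_zero)).mp ?_
    rw [← hmap]
    exact (Ideal.Quotient.isDomain_iff_prime _).mp inferInstance
  · intro hΔ
    haveI hP : (Ideal.span {algebraMap A Ah Δ}).IsPrime := (Ideal.span_singleton_prime hΔ.ne_zero).mpr hΔ
    refine (Ideal.span_singleton_prime fun h0 => hΔ.ne_zero (by rw [h0, map_zero])).mp ?_
    rw [← Ideal.comap_map_eq_self_of_faithfullyFlat (B := Ah) (Ideal.span {Δ}), hmap]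
    exact Ideal.IsPrime.comap _

end Groth.L05.Henselization.FormalDomain
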