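import Groth.Agent.L06.J2
import Groth.Agent.S0599
import Groth.Agent.S2701
import Mathlib.RingTheory.QuasiFinite.Basic

/-!
# A local G-ring is J-2
-/

set_option autoImplicit false
set_option linter.style.haveILetI false

open IsLocalRing

namespace Groth.L05.Henselization

universe u

theorem isJ2_of_local_gring (A : Type u) [CommRing A] [IsLocalRing A] (hA : CAlg.IsGRing A) :
    EGA4.IsJ2 A := by
  classical
  haveI := hA.1
  refine Groth.L06.J2.isJ2_of_finite_domains fun A' _ _ _ hfin => ?_
  haveI := hfin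
  haveI : IsNoetherianRing A' := IsNoetherianRing.of_finite A A'
  have hG : CAlg.IsGRing A' := Groth.Agent.S0599.result A hA A'
  have hex : ∀ m : PrimeSpectrum A', ∃ a : A', a ≠ 0 ∧ ∀ q : PrimeSpectrum A',
      q.asIdeal ≤ m.asIdeal → a ∉ q.asIdeal → q ∈ EGA4.regLocus A' := by
    intro m
    let L := Localization.AtPrime m.asIdeal
    have hopen : IsOpen (EGA4.regLocus L) := Groth.Agent.S2701.result L (hG.2 m.asIdeal)
    have hgen : (⟨⊥, Ideal.isPrime_bot⟩ : PrimeSpectrum L) ∈ EGA4.regLocus L := by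
      let F := Localization.AtPrime (⊥ : Ideal L)
      haveI : IsFractionRing L F := by
        show IsLocalization (nonZeroDivisors L) F
        rw [← Ideal.primeCompl_bot]
        infer_instance
      letI : Field F := IsFractionRing.toField L
      show IsRegularLocalRing F
      infer_instance
    obtain ⟨g, hg0, hg⟩ := Groth.L06.RegLocus.exists_basicOpen hopen ⟨_, hgen⟩
    obtain ⟨a, s, rfl⟩ := IsLocalization.exists_mk'_eq m.asIdeal.primeCompl g
    refine ⟨a, fun h => hg0 (by rw [h, IsLocalization.mk'_zero]), fun q hq haq => ?_⟩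
    have hd : Disjoint (m.asIdeal.primeCompl : Set A') (q.asIdeal : Set A') :=
      Set.disjoint_left.mpr fun x hx hxq => hx (hq hxq)
    haveI := IsLocalization.isPrime_of_isPrime_disjoint m.asIdeal.primeCompl L q.asIdeal q.isPrime hd
    let Q : PrimeSpectrum L := ⟨q.asIdeal.map (algebraMap A' L), inferInstance⟩
    have hc : Q.asIdeal.comap (algebraMap A' L) = q.asIdeal :=
      IsLocalization.comap_map_of_isPrime_disjoint m.asIdeal.primeCompl L q.isPrime hd
    have hQ : Q ∈ EGA4.regLocus L := hg Q fun hgQ => haq (by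
      rw [← hc, Ideal.mem_comap, ← IsLocalization.mk'_spec L a s]
      exact Ideal.mul_mem_right _ _ hgQ)
    rw [Groth.Agent.S2650.regLocus_preimage (R := A') m.asIdeal.primeCompl] at hQ
    exact (PrimeSpectrum.ext hc : PrimeSpectrum.comap (algebraMap A' L) Q = q) ▸ hQ
  choose a ha0 ha using hex
  have hfinMax : {M : PrimeSpectrum A' | M.asIdeal.IsMaximal}.Finite := by
    refine (Algebra.QuasiFinite.finite_primesOver (R := A) (S := A') (maximalIdeal A)).preimage
      (fun x _ y _ h => PrimeSpectrum.ext h) |>.subset fun M hM => ?_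
    haveI : M.asIdeal.IsMaximal := hM
    exact ⟨M.isPrime, ⟨(eq_maximalIdeal (Ideal.isMaximal_comap_of_isIntegral_of_isMaximal M.asIdeal)).symm⟩⟩
  refine ⟨∏ M ∈ hfinMax.toFinset, a M, Finset.prod_ne_zero_iff.mpr fun M _ => ha0 M, fun q hq => ?_⟩
  obtain ⟨M, hM, hqM⟩ := Ideal.exists_le_maximal q.asIdeal q.isPrime.ne_top
  refine ha ⟨M, hM.isPrime⟩ q hqM fun h => hq ?_
  exact Ideal.mem_of_dvd _ (Finset.dvd_prod_of_mem a (hfinMax.mem_toFinset.mpr (show (⟨M, hM.isPrime⟩ : PrimeSpectrum A').asIdeal.IsMaximal from hM))) h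

end Groth.L05.Henselization
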