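import Groth.Agent.L02.CAlg.RegularDescend
import Groth.Agent.L06.GeomHom
import Groth.Agent.L06.GRingTransport
import Groth.Agent.L05.Henselization.Noeth
import Groth.Agent.L05.Henselization.FormEtale
import Groth.Agent.L21.Nodal.Completion
import Groth.Agent.L27.IndEtale
import Groth.Agent.S0543

/-!
# Regular homomorphisms and henselization
-/

set_option autoImplicit false
set_option maxSynthPendingDepth 3
set_option linter.style.haveILetI false

open IsLocalRing TensorProduct

namespace Groth.L05.Henselization

universe u

/-- A flat formally étale map to a Noetherian ring is regular. -/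
theorem isRegularHom_of_formallyEtale (A B : Type u) [CommRing A] [CommRing B] [Algebra A B]
    [IsNoetherianRing B] [Module.Flat A B] [Algebra.FormallyEtale A B] : CAlg.IsRegularHom A B := by
  refine ⟨inferInstance, fun p _ => ?_⟩
  haveI := Groth.L06.GeomLocal.isNoetherianRing_fiber (B := B) p
  refine ⟨inferInstance, Groth.L02.RegularDescend.geomReg_of_localization fun P _ => ?_⟩
  haveI : Algebra.FormallyEtale (p.Fiber B) (Localization.AtPrime P) :=
    Algebra.FormallyEtale.of_isLocalization P.primeCompl
  haveI : Algebra.FormallyEtale p.ResidueField (Localization.AtPrime P) :=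
    Algebra.FormallyEtale.comp _ (p.Fiber B) _
  refine (Groth.L06.FormSmooth.adicSmooth_iff_geometricallyRegular p.ResidueField
    (Localization.AtPrime P)).mp fun T _ _ J hJ ψ _ => ?_
  haveI : Algebra.FormallySmooth p.ResidueField (Localization.AtPrime P) := inferInstance
  exact ⟨Algebra.FormallySmooth.lift J ⟨2, hJ⟩ ψ, Algebra.FormallySmooth.comp_lift J ⟨2, hJ⟩ ψ⟩

theorem isRegularHom_cpl_iff (R S : Type u) [CommRing R] [IsLocalRing R] [IsNoetherianRing R]
    [CommRing S] [IsLocalRing S] [Algebra R S] [IsLocalHom (algebraMap R S)] [Hensel.IsHenselization R S] :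
    CAlg.IsRegularHom S (AdicCompletion (maximalIdeal S) S) ↔
      CAlg.IsRegularHom R (AdicCompletion (maximalIdeal R) R) := by
  haveI := (isNoetherianRing_iff_hens R S).mp inferInstance
  have hP := isPairHenselization_of_isHenselization (R := R) (S := S)
  have hm : (maximalIdeal R).map (algebraMap R S) = maximalIdeal S :=
    map_maximalIdeal_of_isPairHenselization R hP
  have hres : ∀ b : S, ∃ a : R, b - algebraMap R S a ∈ maximalIdeal S := by
    intro b
    obtain ⟨-, hs⟩ := Groth.L05.Henselization.quotientMap_pow_bijective R (maximalIdeal R) hP 1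
    obtain ⟨x, hx⟩ := hs (Ideal.Quotient.mk _ b)
    obtain ⟨a, rfl⟩ := Ideal.Quotient.mk_surjective x
    rw [Ideal.quotientMap_mk, Ideal.Quotient.eq, pow_one, hm] at hx
    exact ⟨a, by simpa using neg_mem hx⟩
  haveI := flat_of_isHenselization R S
  haveI := formallyEtale_hens R S
  obtain ⟨ε, hε⟩ := Groth.L21.Nodal.exists_completion_equiv R S hm hres
  haveI : IsNoetherianRing (AdicCompletion (maximalIdeal R) R) := Groth.Agent.S0543.result _ _
  haveI : IsNoetherianRing (AdicCompletion (maximalIdeal S) S) := Groth.Agent.S0543.result _ _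
  haveI : Module.Flat S (AdicCompletion (maximalIdeal S) S) := AdicCompletion.flat_of_isNoetherian _
  haveI : Module.Flat R (AdicCompletion (maximalIdeal S) S) := Module.Flat.trans R S _
  constructor
  · intro h
    have h' : CAlg.IsRegularHom R (AdicCompletion (maximalIdeal S) S) :=
      Groth.L06.GeomHom.isRegularHom_of_geomHom (Groth.L06.GeomHom.comp Groth.L06.PropLoc.good_reg
        (Groth.L06.GeomHom.geomHom_reg_of_isRegularHom (isRegularHom_of_formallyEtale R S))
        (Groth.L06.GeomHom.geomHom_reg_of_isRegularHom h))
    refine Groth.L06.GRingTransport.isRegularHom_of_ringEquiv (RingEquiv.refl R) ε.symm (fun a => ?_) h'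
    rw [RingEquiv.symm_apply_eq, IsScalarTower.algebraMap_apply R S (AdicCompletion (maximalIdeal S) S)]
    exact (hε a).symm
  · intro h
    have h' : CAlg.IsRegularHom R (AdicCompletion (maximalIdeal S) S) :=
      Groth.L06.GRingTransport.isRegularHom_of_ringEquiv (RingEquiv.refl R) ε (fun a => by
        rw [RingEquiv.refl_apply, IsScalarTower.algebraMap_apply R S (AdicCompletion (maximalIdeal S) S)]
        exact hε a) h
    obtain ⟨e⟩ := henselization_algEquiv R S
    exact Groth.L02.RegularDescend.isRegularHom_of_indEtale (isIndEtale_of_algEquiv e isIndEtale) h'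

end Groth.L05.Henselization
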