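import Groth.Agent.L01.NagataCriteria
import Groth.Agent.L05.Henselization.RegularEtale
import Groth.Agent.L05.Henselization.Fibres
import Groth.Agent.L05.WE.Field
import Groth.Agent.L05.WE.Fibre

/-!
# The henselization of a local Nagata ring
-/

set_option autoImplicit false
set_option maxSynthPendingDepth 3
set_option linter.style.haveILetI false

open IsLocalRing TensorProduct

namespace Groth.L05.Henselization

universe u

/-- Over a Nagata local ring, the completion tensored with an algebraic field extension of a residue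
field is reduced. -/
theorem isReduced_tensor_field {R : Type u} [CommRing R] [IsLocalRing R] [IsNoetherianRing R]
    (hR : CAlg.IsNagata R) (L : Type u) [Field L] [Algebra R L]
    (halg : ∀ x : L, ∃ a : R, algebraMap R L a ≠ 0 ∧ IsIntegral R (a • x)) :
    IsReduced (AdicCompletion (maximalIdeal R) R ⊗[R] L) := by
  classical
  let Rh := AdicCompletion (maximalIdeal R) R
  refine ⟨fun z ⟨n, hn⟩ => ?_⟩
  obtain ⟨s, rfl⟩ := TensorProduct.exists_finset z
  choose a ha0 ha using fun i : Rh × L => halg i.2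
  let c := ∏ i ∈ s, a i
  have hc0 : algebraMap R L c ≠ 0 := by
    rw [map_prod]
    exact Finset.prod_ne_zero_iff.mpr fun i _ => ha0 i
  have hint : ∀ i ∈ s, IsIntegral R (c • i.2) := fun i hi => by
    obtain ⟨d, hd⟩ := Finset.dvd_prod_of_mem a hi
    show IsIntegral R ((∏ j ∈ s, a j) • i.2)
    rw [hd, mul_comm, mul_smul]
    exact (ha i).smul d
  let B0 := Algebra.adjoin R ((s.image fun i => c • i.2 : Finset L) : Set L)
  haveI : Module.Finite R B0 := Module.Finite.iff_fg.mpr (fg_adjoin_of_finite (Finset.finite_toSet _) fun x hx => by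
    obtain ⟨i, hi, rfl⟩ := Finset.mem_image.mp hx
    exact hint i hi)
  haveI : (RingHom.ker (algebraMap R B0)).IsPrime := RingHom.ker_isPrime _
  haveI : IsReduced (Rh ⊗[R] B0) := Groth.L01.AnalUnram.isReduced_tensor R hR _ B0 rfl
  haveI : Module.Flat R Rh := AdicCompletion.flat_of_isNoetherian _
  let ψ : Rh ⊗[R] B0 →ₐ[R] Rh ⊗[R] L := Algebra.TensorProduct.map (AlgHom.id R Rh) B0.val
  have hψ : Function.Injective ψ :=
    Module.Flat.lTensor_preserves_injective_linearMap (M := Rh) B0.val.toLinearMap Subtype.val_injective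
  let w : Rh ⊗[R] B0 := ∑ i : s, i.1.1 ⊗ₜ[R]
    (⟨c • i.1.2, Algebra.subset_adjoin (Finset.mem_image_of_mem (fun j : Rh × L => c • j.2) i.2)⟩ : B0)
  have hw : ψ w = (1 ⊗ₜ[R] algebraMap R L c) * ∑ i ∈ s, i.1 ⊗ₜ[R] i.2 := by
    simp only [w, map_sum, ψ, Algebra.TensorProduct.map_tmul, AlgHom.id_apply, Subalgebra.coe_val,
      Finset.mul_sum, Algebra.TensorProduct.tmul_mul_tmul, one_mul, ← Algebra.smul_def]
    exact Finset.sum_coe_sort s fun i => i.1 ⊗ₜ[R] (c • i.2)
  have hw0 : w = 0 := by
    refine eq_zero_of_pow_eq_zero (n := n) (hψ ?_)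
    rw [map_pow, hw, mul_pow, hn, mul_zero, map_zero]
  have hu : IsUnit ((1 : Rh) ⊗ₜ[R] algebraMap R L c) :=
    (isUnit_iff_ne_zero.mpr hc0).map (Algebra.TensorProduct.includeRight : L →ₐ[R] Rh ⊗[R] L)
  rw [hw0, map_zero] at hw
  exact hu.mul_right_eq_zero.mp hw.symm

/-- A quotient of a reduced ring by an ideal generated by idempotent combinations is reduced. -/
theorem mem_map_of_pow_mem {M T : Type u} [CommRing M] [CommRing T] [IsReduced T] (ψ : M →+* T)
    (I : Ideal M) (hM : ∀ y : M, ∃ c, y * y * c = y) {x : T} {n : ℕ} (hx : x ^ n ∈ I.map ψ) :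
    x ∈ I.map ψ := by
  have key : ∀ k ∈ I.map ψ, ∃ e ∈ I, e * e = e ∧ k * ψ e = k := by
    intro k hk
    refine Submodule.span_induction ?_ ?_ ?_ ?_ hk
    · rintro _ ⟨y, hy, rfl⟩
      obtain ⟨c, hc⟩ := hM y
      exact ⟨y * c, I.mul_mem_right c hy, by linear_combination c * hc,
        by rw [← map_mul, ← mul_assoc, hc]⟩
    · exact ⟨0, I.zero_mem, mul_zero _, by simp⟩
    · rintro a b - - ⟨e, he, hee, ha⟩ ⟨f, hf, hff, hb⟩
      refine ⟨e + f - e * f, I.sub_mem (I.add_mem he hf) (I.mul_mem_left e hf),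
        by linear_combination (1 - 2 * f + f * f) * hee + (1 - e) * hff, ?_⟩
      have h1 : a * ψ e = a := ha
      have h2 : b * ψ f = b := hb
      rw [map_sub, map_add, map_mul]
      linear_combination (1 - ψ f) * h1 + (1 - ψ e) * h2
    · rintro r a - ⟨e, he, hee, ha⟩
      exact ⟨e, he, hee, by rw [smul_eq_mul, mul_assoc, ha]⟩
  obtain ⟨e, he, hee, hxe⟩ := key _ hx
  have h1 : IsIdempotentElem (1 - ψ e) := (IsIdempotentElem.map hee ψ).one_sub
  have h0 : x * (1 - ψ e) = 0 := eq_zero_of_pow_eq_zero (n := n + 1) (by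
    rw [mul_pow, h1.pow_succ_eq, pow_succ, mul_right_comm, mul_sub, mul_one, hxe, sub_self, zero_mul])
  rw [show x = x * ψ e by linear_combination h0]
  exact Ideal.mul_mem_left _ _ (Ideal.mem_map_of_mem ψ he)


section transfer

variable (R S : Type u) [CommRing R] [IsLocalRing R] [IsNoetherianRing R]
  [CommRing S] [IsLocalRing S] [Algebra R S] [IsLocalHom (algebraMap R S)] [hS : Hensel.IsHenselization R S]

include hS in
theorem exists_completion_algEquiv :
    Nonempty (AdicCompletion (maximalIdeal R) R ≃ₐ[R] AdicCompletion (maximalIdeal S) S) := by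
  haveI := (isNoetherianRing_iff_hens R S).mp inferInstance
  have hP := isPairHenselization_of_isHenselization (R := R) (S := S)
  have hm : (maximalIdeal R).map (algebraMap R S) = maximalIdeal S :=
    map_maximalIdeal_of_isPairHenselization R hP
  have hres : ∀ b : S, ∃ a : R, b - algebraMap R S a ∈ maximalIdeal S := by
    intro b
    obtain ⟨-, hs⟩ := quotientMap_pow_bijective R (maximalIdeal R) hP 1
    obtain ⟨x, hx⟩ := hs (Ideal.Quotient.mk _ b)
    obtain ⟨a, rfl⟩ := Ideal.Quotient.mk_surjective x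
    rw [Ideal.quotientMap_mk, Ideal.Quotient.eq, pow_one, hm] at hx
    exact ⟨a, by simpa using neg_mem hx⟩
  haveI := flat_of_isHenselization R S
  obtain ⟨ε, hε⟩ := Groth.L21.Nodal.exists_completion_equiv R S hm hres
  exact ⟨AlgEquiv.ofRingEquiv (f := ε) fun a => by
    rw [hε, ← IsScalarTower.algebraMap_apply]⟩

include hS in
theorem isAlgebraic_of_finite_hens (B : Type u) [CommRing B] [IsDomain B] [Algebra S B] [Module.Finite S B]
    [Algebra R (FractionRing B)] [IsScalarTower R S (FractionRing B)] (x : FractionRing B) :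
    ∃ a : R, algebraMap R (FractionRing B) a ≠ 0 ∧ IsIntegral R (a • x) := by
  let L := FractionRing B
  let p := RingHom.ker (algebraMap R L)
  haveI : p.IsPrime := RingHom.ker_isPrime _
  let k := p.ResidueField
  letI : Algebra (R ⧸ p) L := (RingHom.kerLift (algebraMap R L)).toAlgebra
  haveI : IsScalarTower R (R ⧸ p) L := IsScalarTower.of_algebraMap_eq fun _ => rfl
  haveI : FaithfulSMul (R ⧸ p) L :=
    (faithfulSMul_iff_algebraMap_injective _ _).mpr (RingHom.kerLift_injective _)
  letI : Algebra k L := (IsFractionRing.lift (A := R ⧸ p) (K := k)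
    (FaithfulSMul.algebraMap_injective (R ⧸ p) L)).toAlgebra
  haveI : IsScalarTower (R ⧸ p) k L := IsScalarTower.of_algebraMap_eq fun x =>
    (IsFractionRing.lift_algebraMap (FaithfulSMul.algebraMap_injective (R ⧸ p) L) x).symm
  haveI : IsScalarTower R k L := IsScalarTower.of_algebraMap_eq fun r => by
    rw [IsScalarTower.algebraMap_apply R (R ⧸ p) L, IsScalarTower.algebraMap_apply R (R ⧸ p) k,
      ← IsScalarTower.algebraMap_apply (R ⧸ p) k L]
  haveI : Algebra.WeaklyEtale R S := by
    obtain ⟨e⟩ := henselization_algEquiv R S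
    exact Groth.L27.IndEtale.weaklyEtale R S (isIndEtale_of_algEquiv e isIndEtale)
  let f : k ⊗[R] S →ₐ[k] L :=
    Algebra.TensorProduct.lift (Algebra.ofId _ _) (IsScalarTower.toAlgHom R S L) fun _ _ => Commute.all _ _
  have hS' : ∀ s : S, IsIntegral k (algebraMap S L s) := fun s => by
    have := ((Groth.L05.WE.isSepRoot (K := k) (B := k ⊗[R] S) (1 ⊗ₜ s)).map f).isIntegral
    simpa [f] using this
  let K0 := integralClosure k L
  letI : Algebra S K0 := (RingHom.codRestrict (algebraMap S L) K0.toSubring hS').toAlgebra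
  haveI : IsScalarTower S K0 L := IsScalarTower.of_algebraMap_eq fun _ => rfl
  have hB : ∀ b : B, IsIntegral k (algebraMap B L b) := fun b =>
    isIntegral_trans (A := K0) _
      (IsIntegral.tower_top ((Algebra.IsIntegral.isIntegral (R := S) b).map (IsScalarTower.toAlgHom S B L)))
  have hx : IsIntegral k x := by
    obtain ⟨b, ⟨c, hc⟩, rfl⟩ := IsLocalization.exists_mk'_eq (nonZeroDivisors B) x
    rw [IsFractionRing.mk'_eq_div, div_eq_mul_inv]
    exact (hB b).mul (hB c).inv
  obtain ⟨y, hy0, hy⟩ := ((IsFractionRing.isAlgebraic_iff (R ⧸ p) k L).mpr hx.isAlgebraic).exists_integral_multiple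
  obtain ⟨a, rfl⟩ := Ideal.Quotient.mk_surjective y
  refine ⟨a, fun h => hy0 (Ideal.Quotient.eq_zero_iff_mem.mpr h), ?_⟩
  haveI : Algebra.IsIntegral R (R ⧸ p) := Algebra.IsIntegral.of_finite R _
  have h := isIntegral_trans (R := R) (A := R ⧸ p) _ hy
  rwa [show (a • x : L) = (Ideal.Quotient.mk p a) • x from (algebraMap_smul (R ⧸ p) a x).symm]

include hS in
theorem isNagata_hens (hR : CAlg.IsNagata R) : CAlg.IsNagata S := by
  haveI := (isNoetherianRing_iff_hens R S).mp inferInstance
  refine ⟨inferInstance, fun q _ => Groth.L01.Nagata.isN2_of_forall_isN1 fun B _ _ _ _ => ?_⟩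
  letI : Algebra S B := Algebra.compHom B (Ideal.Quotient.mk q)
  haveI : IsScalarTower S (S ⧸ q) B := IsScalarTower.of_algebraMap_eq fun _ => rfl
  haveI : Module.Finite S B := Module.Finite.trans (S ⧸ q) B
  let L := FractionRing B
  letI : Algebra R L := ((algebraMap S L).comp (algebraMap R S)).toAlgebra
  haveI : IsScalarTower R S L := IsScalarTower.of_algebraMap_eq' rfl
  let Sh := AdicCompletion (maximalIdeal S) S
  obtain ⟨ε⟩ := exists_completion_algEquiv R S
  haveI : IsReduced (Sh ⊗[R] L) := by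
    haveI := isReduced_tensor_field hR L (isAlgebraic_of_finite_hens R S B)
    exact isReduced_of_injective (Algebra.TensorProduct.congr ε (AlgEquiv.refl (A₁ := L))).symm
      (AlgEquiv.injective _)
  haveI : Algebra.WeaklyEtale R S := by
    obtain ⟨e⟩ := henselization_algEquiv R S
    exact Groth.L27.IndEtale.weaklyEtale R S (isIndEtale_of_algEquiv e isIndEtale)
  let T0 := Sh ⊗[R] L
  let ψ : L ⊗[R] S →ₐ[R] T0 := Algebra.TensorProduct.lift Algebra.TensorProduct.includeRight
    ((Algebra.TensorProduct.includeLeft (R := R) (S := R) (A := Sh) (B := L)).comp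
      (IsScalarTower.toAlgHom R S Sh)) fun _ _ => Commute.all _ _
  let I : Ideal (L ⊗[R] S) :=
    Ideal.span (Set.range fun s : S => algebraMap S L s ⊗ₜ[R] (1 : S) - (1 : L) ⊗ₜ[R] s)
  have hψt : ∀ (l : L) (t : S), ψ (l ⊗ₜ[R] t) = algebraMap S Sh t ⊗ₜ[R] l := fun l t => by
    refine (Algebra.TensorProduct.lift_tmul _ _ _ l t).trans ?_
    show ((1 : Sh) ⊗ₜ[R] l) * (algebraMap S Sh t ⊗ₜ[R] (1 : L)) = _
    rw [Algebra.TensorProduct.tmul_mul_tmul, one_mul, mul_one]
  let K : Ideal T0 := I.map ψ.toRingHom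
  haveI : IsReduced (T0 ⧸ K) := by
    refine ⟨fun z ⟨n, hn⟩ => ?_⟩
    obtain ⟨x, rfl⟩ := Ideal.Quotient.mk_surjective z
    rw [← map_pow, Ideal.Quotient.eq_zero_iff_mem] at hn
    exact Ideal.Quotient.eq_zero_iff_mem.mpr
      (mem_map_of_pow_mem ψ.toRingHom I (Groth.L05.WE.exists_mul_mul_eq L (L ⊗[R] S)) hn)
  let j : L →ₐ[S] T0 ⧸ K :=
    { (Ideal.Quotient.mk K).comp (Algebra.TensorProduct.includeRight : L →ₐ[R] T0).toRingHom with
      commutes' := fun s => by
        show Ideal.Quotient.mk K ((1 : Sh) ⊗ₜ[R] algebraMap S L s) =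
          Ideal.Quotient.mk K (algebraMap S Sh s ⊗ₜ[R] (1 : L))
        rw [Ideal.Quotient.eq]
        have h : ψ (algebraMap S L s ⊗ₜ[R] (1 : S) - (1 : L) ⊗ₜ[R] s) ∈ K :=
          Ideal.mem_map_of_mem ψ.toRingHom (Ideal.subset_span ⟨s, rfl⟩)
        rw [map_sub, hψt, hψt, map_one] at h
        exact h }
  let i : Sh →ₐ[S] T0 ⧸ K :=
    { (Ideal.Quotient.mk K).comp (Algebra.TensorProduct.includeLeftRingHom : Sh →+* T0) with
      commutes' := fun s => rfl }
  let g : Sh ⊗[S] L →ₐ[S] T0 ⧸ K := Algebra.TensorProduct.lift i j fun _ _ => Commute.all _ _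
  let π : T0 →ₐ[R] Sh ⊗[S] L := Algebra.TensorProduct.lift
    ((Algebra.TensorProduct.includeLeft (R := S) (S := S) (A := Sh) (B := L)).restrictScalars R)
    ((Algebra.TensorProduct.includeRight : L →ₐ[S] Sh ⊗[S] L).restrictScalars R) fun _ _ => Commute.all _ _
  have hπt : ∀ (a : Sh) (l : L), π (a ⊗ₜ[R] l) = a ⊗ₜ[S] l := fun a l => by
    refine (Algebra.TensorProduct.lift_tmul _ _ _ a l).trans ?_
    show (a ⊗ₜ[S] (1 : L)) * ((1 : Sh) ⊗ₜ[S] l) = _
    rw [Algebra.TensorProduct.tmul_mul_tmul, one_mul, mul_one]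
  have hπ : Function.Surjective π := fun z => by
    induction z using TensorProduct.induction_on with
    | zero => exact ⟨0, map_zero _⟩
    | tmul a l => exact ⟨a ⊗ₜ[R] l, hπt a l⟩
    | add a b ha hb =>
      obtain ⟨x, rfl⟩ := ha
      obtain ⟨y, rfl⟩ := hb
      exact ⟨x + y, map_add _ _ _⟩
  have hgπ : ∀ x : T0, g (π x) = Ideal.Quotient.mk K x := fun x => by
    induction x using TensorProduct.induction_on with
    | zero => simp
    | tmul a l =>
      have : g (π (a ⊗ₜ[R] l)) = i a * j l := by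
        rw [hπt]
        exact Algebra.TensorProduct.lift_tmul _ _ _ a l
      rw [this]
      show Ideal.Quotient.mk K (a ⊗ₜ[R] (1 : L)) * Ideal.Quotient.mk K ((1 : Sh) ⊗ₜ[R] l) = _
      rw [← map_mul, Algebra.TensorProduct.tmul_mul_tmul, one_mul, mul_one]
    | add a b ha hb => simp only [map_add, ha, hb]
  have hπ0 : ∀ x ∈ K, π x = 0 := by
    intro x hx
    have : K ≤ RingHom.ker π.toRingHom := by
      refine Ideal.map_le_iff_le_comap.mpr (Ideal.span_le.mpr ?_)
      rintro _ ⟨s, rfl⟩
      show π (ψ (algebraMap S L s ⊗ₜ[R] (1 : S) - (1 : L) ⊗ₜ[R] s)) = 0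
      rw [map_sub, hψt, hψt, map_one, map_sub, hπt, hπt, sub_eq_zero]
      exact (Algebra.TensorProduct.algebraMap_apply' (R := S) (A := Sh) (B := L) s).symm.trans
        (Algebra.TensorProduct.algebraMap_apply (R := S) (S := S) (A := Sh) (B := L) s)
    exact this hx
  haveI : IsReduced (Sh ⊗[S] L) := isReduced_of_injective g fun a b hab => by
    obtain ⟨x, rfl⟩ := hπ a
    obtain ⟨y, rfl⟩ := hπ b
    rw [hgπ, hgπ, Ideal.Quotient.eq] at hab
    rw [← sub_eq_zero, ← map_sub]
    exact hπ0 _ hab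
  haveI : Module.Flat S Sh := AdicCompletion.flat_of_isNoetherian _
  haveI : IsReduced (Sh ⊗[S] B) := isReduced_of_injective
    (Algebra.TensorProduct.map (AlgHom.id S Sh) (IsScalarTower.toAlgHom S B L))
    (Module.Flat.lTensor_preserves_injective_linearMap (M := Sh) (IsScalarTower.toAlgHom S B L).toLinearMap
      (IsFractionRing.injective B L))
  exact Groth.L01.NagataCriteria.isN1_of_isReduced_tensor (A := S)

include hS in
theorem isNagata_of_hens (hS' : CAlg.IsNagata S) : CAlg.IsNagata R := by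
  classical
  haveI := (isNoetherianRing_iff_hens R S).mp inferInstance
  refine ⟨inferInstance, fun q _ => Groth.L01.Nagata.isN2_of_forall_isN1 fun B _ _ _ _ => ?_⟩
  letI : Algebra R B := Algebra.compHom B (Ideal.Quotient.mk q)
  haveI : IsScalarTower R (R ⧸ q) B := IsScalarTower.of_algebraMap_eq fun _ => rfl
  haveI : Module.Finite R B := Module.Finite.trans (R ⧸ q) B
  obtain ⟨ε⟩ := exists_completion_algEquiv R S
  let Sh := AdicCompletion (maximalIdeal S) S
  let C := S ⊗[R] B
  haveI : IsNoetherianRing C := IsNoetherianRing.of_finite S C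
  haveI : IsReduced C := by
    haveI : Algebra.WeaklyEtale R S := by
      obtain ⟨e⟩ := henselization_algEquiv R S
      exact Groth.L27.IndEtale.weaklyEtale R S (isIndEtale_of_algEquiv e isIndEtale)
    haveI : IsReduced (B ⊗[R] S) := Groth.L20.isReduced_of_weaklyEtale B (B ⊗[R] S)
    exact isReduced_of_injective (Algebra.TensorProduct.comm R S B) (AlgEquiv.injective _)
  haveI : Finite (minimalPrimes C) := (minimalPrimes.finite_of_isNoetherianRing C).to_subtype
  haveI : Fintype (minimalPrimes C) := Fintype.ofFinite _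
  let emb : C →ₐ[S] ((P : minimalPrimes C) → C ⧸ P.1) := Pi.algHom _ _ fun P => Ideal.Quotient.mkₐ S P.1
  have hemb : Function.Injective emb := (injective_iff_map_eq_zero _).mpr fun c hc => by
    refine IsNilpotent.eq_zero (nilpotent_iff_mem_prime.mpr fun J hJ => ?_)
    obtain ⟨P, hP, hPJ⟩ := Ideal.exists_minimalPrimes_le (I := ⊥) (J := J) bot_le
    exact hPJ (Ideal.Quotient.eq_zero_iff_mem.mp (congrFun hc ⟨P, hP⟩))
  haveI : ∀ P : minimalPrimes C, IsReduced (Sh ⊗[S] (C ⧸ P.1)) := fun P => by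
    haveI : P.1.IsPrime := P.2.1.1
    haveI : (RingHom.ker (algebraMap S (C ⧸ P.1))).IsPrime := RingHom.ker_isPrime _
    exact Groth.L01.AnalUnram.isReduced_tensor S hS' _ (C ⧸ P.1) rfl
  haveI : Module.Flat S Sh := AdicCompletion.flat_of_isNoetherian _
  haveI : IsReduced (Sh ⊗[S] ((P : minimalPrimes C) → C ⧸ P.1)) :=
    isReduced_of_injective (Algebra.TensorProduct.piRight S S Sh fun P : minimalPrimes C => C ⧸ P.1)
      (AlgEquiv.injective _)
  haveI : IsReduced (Sh ⊗[S] C) := isReduced_of_injective (Algebra.TensorProduct.map (AlgHom.id S Sh) emb)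
    (Module.Flat.lTensor_preserves_injective_linearMap (M := Sh) emb.toLinearMap hemb)
  haveI : IsReduced (Sh ⊗[R] B) :=
    isReduced_of_injective (Algebra.TensorProduct.cancelBaseChange R S S Sh B).symm (AlgEquiv.injective _)
  haveI : IsReduced (AdicCompletion (maximalIdeal R) R ⊗[R] B) :=
    isReduced_of_injective (Algebra.TensorProduct.congr ε (AlgEquiv.refl (A₁ := B))) (AlgEquiv.injective _)
  exact Groth.L01.NagataCriteria.isN1_of_isReduced_tensor (A := R)

end transfer

end Groth.L05.Henselization
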