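import Groth.Agent.L05.Hfp.Basic
import Groth.Agent.L05.Henselization.Pair

/-!
# Descending finite data from the henselization of a pair to an étale neighbourhood
-/

set_option autoImplicit false

universe u

namespace Groth.L05.Henselization

variable {A : Type u} [CommRing A] (I : Ideal A)

theorem ε_comp_eq_section {S : Type u} [CommRing S] [Algebra A S] {σ : S →ₐ[A] A ⧸ I}
    (hσ : RingHom.ker σ = I.map (algebraMap A S)) (g : S →ₐ[A] PairHens A I) (x : S) :
    ε A (A ⧸ I) (g x) = σ x := by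
  obtain ⟨p, hp⟩ := Ideal.Quotient.mk_surjective (σ x)
  have hmem : x - algebraMap A S p ∈ I.map (algebraMap A S) := by
    rw [← hσ, RingHom.mem_ker, map_sub, σ.commutes, ← hp]
    exact sub_self _
  have h0 : g (x - algebraMap A S p) ∈ RingHom.ker (ε A (A ⧸ I)) := by
    rw [ker_ε_pair]
    have := Ideal.mem_map_of_mem g.toRingHom hmem
    rwa [Ideal.map_map, show g.toRingHom.comp (algebraMap A S) = algebraMap A (PairHens A I) from
      g.comp_algebraMap] at this
  rw [RingHom.mem_ker, map_sub, map_sub, g.commutes, AlgHom.commutes, sub_eq_zero] at h0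
  rw [h0, ← hp]
  rfl

theorem exists_nbhd_lift (s : Finset (PairHens A I)) :
    ∃ (S : Type u) (_ : CommRing S) (_ : Algebra A S) (σ : S →ₐ[A] A ⧸ I) (g : S →ₐ[A] PairHens A I),
      Algebra.Etale A S ∧ RingHom.ker σ = I.map (algebraMap A S) ∧
      (∀ x, ε A (A ⧸ I) (g x) = σ x) ∧ ∀ b ∈ s, b ∈ g.range := by
  obtain ⟨S, _, _, _, σ, g, hσ, hg⟩ := Groth.L05.Hfp.exists_nbhd_lift_finset (isPairHenselization A I) s
  exact ⟨S, inferInstance, inferInstance, σ, g, inferInstance, hσ, ε_comp_eq_section I hσ g, hg⟩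

theorem exists_nbhd_kill {S : Type u} [CommRing S] [Algebra A S] [Algebra.Etale A S] {σ : S →ₐ[A] A ⧸ I}
    (hσ : RingHom.ker σ = I.map (algebraMap A S)) (g : S →ₐ[A] PairHens A I) (t : Finset S)
    (ht : ∀ x ∈ t, g x = 0) :
    ∃ (S' : Type u) (_ : CommRing S') (_ : Algebra A S') (_ : Algebra.Etale A S') (ψ : S →ₐ[A] S')
      (σ' : S' →ₐ[A] A ⧸ I), RingHom.ker σ' = I.map (algebraMap A S') ∧
      Function.Bijective (Ideal.quotientMap (I.map (algebraMap A S')) (algebraMap A S') Ideal.le_comap_map) ∧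
      (∀ x ∈ t, ψ x = 0) ∧ ∀ x, σ' (ψ x) = σ x := by
  obtain ⟨S', _, _, _, σ', g', ψ, hσ', hg', hψ⟩ :=
    Groth.L05.Hfp.exists_nbhd_kill_finset (isPairHenselization A I) hσ g t ht
  refine ⟨S', inferInstance, inferInstance, inferInstance, ψ, σ', hσ', (exists_section_iff I).mpr ⟨σ', hσ'⟩, hψ,
    fun x => ?_⟩
  rw [← ε_comp_eq_section I hσ' g', ← ε_comp_eq_section I hσ g, ← hg']
  rfl

/-- Congruence modulo `I` in a neighbourhood is read off by the section. -/
theorem mk_eq_quotientMap {S : Type u} [CommRing S] [Algebra A S] {σ : S →ₐ[A] A ⧸ I}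
    (hσ : RingHom.ker σ = I.map (algebraMap A S)) {x : S} {z : A ⧸ I} (h : σ x = z) :
    Ideal.Quotient.mk (I.map (algebraMap A S)) x =
      Ideal.quotientMap (I.map (algebraMap A S)) (algebraMap A S) Ideal.le_comap_map z := by
  obtain ⟨a, rfl⟩ := Ideal.Quotient.mk_surjective z
  rw [Ideal.quotientMap_mk, Ideal.Quotient.eq, ← hσ, RingHom.mem_ker, map_sub, h, σ.commutes, sub_eq_zero]
  rfl

end Groth.L05.Henselization
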