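import Groth.Agent.L05.Henselization.NbhdDescend
import Mathlib.RingTheory.Flat.Basic
import Mathlib.LinearAlgebra.TensorProduct.Vanishing

/-!
# Descending tensors with the henselization of a pair
-/

set_option autoImplicit false

universe u

open TensorProduct

namespace Groth.L05.Henselization

variable {A : Type u} [CommRing A] (I : Ideal A)

/-- Enlarge a neighbourhood so that it reaches finitely many more elements. -/
theorem exists_nbhd_extend {S : Type u} [CommRing S] [Algebra A S] [Algebra.Etale A S] {σ : S →ₐ[A] A ⧸ I}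
    (hσ : RingHom.ker σ = I.map (algebraMap A S)) (g : S →ₐ[A] PairHens A I) (s : Finset (PairHens A I)) :
    ∃ (S' : Type u) (_ : CommRing S') (_ : Algebra A S') (_ : Algebra.Etale A S') (ψ : S →ₐ[A] S')
      (σ' : S' →ₐ[A] A ⧸ I) (g' : S' →ₐ[A] PairHens A I), RingHom.ker σ' = I.map (algebraMap A S') ∧
      g'.comp ψ = g ∧ ∀ b ∈ s, b ∈ g'.range := by
  obtain ⟨S₂, _, _, σ₂, g₂, _, hσ₂, -, hg₂⟩ := exists_nbhd_lift I s
  obtain ⟨S', _, _, _, σ', hσ', ⟨j₁⟩, ⟨j₂⟩⟩ := directed_sections I hσ hσ₂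
  haveI := (isPairHenselization A I).1
  obtain ⟨g', -, -⟩ := existsUnique_algHom_of_section I hσ' (I.map (algebraMap A (PairHens A I))) le_rfl
  obtain ⟨_, -, hu₁⟩ := existsUnique_algHom_of_section I hσ (I.map (algebraMap A (PairHens A I))) le_rfl
  obtain ⟨_, -, hu₂⟩ := existsUnique_algHom_of_section I hσ₂ (I.map (algebraMap A (PairHens A I))) le_rfl
  refine ⟨S', inferInstance, inferInstance, inferInstance, j₁, σ', g', hσ',
    (hu₁ _ trivial).trans (hu₁ g trivial).symm, fun b hb => ?_⟩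
  obtain ⟨x, hx⟩ := hg₂ b hb
  exact ⟨j₂ x, (DFunLike.congr_fun ((hu₂ (g'.comp j₂) trivial).trans (hu₂ g₂ trivial).symm) x).trans hx⟩

variable {B : Type u} [CommRing B] [Algebra A B]

/-- Tensors with the henselization come from a neighbourhood. -/
theorem exists_nbhd_lift_tensor {ι : Type} [Fintype ι] (z : ι → PairHens A I ⊗[A] B) :
    ∃ (S : Type u) (_ : CommRing S) (_ : Algebra A S) (_ : Algebra.Etale A S) (σ : S →ₐ[A] A ⧸ I)
      (g : S →ₐ[A] PairHens A I), RingHom.ker σ = I.map (algebraMap A S) ∧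
      ∀ i, ∃ z' : S ⊗[A] B, Algebra.TensorProduct.map g (AlgHom.id A B) z' = z i := by
  classical
  choose T hT using fun i => TensorProduct.exists_finset (z i)
  obtain ⟨S, _, _, σ, g, _, hσ, -, hg⟩ := exists_nbhd_lift I (Finset.univ.biUnion fun i => (T i).image Prod.fst)
  refine ⟨S, inferInstance, inferInstance, inferInstance, σ, g, hσ, fun i => ?_⟩
  choose y hy using fun p : {p // p ∈ T i} => hg p.1.1
    (Finset.mem_biUnion.mpr ⟨i, Finset.mem_univ i, Finset.mem_image_of_mem _ p.2⟩)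
  refine ⟨∑ p : {p // p ∈ T i}, y p ⊗ₜ[A] p.1.2, ?_⟩
  rw [map_sum]
  refine Eq.trans ?_ ((Finset.sum_coe_sort (T i) (fun p : PairHens A I × B => p.1 ⊗ₜ[A] p.2)).trans (hT i).symm)
  refine Finset.sum_congr rfl fun p _ => ?_
  rw [Algebra.TensorProduct.map_tmul, AlgHom.id_apply]
  exact congrArg (· ⊗ₜ[A] p.1.2) (hy p)

/-- A tensor vanishing in the henselization vanishes in a neighbourhood. -/
theorem exists_nbhd_kill_tensor {S : Type u} [CommRing S] [Algebra A S] [Algebra.Etale A S]
    {σ : S →ₐ[A] A ⧸ I} (hσ : RingHom.ker σ = I.map (algebraMap A S)) (g : S →ₐ[A] PairHens A I)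
    (t : Finset (S ⊗[A] B)) (ht : ∀ z ∈ t, Algebra.TensorProduct.map g (AlgHom.id A B) z = 0) :
    ∃ (S' : Type u) (_ : CommRing S') (_ : Algebra A S') (_ : Algebra.Etale A S') (ψ : S →ₐ[A] S')
      (σ' : S' →ₐ[A] A ⧸ I) (g' : S' →ₐ[A] PairHens A I), RingHom.ker σ' = I.map (algebraMap A S') ∧
      g'.comp ψ = g ∧ ∀ z ∈ t, Algebra.TensorProduct.map ψ (AlgHom.id A B) z = 0 := by
  classical
  induction t using Finset.induction with
  | empty =>
    exact ⟨S, inferInstance, inferInstance, inferInstance, AlgHom.id A S, σ, g, hσ, AlgHom.comp_id g, by simp⟩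
  | insert z t hz ih =>
    obtain ⟨S₁, _, _, _, ψ₁, σ₁, g₁, hσ₁, hg₁, ht₁⟩ := ih fun w hw => ht w (Finset.mem_insert_of_mem hw)
    let z₁ := Algebra.TensorProduct.map ψ₁ (AlgHom.id A B) z
    have hz₁ : Algebra.TensorProduct.map g₁ (AlgHom.id A B) z₁ = 0 := by
      refine Eq.trans ?_ (ht z (Finset.mem_insert_self z t))
      rw [← AlgHom.comp_apply, ← Algebra.TensorProduct.map_comp, hg₁, AlgHom.comp_id]
    obtain ⟨k, s, b, hsb⟩ := TensorProduct.exists_sum_tmul_eq z₁
    rw [hsb, map_sum] at hz₁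
    simp only [Algebra.TensorProduct.map_tmul, AlgHom.id_apply] at hz₁
    have hcomm : ∑ i, b i ⊗ₜ[A] g₁ (s i) = (0 : B ⊗[A] PairHens A I) := by
      have := congrArg (TensorProduct.comm A (PairHens A I) B) hz₁
      rw [map_sum, map_zero] at this
      simpa using this
    haveI : Module.Flat A (PairHens A I) := flat_of_isPairHenselization A I (isPairHenselization A I)
    obtain ⟨κ, a, y, hy, ha⟩ := TensorProduct.vanishesTrivially_of_sum_tmul_eq_zero_of_rTensor_injective A
      (Module.Flat.rTensor_preserves_injective_linearMap _ Subtype.val_injective) hcomm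
    obtain ⟨S₂, _, _, _, ψ₂, σ₂, g₂, hσ₂, hg₂, hrange⟩ := exists_nbhd_extend I hσ₁ g₁ (Finset.univ.image y)
    choose w hw using fun j => hrange (y j) (Finset.mem_image_of_mem y (Finset.mem_univ j))
    obtain ⟨S₃, _, _, _, σ₃, g₃, ψ₃, hσ₃, hg₃, hkill⟩ := Groth.L05.Hfp.exists_nbhd_kill_finset
      (isPairHenselization A I) hσ₂ g₂ (Finset.univ.image fun i => ψ₂ (s i) - ∑ j, a i j • w j) (by
        intro x hx
        obtain ⟨i, -, rfl⟩ := Finset.mem_image.mp hx
        rw [map_sub, map_sum, ← AlgHom.comp_apply g₂, hg₂, sub_eq_zero,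
          show g₁ (s i) = _ from hy i]
        exact Finset.sum_congr rfl fun j _ => by rw [map_smul]; exact congrArg _ (hw j).symm)
    refine ⟨S₃, inferInstance, inferInstance, inferInstance, ψ₃.comp (ψ₂.comp ψ₁), σ₃, g₃, hσ₃, ?_, fun x hx => ?_⟩
    · rw [← AlgHom.comp_assoc, hg₃, ← AlgHom.comp_assoc, hg₂, hg₁]
    · have hsplit : ∀ u, Algebra.TensorProduct.map (ψ₃.comp (ψ₂.comp ψ₁)) (AlgHom.id A B) u =
          Algebra.TensorProduct.map (ψ₃.comp ψ₂) (AlgHom.id A B) (Algebra.TensorProduct.map ψ₁ (AlgHom.id A B) u) :=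
        fun u => by
          rw [← AlgHom.comp_apply (Algebra.TensorProduct.map (ψ₃.comp ψ₂) (AlgHom.id A B)),
            ← Algebra.TensorProduct.map_comp, AlgHom.comp_id, AlgHom.comp_assoc]
      rw [hsplit]
      rcases Finset.mem_insert.mp hx with rfl | hx
      · show Algebra.TensorProduct.map (ψ₃.comp ψ₂) (AlgHom.id A B) z₁ = 0
        have hi : ∀ i, ψ₃ (ψ₂ (s i)) = ∑ j, a i j • ψ₃ (w j) := fun i => by
          have := hkill _ (Finset.mem_image_of_mem (fun i => ψ₂ (s i) - ∑ j, a i j • w j) (Finset.mem_univ i))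
          rw [map_sub, sub_eq_zero, map_sum] at this
          simpa only [map_smul] using this
        rw [hsb, map_sum]
        simp only [Algebra.TensorProduct.map_tmul, AlgHom.id_apply, AlgHom.comp_apply, hi, TensorProduct.sum_tmul,
          TensorProduct.smul_tmul]
        rw [Finset.sum_comm]
        refine Finset.sum_eq_zero fun j _ => ?_
        rw [← TensorProduct.tmul_sum, ha j, TensorProduct.tmul_zero]
      · rw [ht₁ x hx, map_zero]

/-- Modulo `I` a tensor with a neighbourhood comes from `B`. -/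
theorem exists_sub_tmul_mem {S : Type u} [CommRing S] [Algebra A S] {σ : S →ₐ[A] A ⧸ I}
    (hσ : RingHom.ker σ = I.map (algebraMap A S)) (z : S ⊗[A] B) :
    ∃ b : B, z - (1 : S) ⊗ₜ[A] b ∈ I.map (algebraMap A (S ⊗[A] B)) := by
  induction z using TensorProduct.induction_on with
  | zero => exact ⟨0, by simp⟩
  | add x y hx hy =>
    obtain ⟨b, hb⟩ := hx
    obtain ⟨b', hb'⟩ := hy
    refine ⟨b + b', ?_⟩
    rw [TensorProduct.tmul_add, add_sub_add_comm]
    exact add_mem hb hb'
  | tmul s b =>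
    obtain ⟨a, ha⟩ := Ideal.Quotient.mk_surjective (σ s)
    refine ⟨a • b, ?_⟩
    rw [TensorProduct.tmul_smul, TensorProduct.smul_tmul', ← sub_tmul, ← Algebra.algebraMap_eq_smul_one]
    have hmem : s - algebraMap A S a ∈ I.map (algebraMap A S) := by
      rw [← hσ, RingHom.mem_ker, map_sub, σ.commutes, ← ha]
      exact sub_self _
    have := Ideal.mul_mem_right ((1 : S) ⊗ₜ[A] b) _
      (Ideal.mem_map_of_mem (Algebra.TensorProduct.includeLeftRingHom : S →+* S ⊗[A] B) hmem)
    rw [Ideal.map_map] at this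
    rw [show (s - algebraMap A S a) ⊗ₜ[A] b =
      Algebra.TensorProduct.includeLeftRingHom (s - algebraMap A S a) * ((1 : S) ⊗ₜ[A] b) by simp]
    convert! this using 3

end Groth.L05.Henselization
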