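import Groth.Agent.L20.NormalWE
import Groth.Agent.L06.NormalAscent
import Groth.Agent.L27.IndEtalePerm
import Groth.Agent.L05.Henselization.StrictUniq

/-!
# Normality and local ind-étale extensions
-/

set_option autoImplicit false

universe u

namespace Groth.L05.Henselization

theorem normal_iff_of_isIndEtale (R S : Type u) [CommRing R] [IsLocalRing R] [CommRing S] [IsLocalRing S]
    [Algebra R S] [IsLocalHom (algebraMap R S)] [Module.Flat R S] (h : EtPBC.IsIndEtale R S) :
    (IsDomain S ∧ IsIntegrallyClosed S) ↔ (IsDomain R ∧ IsIntegrallyClosed R) := by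
  constructor
  · rintro ⟨_, _⟩
    haveI : Module.FaithfullyFlat R S := faithfullyFlat_of_flat_local
    exact Groth.L06.NormalAscent.isIntegrallyClosed_of_faithfullyFlat R S
  · rintro ⟨_, _⟩
    haveI : Algebra.WeaklyEtale R S := Groth.L27.IndEtale.weaklyEtale R S h
    exact Groth.L20.NormalWE.isNormal R S

end Groth.L05.Henselization
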