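import Groth.Agent.L05.Henselization.UnibranchIff
import Groth.Agent.L07.ChevalleyNorm
import Groth.Agent.L20.WeaklyEtaleStalk
import Mathlib.RingTheory.IntegralClosure.IsIntegralClosure.Basic
import Mathlib.RingTheory.Unramified.LocalStructure
import Mathlib.RingTheory.Localization.Integral

/-!
# Smooth algebras over geometrically unibranch local domains
-/

set_option autoImplicit false
set_option linter.style.haveILetI false

open IsLocalRing TensorProduct

namespace Groth.L05.Henselization.Branches

universe u

/-- A local algebra weakly étale over a local ring of affine space at a point above the closed point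
of a geometrically unibranch local domain is a domain. -/
theorem isDomain_of_weaklyEtale_poly_aux {R : Type u} [CommRing R] [IsLocalRing R]
    (N : Type u) [CommRing N] [IsDomain N] [IsIntegrallyClosed N] [IsLocalRing N] [Algebra R N]
    [Algebra.IsIntegral R N] (hinj : Function.Injective (algebraMap R N))
    (hpi : ∀ x : ResidueField N, ∃ e : ℕ, x ^ (ringExpChar (ResidueField N)) ^ e ∈
      ((residue N).comp (algebraMap R N)).range)
    (n : ℕ) (q : Ideal (MvPolynomial (Fin n) R)) [q.IsPrime]
    (hq : (maximalIdeal R).map (algebraMap R (MvPolynomial (Fin n) R)) ≤ q)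
    (T : Type u) [CommRing T] [IsLocalRing T] [Algebra (Localization.AtPrime q) T]
    [IsLocalHom (algebraMap (Localization.AtPrime q) T)] [Algebra.WeaklyEtale (Localization.AtPrime q) T] :
    IsDomain T := by
  let P := MvPolynomial (Fin n) R
  let PN := MvPolynomial (Fin n) N
  letI : Algebra P PN := MvPolynomial.algebraMvPolynomial
  haveI : Algebra.IsIntegral P PN := inferInstance
  have hPN : Function.Injective (algebraMap P PN) :=
    MvPolynomial.map_injective _ hinj
  haveI : IsIntegrallyClosed PN := Groth.L07.Chevalley.isIntegrallyClosed_mvPolynomial N n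
  let Mm : Submonoid PN := Algebra.algebraMapSubmonoid PN q.primeCompl
  have hMm : Mm ≤ nonZeroDivisors PN := by
    rintro _ ⟨s, hs, rfl⟩
    exact mem_nonZeroDivisors_of_ne_zero ((map_ne_zero_iff _ hPN).mpr fun h => hs (h ▸ q.zero_mem))
  let M := Localization Mm
  let Lq := Localization.AtPrime q
  letI : Algebra Lq M := localizationAlgebra q.primeCompl PN
  haveI : IsScalarTower P Lq M :=
    IsScalarTower.of_algebraMap_eq fun x =>
      (IsLocalization.map_eq (M := q.primeCompl) (T := Mm) (Q := M)
        (show q.primeCompl ≤ Mm.comap (algebraMap P PN) from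
          fun s hs => Algebra.mem_algebraMapSubmonoid_of_mem (S := PN) ⟨s, hs⟩) x).symm
  haveI : IsDomain M := IsLocalization.isDomain_of_le_nonZeroDivisors (M := Mm) (S := M) hMm
  haveI : IsIntegrallyClosed M := isIntegrallyClosed_of_isLocalization M Mm hMm
  haveI : Algebra.IsIntegral Lq M := ⟨fun z => by
    obtain ⟨x, ⟨_, t, ht, rfl⟩, rfl⟩ := IsLocalization.exists_mk'_eq Mm z
    have hx : IsIntegral Lq (algebraMap PN M x) :=
      ((Algebra.IsIntegral.isIntegral (R := P) x).map (IsScalarTower.toAlgHom P PN M)).tower_top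
    have e : IsLocalization.mk' M x (⟨_, t, ht, rfl⟩ : Mm) =
        algebraMap Lq M (IsLocalization.mk' Lq (1 : P) (⟨t, ht⟩ : q.primeCompl)) * algebraMap PN M x := by
      rw [IsLocalization.mk'_eq_iff_eq_mul]
      have h1 : algebraMap Lq M (IsLocalization.mk' Lq (1 : P) (⟨t, ht⟩ : q.primeCompl)) *
          algebraMap PN M (algebraMap P PN t) = 1 := by
        rw [← IsScalarTower.algebraMap_apply P PN M, IsScalarTower.algebraMap_apply P Lq M,
          ← map_mul, IsLocalization.mk'_spec, map_one, map_one]
      linear_combination -(algebraMap PN M x) * h1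
    rw [e]
    exact isIntegral_algebraMap.mul hx⟩
  let q' := ringExpChar (ResidueField N)
  let J : Ideal PN := (maximalIdeal N).map (MvPolynomial.C : N →+* PN)
  haveI : ExpChar (PN ⧸ J) q' := by
    have hJ : J ≠ ⊤ := fun h => by
      have := congrArg (Ideal.map (MvPolynomial.constantCoeff : PN →+* N)) h
      rw [Ideal.map_map, Ideal.map_top, show (MvPolynomial.constantCoeff : PN →+* N).comp MvPolynomial.C =
        RingHom.id N from RingHom.ext fun a => MvPolynomial.constantCoeff_C _ a, Ideal.map_id] at this
      exact (maximalIdeal.isMaximal N).ne_top this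
    haveI : Nontrivial (PN ⧸ J) := Ideal.Quotient.nontrivial_iff.mpr hJ
    let φ : ResidueField N →+* PN ⧸ J :=
      Ideal.Quotient.lift (maximalIdeal N) ((Ideal.Quotient.mk J).comp MvPolynomial.C) fun a ha =>
        Ideal.Quotient.eq_zero_iff_mem.mpr (Ideal.mem_map_of_mem _ ha)
    exact expChar_of_injective_ringHom φ.injective q'
  have hpow : ∀ z : PN, ∃ (e : ℕ) (r : P), z ^ q' ^ e - algebraMap P PN r ∈ J := by
    intro z
    induction z using MvPolynomial.induction_on with
    | C a =>
      obtain ⟨e, b, hb⟩ := hpi (residue N a)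
      refine ⟨e, MvPolynomial.C b, ?_⟩
      rw [show algebraMap P PN (MvPolynomial.C b) = MvPolynomial.C (algebraMap R N b) from
        MvPolynomial.map_C _ b, ← map_pow, ← map_sub]
      refine Ideal.mem_map_of_mem _ ?_
      rw [← residue_eq_zero_iff, map_sub, map_pow]
      exact sub_eq_zero.mpr hb.symm
    | add x y hx hy =>
      obtain ⟨m, s, hs⟩ := hx
      obtain ⟨k, t, ht⟩ := hy
      refine ⟨m + k, s ^ q' ^ k + t ^ q' ^ m, ?_⟩
      rw [← Ideal.Quotient.eq, map_pow] at hs ht
      rw [← Ideal.Quotient.eq, map_pow, map_add, add_pow_expChar_pow, map_add, map_add, map_pow, map_pow,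
        map_pow, map_pow, ← hs, ← ht, ← pow_mul, ← pow_mul, ← pow_add, ← pow_add, add_comm k m]
    | mul_X p i hp =>
      obtain ⟨e, r, hr⟩ := hp
      refine ⟨e, r * MvPolynomial.X i ^ q' ^ e, ?_⟩
      rw [map_mul, map_pow, show algebraMap P PN (MvPolynomial.X i) = MvPolynomial.X i from
        MvPolynomial.map_X _ i, mul_pow, ← sub_mul]
      exact J.mul_mem_right _ hr
  have hover : ∀ Q : Ideal M, Q.IsMaximal → J ≤ Q.comap (algebraMap PN M) ∧
      (Q.comap (algebraMap PN M)).comap (algebraMap P PN) = q := by
    intro Q hQ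
    haveI := hQ
    have h1 : Q.comap (algebraMap Lq M) = maximalIdeal Lq :=
      eq_maximalIdeal (Ideal.isMaximal_comap_of_isIntegral_of_isMaximal Q)
    have h2 : (Q.comap (algebraMap PN M)).comap (algebraMap P PN) = q := by
      rw [Ideal.comap_comap, ← IsScalarTower.algebraMap_eq, IsScalarTower.algebraMap_eq P Lq M,
        ← Ideal.comap_comap, h1]
      exact IsLocalization.AtPrime.under_maximalIdeal Lq q
    refine ⟨?_, h2⟩
    haveI : ((Q.comap (algebraMap PN M)).comap (MvPolynomial.C : N →+* PN)).IsPrime := inferInstance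
    rw [Ideal.map_le_iff_le_comap]
    have hR' : ((Q.comap (algebraMap PN M)).comap (MvPolynomial.C : N →+* PN)).comap (algebraMap R N) =
        maximalIdeal R := by
      refine ((maximalIdeal.isMaximal R).eq_of_le (Ideal.IsPrime.ne_top inferInstance) fun r hr => ?_).symm
      show MvPolynomial.C (algebraMap R N r) ∈ Q.comap (algebraMap PN M)
      rw [show MvPolynomial.C (algebraMap R N r) = algebraMap P PN (MvPolynomial.C r) from
        (MvPolynomial.map_C _ r).symm]
      exact h2.ge (hq (Ideal.mem_map_of_mem _ hr))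
    exact (eq_maximalIdeal (Ideal.isMaximal_of_isIntegral_of_isMaximal_comap (R := R) _
      (hR'.symm ▸ maximalIdeal.isMaximal R))).ge
  haveI : IsLocalRing M := by
    obtain ⟨Q₀, hQ₀⟩ := Ideal.exists_maximal M
    refine IsLocalRing.of_unique_max_ideal ⟨Q₀, hQ₀, fun Q hQ => ?_⟩
    have key : ∀ Q : Ideal M, Q.IsMaximal → ∀ Q' : Ideal M, Q'.IsMaximal →
        Q.comap (algebraMap PN M) ≤ Q'.comap (algebraMap PN M) := by
      intro Q hQ Q' hQ' z hz
      obtain ⟨e, r, hr⟩ := hpow z
      have hq0 : q' ^ e ≠ 0 := (pow_pos (expChar_pos (ResidueField N) q') e).ne'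
      have hrQ : algebraMap P PN r ∈ Q.comap (algebraMap PN M) := by
        simpa using Ideal.sub_mem _ (Ideal.pow_mem_of_mem _ hz _ (Nat.pos_of_ne_zero hq0)) ((hover Q hQ).1 hr)
      have hrQ' : algebraMap P PN r ∈ Q'.comap (algebraMap PN M) :=
        (hover Q' hQ').2.ge ((hover Q hQ).2.le hrQ)
      haveI := hQ'
      refine Ideal.IsPrime.mem_of_pow_mem inferInstance (q' ^ e) ?_
      simpa using Ideal.add_mem _ ((hover Q' hQ').1 hr) hrQ'
    rw [← IsLocalization.map_comap Mm M Q, ← IsLocalization.map_comap Mm M Q₀]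
    exact congrArg _ (le_antisymm (key Q hQ Q₀ hQ₀) (key Q₀ hQ₀ Q hQ))
  haveI : IsLocalHom (algebraMap Lq M) := ((IsLocalRing.local_hom_TFAE _).out 0 4 rfl rfl).mpr
    (eq_maximalIdeal (Ideal.isMaximal_comap_of_isIntegral_of_isMaximal (maximalIdeal M)))
  have hresM : ∀ x : ResidueField M, ∃ e : ℕ, x ^ (ringExpChar (ResidueField M)) ^ e ∈
      ((residue M).comp (algebraMap Lq M)).range := by
    intro x
    have hJM : ∀ z ∈ J, algebraMap PN M z ∈ maximalIdeal M := fun z hz =>
      (hover (maximalIdeal M) inferInstance).1 hz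
    haveI : ExpChar (ResidueField M) q' := by
      let φ : ResidueField N →+* ResidueField M :=
        Ideal.Quotient.lift (maximalIdeal N) ((residue M).comp ((algebraMap PN M).comp MvPolynomial.C))
          fun a ha => (residue_eq_zero_iff _).mpr (hJM _ (Ideal.mem_map_of_mem _ ha))
      exact expChar_of_injective_ringHom φ.injective q'
    rw [ringExpChar.eq (ResidueField M) q']
    obtain ⟨z, rfl⟩ := residue_surjective x
    obtain ⟨x, ⟨_, t, ht, rfl⟩, rfl⟩ := IsLocalization.exists_mk'_eq Mm z
    obtain ⟨e, r, hr⟩ := hpow x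
    refine ⟨e, IsLocalization.mk' Lq r ((⟨t, ht⟩ : q.primeCompl) ^ q' ^ e), ?_⟩
    have h1 := (residue_eq_zero_iff _).mpr (hJM _ hr)
    rw [map_sub, map_pow, map_sub, map_pow, sub_eq_zero] at h1
    have hu : IsUnit (residue M (algebraMap P M t)) := by
      refine IsUnit.map _ ?_
      rw [IsScalarTower.algebraMap_apply P PN M]
      exact IsLocalization.map_units M (⟨_, t, ht, rfl⟩ : Mm)
    have e2 : algebraMap Lq M (IsLocalization.mk' Lq r ((⟨t, ht⟩ : q.primeCompl) ^ q' ^ e)) *
        algebraMap P M t ^ q' ^ e = algebraMap P M r := by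
      rw [← map_pow (algebraMap P M) t, IsScalarTower.algebraMap_apply P Lq M (t ^ q' ^ e), ← map_mul,
        ← SubmonoidClass.coe_pow (⟨t, ht⟩ : q.primeCompl), IsLocalization.mk'_spec,
        ← IsScalarTower.algebraMap_apply P Lq M]
    have e3 : IsLocalization.mk' M x (⟨_, t, ht, rfl⟩ : Mm) * algebraMap P M t = algebraMap PN M x := by
      rw [IsScalarTower.algebraMap_apply P PN M]
      exact IsLocalization.mk'_spec M x (⟨_, t, ht, rfl⟩ : Mm)
    refine (hu.pow (q' ^ e)).mul_right_cancel ?_
    show residue M (algebraMap Lq M _) * _ = _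
    rw [← map_pow (residue M) (algebraMap P M t), ← map_mul, e2, IsScalarTower.algebraMap_apply P PN M r, ← h1,
      ← e3, map_mul, mul_pow, map_pow (residue M)]
  haveI : Module.Flat Lq T := Algebra.WeaklyEtale.flat
  haveI := isLocalRing_tensor_of_pi Lq T M hresM
  refine isDomain_of_local_tensor Lq T M ((injective_iff_map_eq_zero _).mpr fun z hz => ?_)
  obtain ⟨a, s, rfl⟩ := IsLocalization.exists_mk'_eq q.primeCompl z
  have h0 : algebraMap P M a = 0 := by
    rw [IsScalarTower.algebraMap_apply P Lq M, ← IsLocalization.mk'_spec Lq a s, map_mul, hz, zero_mul]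
  rw [IsScalarTower.algebraMap_apply P PN M] at h0
  rw [hPN (((IsLocalization.injective M hMm) (h0.trans (map_zero _).symm)).trans (map_zero _).symm),
    IsLocalization.mk'_zero]

theorem isDomain_of_weaklyEtale_poly {R : Type u} [CommRing R] [IsLocalRing R] [IsDomain R]
    (hR : CAlg2.IsGeomUnibranch R) (n : ℕ) (q : Ideal (MvPolynomial (Fin n) R)) [q.IsPrime]
    (hq : (maximalIdeal R).map (algebraMap R (MvPolynomial (Fin n) R)) ≤ q)
    (T : Type u) [CommRing T] [IsLocalRing T] [Algebra (Localization.AtPrime q) T]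
    [IsLocalHom (algebraMap (Localization.AtPrime q) T)] [Algebra.WeaklyEtale (Localization.AtPrime q) T] :
    IsDomain T := by
  haveI := hR.1.1
  haveI := hR.1.2
  haveI := isIntegral_normRed (R := R)
  haveI : IsIntegrallyClosed (CAlg2.normRed R) :=
    integralClosure.isIntegrallyClosedOfFiniteExtension (FractionRing (CAlg2.red R))
      (L := FractionRing (CAlg2.red R))
  exact isDomain_of_weaklyEtale_poly_aux (CAlg2.normRed R) algebraMap_normRed_injective
    (hR.2 (maximalIdeal (CAlg2.normRed R))) n q hq T


theorem geomUnibranch_localization_of_smooth {R : Type u} [CommRing R] [IsLocalRing R] [IsDomain R]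
    (hR : CAlg2.IsGeomUnibranch R) (R' : Type u) [CommRing R'] [Algebra R R'] [Algebra.Smooth R R']
    (p : Ideal R') [p.IsPrime] (hp : (maximalIdeal R).map (algebraMap R R') ≤ p) :
    IsDomain (Localization.AtPrime p) ∧ CAlg2.IsGeomUnibranch (Localization.AtPrime p) := by
  haveI : Algebra.IsSmoothAt R p := Algebra.FormallySmooth.comp R R' _
  obtain ⟨f, hf, n, _, _, _⟩ := Algebra.IsSmoothAt.exists_isStandardEtale_mvPolynomial (R := R) (p := p)
  let P := MvPolynomial (Fin n) R
  let A := Localization.AtPrime p
  have hle : Submonoid.powers f ≤ p.primeCompl := (Submonoid.powers_le).mpr hf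
  letI : Algebra (Localization.Away f) A :=
    IsLocalization.localizationAlgebraOfSubmonoidLe _ _ (Submonoid.powers f) p.primeCompl hle
  haveI : IsScalarTower R' (Localization.Away f) A :=
    IsLocalization.localization_isScalarTower_of_submonoid_le _ _ _ _ hle
  haveI := IsLocalization.isLocalization_of_submonoid_le (Localization.Away f) A
    (Submonoid.powers f) p.primeCompl hle
  letI : Algebra P A := ((algebraMap (Localization.Away f) A).comp
    (algebraMap P (Localization.Away f))).toAlgebra
  haveI : IsScalarTower P (Localization.Away f) A := IsScalarTower.of_algebraMap_eq' rfl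
  let q : Ideal P := (maximalIdeal A).comap (algebraMap P A)
  have hq : (maximalIdeal R).map (algebraMap R P) ≤ q := by
    rw [Ideal.map_le_iff_le_comap]
    intro r hr
    show algebraMap (Localization.Away f) A (algebraMap P (Localization.Away f) (algebraMap R P r)) ∈ maximalIdeal A
    rw [← IsScalarTower.algebraMap_apply R P (Localization.Away f),
      IsScalarTower.algebraMap_apply R R' (Localization.Away f),
      ← IsScalarTower.algebraMap_apply R' (Localization.Away f) A]
    exact (IsLocalization.AtPrime.to_map_mem_maximal_iff A p _).mpr (hp (Ideal.mem_map_of_mem _ hr))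
  let Lq := Localization.AtPrime q
  have hu : ∀ t : q.primeCompl, IsUnit (algebraMap P A t.1) := fun t =>
    IsLocalRing.notMem_maximalIdeal.mp t.2
  letI : Algebra Lq A := (IsLocalization.lift (M := q.primeCompl) hu).toAlgebra
  haveI : IsScalarTower P Lq A :=
    IsScalarTower.of_algebraMap_eq fun x => (IsLocalization.lift_eq hu x).symm
  haveI : IsLocalHom (algebraMap Lq A) := by
    refine ((IsLocalRing.local_hom_TFAE _).out 0 2 rfl rfl).mpr ?_
    have hm : q.map (algebraMap P Lq) = maximalIdeal Lq := Localization.AtPrime.map_eq_maximalIdeal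
    rw [← hm, Ideal.map_map, ← IsScalarTower.algebraMap_eq, Ideal.map_le_iff_le_comap]
  haveI : Algebra.WeaklyEtale P (Localization.Away f) := inferInstance
  haveI : Algebra.WeaklyEtale Lq A :=
    Groth.L20.weaklyEtale_of_isLocalization q.primeCompl
      (p.primeCompl.map (algebraMap R' (Localization.Away f))) Lq A
  haveI hA : IsDomain A := isDomain_of_weaklyEtale_poly hR n q hq A
  refine ⟨hA, ?_⟩
  obtain ⟨T, _, _, _, _, hT⟩ := exists_isStrictHenselization A
  letI : Algebra Lq T := ((algebraMap A T).comp (algebraMap Lq A)).toAlgebra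
  haveI : IsScalarTower Lq A T := IsScalarTower.of_algebraMap_eq' rfl
  haveI : IsLocalHom (algebraMap Lq T) :=
    ⟨fun x hx => (IsLocalHom.map_nonunit (f := algebraMap Lq A) _
      (IsLocalHom.map_nonunit (f := algebraMap A T) _ hx))⟩
  haveI : Algebra.WeaklyEtale A T :=
    Groth.L27.IndEtale.weaklyEtale A T (isIndEtale_of_isStrictHenselization A T)
  haveI : Algebra.WeaklyEtale Lq T := Algebra.WeaklyEtale.trans Lq A T
  exact ((geomUnibranch_iff_isDomain_strict (R := A) (S := T)).mpr
    (isDomain_of_weaklyEtale_poly hR n q hq T)).2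

theorem isGeomUnibranch_of_strictlyHenselian (R : Type u) [CommRing R] [IsDomain R] [HenselianLocalRing R]
    [IsSepClosed (ResidueField R)] : CAlg2.IsGeomUnibranch R := by
  obtain ⟨T, _, _, _, _, hT⟩ := exists_isStrictHenselization R
  haveI : Algebra.IsSeparable (ResidueField R) (ResidueField T) := hT.isSepClosure.separable
  haveI hsc : @IsSepClosure (ResidueField R) _ (ResidueField R) _ (ResidueField.instAlgebra (R := R) (S := R)) := by
    refine @IsSepClosure.mk _ _ _ _ (ResidueField.instAlgebra (R := R) (S := R)) inferInstance (@Algebra.IsSeparable.mk _ _ _ _ (ResidueField.instAlgebra (R := R) (S := R)) fun x => ?_)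
    have hx : x = @algebraMap (ResidueField R) (ResidueField R) _ _ (ResidueField.instAlgebra (R := R) (S := R)) x := by
      obtain ⟨a, rfl⟩ := residue_surjective x
      exact (ResidueField.map_residue (algebraMap R R) a).symm
    rw [hx]
    exact @isSeparable_algebraMap (ResidueField R) _ (ResidueField R) _ (ResidueField.instAlgebra (R := R) (S := R)) x
  haveI : Hensel.IsStrictHenselization R R := by
    refine ⟨inferInstance, hsc, fun T' _ _ f _ τ hτ => ⟨f, ⟨?_, ?_⟩, ?_⟩⟩
    · exact RingHom.comp_id f
    · intro x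
      have := RingHom.congr_fun hτ (residue R x)
      rw [RingHom.comp_apply, ResidueField.map_residue, ResidueField.map_residue] at this
      exact this.symm
    · rintro g ⟨hg, -⟩
      exact RingHom.ext fun x => RingHom.congr_fun hg x
  exact ((geomUnibranch_iff_isDomain_strict (R := R) (S := R)).mpr inferInstance).2


theorem prime_map_strict_of_smooth {R : Type u} [CommRing R] [HenselianLocalRing R]
    [IsSepClosed (ResidueField R)] (R' : Type u) [CommRing R'] [Algebra R R'] [Algebra.Smooth R R']
    (p : Ideal R') [p.IsPrime] (hp : (maximalIdeal R).map (algebraMap R R') ≤ p)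
    (T : Type u) [CommRing T] [IsLocalRing T] [Algebra (Localization.AtPrime p) T]
    [IsLocalHom (algebraMap (Localization.AtPrime p) T)]
    [Hensel.IsStrictHenselization (Localization.AtPrime p) T] (Δ : R) (hΔ : Prime Δ) :
    Prime (algebraMap (Localization.AtPrime p) T
      (algebraMap R' (Localization.AtPrime p) (algebraMap R R' Δ))) := by
  let A := Localization.AtPrime p
  -- the chart
  haveI : Algebra.IsSmoothAt R p := Algebra.FormallySmooth.comp R R' _
  obtain ⟨f, hf, n, _, _, _⟩ := Algebra.IsSmoothAt.exists_isStandardEtale_mvPolynomial (R := R) (p := p)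
  let P := MvPolynomial (Fin n) R
  have hle : Submonoid.powers f ≤ p.primeCompl := (Submonoid.powers_le).mpr hf
  letI : Algebra (Localization.Away f) A :=
    IsLocalization.localizationAlgebraOfSubmonoidLe _ _ (Submonoid.powers f) p.primeCompl hle
  haveI : IsScalarTower R' (Localization.Away f) A :=
    IsLocalization.localization_isScalarTower_of_submonoid_le _ _ _ _ hle
  haveI := IsLocalization.isLocalization_of_submonoid_le (Localization.Away f) A
    (Submonoid.powers f) p.primeCompl hle
  letI : Algebra P A := ((algebraMap (Localization.Away f) A).comp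
    (algebraMap P (Localization.Away f))).toAlgebra
  haveI : IsScalarTower P (Localization.Away f) A := IsScalarTower.of_algebraMap_eq' rfl
  haveI : Algebra.WeaklyEtale P (Localization.Away f) := inferInstance
  haveI := Groth.L20.weaklyEtale_isLocalization (p.primeCompl.map (algebraMap R' (Localization.Away f))) A
  haveI : Algebra.WeaklyEtale P A := Algebra.WeaklyEtale.trans P (Localization.Away f) A
  haveI : Algebra.WeaklyEtale A T :=
    Groth.L27.IndEtale.weaklyEtale A T (isIndEtale_of_isStrictHenselization A T)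
  letI : Algebra P T := ((algebraMap A T).comp (algebraMap P A)).toAlgebra
  haveI : IsScalarTower P A T := IsScalarTower.of_algebraMap_eq' rfl
  haveI : Algebra.WeaklyEtale P T := Algebra.WeaklyEtale.trans P A T
  letI : Algebra R T := ((algebraMap P T).comp (algebraMap R P)).toAlgebra
  haveI : IsScalarTower R P T := IsScalarTower.of_algebraMap_eq' rfl
  have hRT : ∀ r : R, algebraMap R T r = algebraMap A T (algebraMap R' A (algebraMap R R' r)) := fun r => by
    show algebraMap A T (algebraMap (Localization.Away f) A (algebraMap P _ (algebraMap R P r))) = _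
    rw [← IsScalarTower.algebraMap_apply R P (Localization.Away f),
      IsScalarTower.algebraMap_apply R R' (Localization.Away f), ← IsScalarTower.algebraMap_apply R' (Localization.Away f) A]
  rw [← hRT]
  have hmem : ∀ r ∈ maximalIdeal R, algebraMap R T r ∈ maximalIdeal T := fun r hr => by
    rw [hRT, mem_maximalIdeal]
    exact fun hu => ((IsLocalization.AtPrime.to_map_mem_maximal_iff A p _).mpr
      (hp (Ideal.mem_map_of_mem _ hr))) (IsLocalHom.map_nonunit (f := algebraMap A T) _ hu)
  have hΔm : Δ ∈ maximalIdeal R := hΔ.not_unit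
  let R₀ := R ⧸ Ideal.span {Δ}
  haveI : (Ideal.span {Δ}).IsPrime := (Ideal.span_singleton_prime hΔ.ne_zero).mpr hΔ
  haveI : IsLocalRing R₀ := IsLocalRing.of_surjective' _ Ideal.Quotient.mk_surjective
  haveI : HenselianLocalRing R₀ :=
    Groth.L05.henselianLocalRing_of_integral (A := R) R₀
  haveI : IsLocalHom (algebraMap R R₀) := IsLocalHom.of_surjective _ Ideal.Quotient.mk_surjective
  haveI : Algebra.IsAlgebraic (ResidueField R) (ResidueField R₀) := by
    haveI : IsScalarTower R (ResidueField R) (ResidueField R₀) :=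
      IsScalarTower.of_algebraMap_eq fun r => (ResidueField.map_residue _ r).symm
    haveI : Algebra.IsIntegral R (ResidueField R₀) := ⟨fun z => by
      obtain ⟨a, rfl⟩ := residue_surjective z
      obtain ⟨r, rfl⟩ := Ideal.Quotient.mk_surjective a
      exact isIntegral_algebraMap (R := R) (x := r)⟩
    haveI : Algebra.IsIntegral (ResidueField R) (ResidueField R₀) := Algebra.IsIntegral.tower_top (R := R)
    infer_instance
  haveI : IsSepClosed (ResidueField R₀) :=
    Groth.L05.isSepClosed_of_algebraic (ResidueField R) (ResidueField R₀)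
  let P₀ := MvPolynomial (Fin n) R₀
  letI : Algebra P P₀ := MvPolynomial.algebraMvPolynomial
  let T₀ := P₀ ⊗[P] T
  letI : CommRing T₀ := Algebra.TensorProduct.instCommRing
  let π : T →+* T₀ := (Algebra.TensorProduct.includeRight : T →ₐ[P] T₀).toRingHom
  have hπ : Function.Surjective π := by
    intro z
    induction z using TensorProduct.induction_on with
    | zero => exact ⟨0, map_zero _⟩
    | tmul a t =>
      obtain ⟨a, rfl⟩ := MvPolynomial.map_surjective (Ideal.Quotient.mk (Ideal.span {Δ}))
        Ideal.Quotient.mk_surjective a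
      refine ⟨a • t, ?_⟩
      show (1 : P₀) ⊗ₜ[P] (a • t) = _
      rw [tmul_smul, smul_tmul', Algebra.smul_def, mul_one]
      rfl
    | add a b ha hb =>
      obtain ⟨x, rfl⟩ := ha; obtain ⟨y, rfl⟩ := hb
      exact ⟨x + y, map_add _ _ _⟩
  have hker : RingHom.ker π = Ideal.span {algebraMap R T Δ} := by
    refine le_antisymm (fun t ht => ?_) ?_
    · let J : Ideal T := Ideal.span {algebraMap R T Δ}
      let γ : R₀ →+* T ⧸ J := Ideal.Quotient.lift _ ((Ideal.Quotient.mk J).comp (algebraMap R T)) fun r hr => by
        obtain ⟨c, rfl⟩ := Ideal.mem_span_singleton'.mp hr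
        exact Ideal.Quotient.eq_zero_iff_mem.mpr (Ideal.mem_span_singleton'.mpr ⟨algebraMap R T c, (map_mul _ _ _).symm⟩)
      let g : P₀ →ₐ[P] T ⧸ J :=
        { MvPolynomial.eval₂Hom γ fun i => Ideal.Quotient.mk J (algebraMap P T (MvPolynomial.X i)) with
          commutes' := fun a => by
            show MvPolynomial.eval₂Hom γ _ (MvPolynomial.map (Ideal.Quotient.mk _) a) =
              Ideal.Quotient.mk J (algebraMap P T a)
            rw [MvPolynomial.eval₂Hom_map_hom]
            refine RingHom.congr_fun (f := MvPolynomial.eval₂Hom (γ.comp _) _)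
              (g := (Ideal.Quotient.mk J).comp (algebraMap P T)) (MvPolynomial.ringHom_ext (fun r => ?_) fun i => ?_) a
            · rw [MvPolynomial.eval₂Hom_C]
              show Ideal.Quotient.mk J (algebraMap R T r) = Ideal.Quotient.mk J (algebraMap P T (algebraMap R P r))
              rw [← IsScalarTower.algebraMap_apply]
            · rw [MvPolynomial.eval₂Hom_X']; rfl }
      let ψ : T₀ →ₐ[P] T ⧸ J := Algebra.TensorProduct.lift g (IsScalarTower.toAlgHom P T (T ⧸ J)) fun _ _ => Commute.all _ _
      have h : ψ ((1 : P₀) ⊗ₜ[P] t) = Ideal.Quotient.mk J t := by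
        refine (Algebra.TensorProduct.lift_tmul _ _ _ _ t).trans ?_
        rw [map_one, one_mul]
        rfl
      rw [show (1 : P₀) ⊗ₜ[P] t = 0 from ht, map_zero] at h
      exact Ideal.Quotient.eq_zero_iff_mem.mp h.symm
    · rw [Ideal.span_singleton_le_iff_mem, RingHom.mem_ker]
      show (1 : P₀) ⊗ₜ[P] (algebraMap R T Δ) = 0
      rw [IsScalarTower.algebraMap_apply R P T, ← Algebra.TensorProduct.tmul_one_eq_one_tmul]
      have : algebraMap P P₀ (algebraMap R P Δ) = 0 := by
        show MvPolynomial.map (Ideal.Quotient.mk _) (MvPolynomial.C Δ) = 0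
        rw [MvPolynomial.map_C, Ideal.Quotient.eq_zero_iff_mem.mpr (Ideal.mem_span_singleton_self Δ), map_zero]
      rw [this, TensorProduct.zero_tmul]
  haveI : Nontrivial T₀ := by
    refine nontrivial_of_ne 1 0 fun h => ?_
    have : (1 : T) ∈ Ideal.span {algebraMap R T Δ} := hker.le (RingHom.mem_ker.mpr ((map_one π).trans h))
    exact (maximalIdeal.isMaximal T).ne_top ((Ideal.eq_top_iff_one _).mpr
      ((Ideal.span_singleton_le_iff_mem _).mpr (hmem Δ hΔm) this))
  haveI : IsLocalRing T₀ := IsLocalRing.of_surjective' π hπ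
  haveI : IsLocalHom π := IsLocalHom.of_surjective π hπ
  let q : Ideal P₀ := (maximalIdeal T₀).comap (algebraMap P₀ T₀)
  have hq : (maximalIdeal R₀).map (algebraMap R₀ P₀) ≤ q := by
    rw [Ideal.map_le_iff_le_comap]
    intro r hr
    obtain ⟨r, rfl⟩ := Ideal.Quotient.mk_surjective r
    have hr' : r ∈ maximalIdeal R := fun hu => hr (hu.map _)
    show algebraMap P₀ T₀ (MvPolynomial.C (Ideal.Quotient.mk _ r)) ∈ maximalIdeal T₀
    rw [show MvPolynomial.C (Ideal.Quotient.mk (Ideal.span {Δ}) r) = algebraMap P P₀ (algebraMap R P r) from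
      (MvPolynomial.map_C _ r).symm, ← IsScalarTower.algebraMap_apply P P₀ T₀,
      show algebraMap P T₀ (algebraMap R P r) = π (algebraMap R T r) from
        (AlgHom.commutes (Algebra.TensorProduct.includeRight : T →ₐ[P] T₀) (algebraMap R P r)).symm.trans
          (by rw [IsScalarTower.algebraMap_apply R P T]; rfl)]
    exact map_nonunit π _ (hmem r hr')
  let Lq := Localization.AtPrime q
  have hu : ∀ t : q.primeCompl, IsUnit (algebraMap P₀ T₀ t.1) := fun t =>
    IsLocalRing.notMem_maximalIdeal.mp t.2
  letI : Algebra Lq T₀ := (IsLocalization.lift (M := q.primeCompl) hu).toAlgebra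
  haveI : IsScalarTower P₀ Lq T₀ :=
    IsScalarTower.of_algebraMap_eq fun x => (IsLocalization.lift_eq hu x).symm
  haveI : IsLocalHom (algebraMap Lq T₀) := by
    refine ((IsLocalRing.local_hom_TFAE _).out 0 2 rfl rfl).mpr ?_
    have hm : q.map (algebraMap P₀ Lq) = maximalIdeal Lq := Localization.AtPrime.map_eq_maximalIdeal
    rw [← hm, Ideal.map_map, ← IsScalarTower.algebraMap_eq, Ideal.map_le_iff_le_comap]
  haveI : IsLocalization (⊥ : Submonoid T₀) T₀ := IsLocalization.self bot_le
  haveI : Algebra.WeaklyEtale P₀ T₀ := inferInstance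
  haveI : Algebra.WeaklyEtale Lq T₀ :=
    Groth.L20.weaklyEtale_of_isLocalization q.primeCompl (⊥ : Submonoid T₀) Lq T₀
  haveI : IsDomain T₀ :=
    isDomain_of_weaklyEtale_poly (isGeomUnibranch_of_strictlyHenselian R₀) n q hq T₀
  refine (Ideal.span_singleton_prime ?_).mp (hker ▸ RingHom.ker_isPrime π)
  haveI : Module.Flat R P := inferInstance
  haveI : Module.Flat P T := Algebra.WeaklyEtale.flat
  haveI : Module.Flat R T := Module.Flat.trans R P T
  haveI : IsLocalHom (algebraMap R T) := ⟨fun r hr => by
    by_contra hnu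
    exact (mem_maximalIdeal _).mp (hmem r hnu) hr⟩
  haveI : Module.FaithfullyFlat R T := Module.FaithfullyFlat.of_flat_of_isLocalHom
  exact (map_ne_zero_iff _ (FaithfulSMul.algebraMap_injective R T)).mpr hΔ.ne_zero

end Groth.L05.Henselization.Branches
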