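import Groth.Agent.L05.Henselization.Colimit

/-!
# The étale colimit along a map to a field trivial on the maximal ideal
-/

open IsLocalRing Polynomial

namespace Groth.L05.Henselization

universe u

variable (R : Type u) [CommRing R] [IsLocalRing R] (K : Type u) [Field K]
  [Algebra (ResidueField R) K] [Algebra R K] [IsScalarTower R (ResidueField R) K]

theorem algebraMap_eq_zero_of_mem {r : R} (hr : r ∈ maximalIdeal R) : algebraMap R K r = 0 := by
  rw [IsScalarTower.algebraMap_apply R (ResidueField R) K, ResidueField.algebraMap_eq,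
    (residue_eq_zero_iff r).mpr hr, map_zero]

theorem ε_surjective_of_separable [Algebra.IsSeparable (ResidueField R) K] :
    Function.Surjective (ε R K) := by
  intro x
  set p := minpoly (ResidueField R) x
  have hpm : p.Monic := minpoly.monic (Algebra.IsSeparable.isIntegral (ResidueField R) x)
  obtain ⟨F, hF, -, hFm⟩ := Polynomial.lifts_and_natDegree_eq_and_monic
    (Polynomial.mem_lifts p |>.mpr (Polynomial.map_surjective _ residue_surjective p)) hpm
  let P : StandardEtalePair R :=
    { f := F, monic_f := hFm, g := derivative F, cond := ⟨1, 0, 1, by ring⟩ }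
  have hev : ∀ G : R[X], aeval x G = aeval x (G.map (residue R)) := fun G => by
    rw [← ResidueField.algebraMap_eq, Polynomial.aeval_map_algebraMap]
  have hmap : P.HasMap x := by
    refine ⟨?_, ?_⟩
    · show aeval x F = 0
      rw [hev, hF, minpoly.aeval]
    · show IsUnit (aeval x (derivative F))
      rw [hev, ← Polynomial.derivative_map, hF, isUnit_iff_ne_zero]
      exact (Algebra.IsSeparable.isSeparable (ResidueField R) x).aeval_derivative_ne_zero
        (minpoly.aeval _ _)
  obtain ⟨g, hg⟩ := range_ι_of_etale (K := K) (E := P.Ring) (P.lift x hmap)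
  exact ⟨g P.X, (DFunLike.congr_fun hg P.X).trans (P.lift_X x hmap)⟩

set_option backward.inferInstanceAs.wrap.data false in
theorem exists_unit_mul_mem {E : Type u} [CommRing E] [Algebra R E] [Algebra.Etale R E]
    (φ : E →ₐ[R] K) {x : E} (hx : φ x = 0) :
    ∃ t : E, IsUnit (φ t) ∧ t * x ∈ (maximalIdeal R).map (algebraMap R E) := by
  set mE := (maximalIdeal R).map (algebraMap R E)
  letI : Algebra (ResidueField R) (E ⧸ mE) := (inferInstanceAs <| Algebra (R ⧸ _) _)
  haveI : IsScalarTower R (ResidueField R) (E ⧸ mE) := (inferInstanceAs <| IsScalarTower R (R ⧸ _) _)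
  haveI : Algebra.FormallyUnramified (ResidueField R) (E ⧸ mE) := .of_restrictScalars R _ _
  haveI : Algebra.EssFiniteType (ResidueField R) (E ⧸ mE) := .of_comp R _ _
  haveI : Module.Finite (ResidueField R) (E ⧸ mE) := Algebra.FormallyUnramified.finite_of_free _ _
  haveI : IsReduced (E ⧸ mE) :=
    Algebra.FormallyUnramified.isReduced_of_field (ResidueField R) (E ⧸ mE)
  haveI : IsArtinianRing (E ⧸ mE) := isArtinian_of_tower (ResidueField R) inferInstance
  haveI : IsSemisimpleRing (E ⧸ mE) := IsArtinianRing.isSemisimpleRing_of_isReduced _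
  obtain ⟨J, hJ⟩ := exists_isCompl (Ideal.span {Ideal.Quotient.mk mE x})
  obtain ⟨y, hy, z, hz, hyz⟩ := Submodule.mem_sup.mp
    (show (1 : E ⧸ mE) ∈ Ideal.span {Ideal.Quotient.mk mE x} ⊔ J by rw [hJ.sup_eq_top]; trivial)
  obtain ⟨t, rfl⟩ := Ideal.Quotient.mk_surjective z
  obtain ⟨c, rfl⟩ := Ideal.mem_span_singleton'.mp hy
  obtain ⟨c, rfl⟩ := Ideal.Quotient.mk_surjective c
  refine ⟨t, ?_, ?_⟩
  · rw [← map_mul, ← map_add, ← map_one (Ideal.Quotient.mk mE), Ideal.Quotient.eq] at hyz
    have hle : mE ≤ RingHom.ker φ := Ideal.map_le_iff_le_comap.mpr fun r hr => by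
      rw [Ideal.mem_comap, RingHom.mem_ker, AlgHom.commutes]
      exact algebraMap_eq_zero_of_mem R K hr
    have := hle hyz
    rw [RingHom.mem_ker, map_sub, map_add, map_mul, hx, mul_zero, zero_add, map_one, sub_eq_zero] at this
    rw [this]
    exact isUnit_one
  · rw [← Ideal.Quotient.eq_zero_iff_mem, map_mul]
    exact (Submodule.disjoint_def.mp hJ.disjoint) _
      (Ideal.mul_mem_left _ _ (Ideal.mem_span_singleton_self _)) (Ideal.mul_mem_right _ _ hz)

theorem ker_ε_field : RingHom.ker (ε R K) = (maximalIdeal R).map (algebraMap R (Col R K)) := by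
  refine le_antisymm (ker_ε_le fun X x hx => exists_unit_mul_mem R K X.φ hx)
    (Ideal.map_le_iff_le_comap.mpr fun r hr => ?_)
  rw [Ideal.mem_comap, RingHom.mem_ker, AlgHom.commutes]
  exact algebraMap_eq_zero_of_mem R K hr

end Groth.L05.Henselization
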