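import Groth.Agent.L05.Henselization.UnibranchIff
import Groth.Agent.L20.WeaklyEtaleStalk
import Groth.Agent.L27.IndEtale
import Groth.Agent.L23.QFDescent
import Mathlib.AlgebraicGeometry.Morphisms.Etale
import Mathlib.AlgebraicGeometry.AffineScheme
import Mathlib.AlgebraicGeometry.Morphisms.QuasiFinite
import Mathlib.AlgebraicGeometry.Morphisms.UniversallyOpen

set_option autoImplicit false
universe u

open CategoryTheory AlgebraicGeometry IsLocalRing TensorProduct
open Groth.L05.Henselization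

namespace Groth.L05.Henselization.Branches

theorem isDomain_geomUnibranch_of_weaklyEtale (A B : Type u) [CommRing A] [IsLocalRing A] [IsReduced A]
    [CommRing B] [IsLocalRing B] [Algebra A B] [IsLocalHom (algebraMap A B)] [Algebra.WeaklyEtale A B]
    (hA : CAlg2.IsGeomUnibranch A) : IsDomain B ∧ CAlg2.IsGeomUnibranch B := by
  haveI : Module.Flat A B := Algebra.WeaklyEtale.flat
  haveI := isIntegral_normRed (R := A)
  haveI hB : IsDomain B := isDomain_of_unibranch hA.1 fun _ =>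
    isLocalRing_tensor_of_pi A B (CAlg2.normRed A) (hA.2 (maximalIdeal (CAlg2.normRed A)))
  refine ⟨hB, ?_⟩
  obtain ⟨T, _, _, _, _, hT⟩ := exists_isStrictHenselization B
  haveI : Algebra.WeaklyEtale B T :=
    Groth.L27.IndEtale.weaklyEtale B T (isIndEtale_of_isStrictHenselization B T)
  letI : Algebra A T := ((algebraMap B T).comp (algebraMap A B)).toAlgebra
  haveI : IsScalarTower A B T := IsScalarTower.of_algebraMap_eq' rfl
  haveI : IsLocalHom (algebraMap A T) :=
    ⟨fun x hx => (IsLocalHom.map_nonunit (f := algebraMap A B) _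
      (IsLocalHom.map_nonunit (f := algebraMap B T) _ hx))⟩
  haveI : Algebra.WeaklyEtale A T := Algebra.WeaklyEtale.trans A B T
  haveI : Module.Flat A T := Algebra.WeaklyEtale.flat
  exact ((geomUnibranch_iff_isDomain_strict (R := B) (S := T)).mpr
    (isDomain_of_unibranch hA.1 fun _ =>
      isLocalRing_tensor_of_pi A T (CAlg2.normRed A) (hA.2 (maximalIdeal (CAlg2.normRed A))))).2

theorem isPrime_nilradical_of_tensor (A B N : Type u) [CommRing A] [IsLocalRing A] [CommRing B] [IsLocalRing B]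
    [Algebra A B] [IsLocalHom (algebraMap A B)] [Algebra.WeaklyEtale A B] [CommRing N] [IsDomain N]
    [IsIntegrallyClosed N] [IsLocalRing N] [Algebra A N] [Algebra.IsIntegral A N]
    (j : (A ⧸ nilradical A) →ₐ[A] N) (hj : Function.Injective j)
    (hpi : ∀ x : N ⧸ maximalIdeal N, ∃ n : ℕ, x ^ (ringExpChar (N ⧸ maximalIdeal N)) ^ n ∈
      ((Ideal.Quotient.mk (maximalIdeal N)).comp (algebraMap A N)).range) :
    (nilradical B).IsPrime := by
  haveI : Module.Flat A B := Algebra.WeaklyEtale.flat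
  haveI := isLocalRing_tensor_of_pi A B N hpi
  haveI : IsLocalHom (algebraMap N (N ⊗[A] B)) :=
    ((IsLocalRing.local_hom_TFAE _).out 0 4 rfl rfl).mpr
      (eq_maximalIdeal (comap_maximal A B N (maximalIdeal (N ⊗[A] B))).2)
  haveI := (Groth.L20.NormalWE.isNormal N (N ⊗[A] B)).1
  let φ : B →ₐ[A] N ⊗[A] B := Algebra.TensorProduct.includeRight
  haveI hP : (RingHom.ker φ.toRingHom).IsPrime := RingHom.ker_isPrime _
  suffices h : nilradical B = RingHom.ker φ.toRingHom by rwa [h]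
  refine le_antisymm (nilradical_le_prime _) fun x hx => ?_
  have hx' : φ x = 0 := hx
  have h := Module.Flat.rTensor_preserves_injective_linearMap (M := B) j.toLinearMap hj
  have h0 : (1 : A ⧸ nilradical A) ⊗ₜ[A] x = 0 := h (by
    rw [map_zero, LinearMap.rTensor_tmul]
    show (j 1) ⊗ₜ[A] x = 0
    rw [map_one]; exact hx')
  have h1 : x ⊗ₜ[A] (1 : A ⧸ nilradical A) = 0 := by
    simpa using congrArg (Algebra.TensorProduct.comm A (A ⧸ nilradical A) B) h0
  have h2 : (Ideal.Quotient.mk ((nilradical A).map (algebraMap A B)) x) = 0 :=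
    (Algebra.TensorProduct.quotIdealMapEquivTensorQuot B (nilradical A)).injective (by simpa using h1)
  have h3 : (nilradical A).map (algebraMap A B) ≤ nilradical B := by
    rw [Ideal.map_le_iff_le_comap]
    exact fun a ha => IsNilpotent.map ha (algebraMap A B)
  exact h3 (Ideal.Quotient.eq_zero_iff_mem.mp h2)

theorem isPrime_nilradical_of_weaklyEtale (A B : Type u) [CommRing A] [IsLocalRing A]
    [CommRing B] [IsLocalRing B] [Algebra A B] [IsLocalHom (algebraMap A B)] [Algebra.WeaklyEtale A B]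
    (hA : CAlg2.IsGeomUnibranch A) : (nilradical B).IsPrime := by
  haveI : Module.Flat A B := Algebra.WeaklyEtale.flat
  haveI := hA.1.1
  haveI := hA.1.2
  haveI := isIntegral_normRed (R := A)
  haveI : IsIntegrallyClosed (CAlg2.normRed A) :=
    integralClosure.isIntegrallyClosedOfFiniteExtension (FractionRing (CAlg2.red A))
      (L := FractionRing (CAlg2.red A))
  exact isPrime_nilradical_of_tensor A B (CAlg2.normRed A)
    (IsScalarTower.toAlgHom A (CAlg2.red A) (CAlg2.normRed A))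
    (fun a b h => IsFractionRing.injective (CAlg2.red A) (FractionRing (CAlg2.red A)) (congrArg Subtype.val h))
    (hA.2 (maximalIdeal (CAlg2.normRed A)))

theorem weaklyEtale_stalkMap {X Y : Scheme.{u}} (f : X ⟶ Y) (U : X.Opens) (x : X) (hx : x ∈ U)
    [Etale (U.ι ≫ f)] :
    letI := (f.stalkMap x).hom.toAlgebra
    Algebra.WeaklyEtale (Y.presheaf.stalk (f.base x)) (X.presheaf.stalk x) := by
  obtain ⟨V, hV, hyV, -⟩ := exists_isAffineOpen_mem_and_subset (X := Y) (U := ⊤) (x := f.base x) trivial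
  obtain ⟨W, hW, hxW, hWU⟩ := exists_isAffineOpen_mem_and_subset (X := X) (U := U ⊓ f ⁻¹ᵁ V) (x := x) ⟨hx, hyV⟩
  have hWU' : W ≤ U := fun z hz => (hWU hz).1
  have hWV : W ≤ f ⁻¹ᵁ V := fun z hz => (hWU hz).2
  let φ := f.appLE V W hWV
  have hφ : φ.hom.Etale := by
    let W' := U.ι ⁻¹ᵁ W
    have hle : W ≤ U.ι.opensRange := by rw [Scheme.Opens.opensRange_ι]; exact hWU'
    have hW' : IsAffineOpen W' := hW.preimage_of_isOpenImmersion U.ι hle
    have e : W' ≤ (U.ι ≫ f) ⁻¹ᵁ V := fun z hz => hWV hz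
    have h := Etale.etale_appLE (U.ι ≫ f) hV hW' e
    have h2 : (U.ι ≫ f).appLE V W' e = φ ≫ U.ι.appLE W W' le_rfl :=
      (Scheme.Hom.appLE_comp_appLE U.ι f V W W' hWV le_rfl).symm
    haveI : IsIso (U.ι.appLE W W' le_rfl) := by
      rw [← Scheme.Hom.app_eq_appLE]; exact Scheme.Hom.isIso_app _ _ hle
    rw [h2, CommRingCat.hom_comp] at h
    exact (RingHom.Etale.respectsIso.cancel_right_isIso φ (U.ι.appLE W W' le_rfl)).mp h
  letI := (f.stalkMap x).hom.toAlgebra
  letI := Y.presheaf.algebra_section_stalk ⟨f.base x, hyV⟩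
  letI := X.presheaf.algebra_section_stalk ⟨x, hxW⟩
  haveI := hV.isLocalization_stalk ⟨f.base x, hyV⟩
  haveI := hW.isLocalization_stalk ⟨x, hxW⟩
  letI : Algebra Γ(Y, V) Γ(X, W) := φ.hom.toAlgebra
  haveI : Algebra.Etale Γ(Y, V) Γ(X, W) := hφ
  letI : Algebra Γ(Y, V) (X.presheaf.stalk x) :=
    ((algebraMap Γ(X, W) (X.presheaf.stalk x)).comp (algebraMap Γ(Y, V) Γ(X, W))).toAlgebra
  haveI : IsScalarTower Γ(Y, V) Γ(X, W) (X.presheaf.stalk x) := IsScalarTower.of_algebraMap_eq' rfl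
  haveI : IsScalarTower Γ(Y, V) (Y.presheaf.stalk (f.base x)) (X.presheaf.stalk x) :=
    IsScalarTower.of_algebraMap_eq fun a => by
      show (X.presheaf.germ W x hxW).hom ((f.appLE V W hWV).hom a) =
        (f.stalkMap x).hom ((Y.presheaf.germ V (f.base x) hyV).hom a)
      rw [Scheme.Hom.germ_stalkMap_apply, Scheme.Hom.appLE]
      simp [TopCat.Presheaf.germ_res_apply]
  exact Groth.L20.weaklyEtale_of_isLocalization (hV.primeIdealOf ⟨f.base x, hyV⟩).asIdeal.primeCompl
    (hW.primeIdealOf ⟨x, hxW⟩).asIdeal.primeCompl _ _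

theorem isDomain_geomUnibranch_stalk {X Y : Scheme.{u}} (f : X ⟶ Y) (U : X.Opens) (x : X) (hx : x ∈ U)
    [Etale (U.ι ≫ f)] [IsDomain (Y.presheaf.stalk (f.base x))]
    (hY : CAlg2.IsGeomUnibranch (Y.presheaf.stalk (f.base x))) :
    IsDomain (X.presheaf.stalk x) ∧ CAlg2.IsGeomUnibranch (X.presheaf.stalk x) := by
  letI := (f.stalkMap x).hom.toAlgebra
  haveI := weaklyEtale_stalkMap f U x hx
  haveI : IsLocalHom (algebraMap (Y.presheaf.stalk (f.base x)) (X.presheaf.stalk x)) :=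
    inferInstanceAs (IsLocalHom (f.stalkMap x).hom)
  exact isDomain_geomUnibranch_of_weaklyEtale _ _ hY

theorem isPrime_nilradical_stalk {X Y : Scheme.{u}} (f : X ⟶ Y) [Etale f] (x : X)
    (hY : CAlg2.IsGeomUnibranch (Y.presheaf.stalk (f.base x))) : (nilradical (X.presheaf.stalk x)).IsPrime := by
  letI := (f.stalkMap x).hom.toAlgebra
  haveI := weaklyEtale_stalkMap f ⊤ x trivial
  haveI : IsLocalHom (algebraMap (Y.presheaf.stalk (f.base x)) (X.presheaf.stalk x)) :=
    inferInstanceAs (IsLocalHom (f.stalkMap x).hom)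
  exact isPrime_nilradical_of_weaklyEtale _ _ hY

theorem eq_of_maximal_of_specializes {X : Scheme.{u}} {x ξ₁ ξ₂ : X}
    (hn : (nilradical (X.presheaf.stalk x)).IsPrime) (h₁ : ξ₁ ⤳ x) (h₂ : ξ₂ ⤳ x)
    (m₁ : ∀ y, y ⤳ ξ₁ → y = ξ₁) (m₂ : ∀ y, y ⤳ ξ₂ → y = ξ₂) : ξ₁ = ξ₂ := by
  let n : Spec (X.presheaf.stalk x) := ⟨nilradical _, hn⟩
  have key : ∀ ξ, ξ ⤳ x → (∀ y, y ⤳ ξ → y = ξ) → (X.fromSpecStalk x).base n = ξ := by
    intro ξ h m
    obtain ⟨p, rfl⟩ : ξ ∈ Set.range (X.fromSpecStalk x).base := by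
      rw [Scheme.range_fromSpecStalk]; exact h
    refine m _ (Specializes.map ?_ (X.fromSpecStalk x).continuous)
    exact (PrimeSpectrum.le_iff_specializes n p).mp (nilradical_le_prime p.asIdeal)
  rw [← key ξ₁ h₁ m₁, key ξ₂ h₂ m₂]

theorem irreducibleComponents_of_etale {X Y : Scheme.{u}} (f : X ⟶ Y) [Etale f]
    [IrreducibleSpace Y] (hY : ∀ y : Y, CAlg2.IsGeomUnibranch (Y.presheaf.stalk y)) :
    (∀ x : X, ∃! Z, Z ∈ irreducibleComponents ↥X ∧ x ∈ Z) ∧
    (∀ Z ∈ irreducibleComponents ↥X, IsOpen Z ∧ ∃! x : X, x ∈ Z ∧ f.base x = genericPoint Y) := by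
  let η := genericPoint Y
  have hfib : ∀ a b : X, f.base a = η → f.base b = η → a ⤳ b → a = b := by
    intro a b ha hb hab
    haveI : DiscreteTopology (f.base ⁻¹' {η} : Set X) := (f.isDiscrete_preimage_singleton η).1
    have h' : (⟨a, ha⟩ : (f.base ⁻¹' {η} : Set X)) ⤳ ⟨b, hb⟩ := Topology.IsInducing.subtypeVal.specializes_iff.mp hab
    exact congrArg Subtype.val (specializes_iff_eq.mp h')
  have hmax : ∀ a : X, f.base a = η → ∀ y, y ⤳ a → y = a := by
    intro a ha y hy
    refine hfib y a ?_ ha hy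
    have h1 : f.base y ⤳ η := ha ▸ hy.map f.continuous
    exact (Inseparable.eq ((h1.antisymm (genericPoint_specializes _))))
  have hgen : ∀ x : X, ∃ a, f.base a = η ∧ a ⤳ x := fun x => by
    obtain ⟨a, h1, h2⟩ := Flat.generalizingMap f (genericPoint_specializes (f.base x))
    exact ⟨a, h2, h1⟩
  have huniq : ∀ x a b : X, f.base a = η → f.base b = η → a ⤳ x → b ⤳ x → a = b :=
    fun x a b ha hb hax hbx => eq_of_maximal_of_specializes (isPrime_nilradical_stalk f x (hY _))
      hax hbx (hmax a ha) (hmax b hb)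
  have hcomp : ∀ Z ∈ irreducibleComponents ↥X, ∃ a, f.base a = η ∧ Z = closure {a} := by
    intro Z hZ
    have hg := hZ.1.isGenericPoint_genericPoint (isClosed_of_mem_irreducibleComponents Z hZ)
    obtain ⟨a, ha, h⟩ := hgen hZ.1.genericPoint
    refine ⟨a, ha, le_antisymm ?_ (hZ.2 isIrreducible_singleton.closure ?_)⟩
    all_goals
      rw [← hg.def]
      exact closure_minimal (Set.singleton_subset_iff.mpr h.mem_closure) isClosed_closure
  have hmem : ∀ a, f.base a = η → closure {a} ∈ irreducibleComponents ↥X := by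
    intro a ha
    obtain ⟨Z, hZ, hsub⟩ := exists_mem_irreducibleComponents_subset_of_isIrreducible _
      (isIrreducible_singleton (x := a)).closure
    obtain ⟨b, hb, rfl⟩ := hcomp Z hZ
    obtain rfl : b = a := hmax a ha b (specializes_iff_mem_closure.mpr (hsub (subset_closure rfl)))
    exact hZ
  constructor
  · intro x
    obtain ⟨a, ha, hax⟩ := hgen x
    refine ⟨closure {a}, ⟨hmem a ha, hax.mem_closure⟩, ?_⟩
    rintro Z ⟨hZ, hxZ⟩
    obtain ⟨b, hb, rfl⟩ := hcomp Z hZ
    rw [huniq x a b ha hb hax (specializes_iff_mem_closure.mpr hxZ)]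
  · intro Z hZ
    obtain ⟨a, ha, rfl⟩ := hcomp Z hZ
    refine ⟨?_, a, ⟨subset_closure rfl, ha⟩, fun b ⟨hb, hb'⟩ =>
      (hfib a b ha hb' (specializes_iff_mem_closure.mpr hb)).symm⟩
    rw [isOpen_iff_forall_mem_open]
    intro x hx
    obtain ⟨V, hV, hxV, -⟩ := exists_isAffineOpen_mem_and_subset (X := Y) (U := ⊤) (x := f.base x) trivial
    obtain ⟨W, hW, hxW, hWV⟩ := exists_isAffineOpen_mem_and_subset (X := X) (U := f ⁻¹ᵁ V) (x := x) hxV
    haveI : IsAffine (W : Scheme.{u}) := hW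
    haveI : IsAffine (V : Scheme.{u}) := hV
    have hηV : η ∈ V := (genericPoint_specializes (f.base x)).mem_open V.isOpen hxV
    let g := f.resLE V W hWV
    have hgw : ∀ w : (W : Scheme.{u}), (g.base w).1 = f.base w.1 := fun w => by
      have h := congrArg (fun φ => φ.base w) (Scheme.Hom.resLE_comp_ι f hWV)
      exact h
    let S : Set X := Subtype.val '' (g.base ⁻¹' {⟨η, hηV⟩} : Set (W : Scheme.{u}))
    have hS : S.Finite := (g.finite_preimage_singleton _).image _
    let F : Set X := ⋃ b ∈ S \ {a}, closure {b}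
    have hF : IsClosed F := (hS.subset Set.sdiff_subset).isClosed_biUnion fun b _ => isClosed_closure
    have hSη : ∀ b ∈ S, f.base b = η := by
      rintro _ ⟨w, hw, rfl⟩
      have h := congrArg Subtype.val (Set.mem_singleton_iff.mp hw)
      exact (hgw w).symm.trans h
    refine ⟨(W : Set X) ∩ Fᶜ, ?_, W.isOpen.inter hF.isOpen_compl, hxW, ?_⟩
    · rintro z ⟨hzW, hzF⟩
      obtain ⟨b, hb, hbz⟩ := hgen z
      by_cases hba : b = a
      · exact hba ▸ hbz.mem_closure
      have hbS : b ∈ S \ {a} := ⟨⟨⟨b, hbz.mem_open W.isOpen hzW⟩, Set.mem_singleton_iff.mpr (Subtype.ext ((hgw _).trans hb)), rfl⟩, hba⟩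
      exact absurd (Set.mem_biUnion hbS hbz.mem_closure) hzF
    · intro hxF
      obtain ⟨b, ⟨hbS, hba⟩, hbx⟩ := Set.mem_iUnion₂.mp hxF
      exact hba (huniq x b a (hSη b hbS) ha (specializes_iff_mem_closure.mpr hbx) (specializes_iff_mem_closure.mpr hx))

end Groth.L05.Henselization.Branches
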