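import Groth.Agent.L05.Henselization.StrictUniq
import Groth.Agent.L20.NormalWE
import Groth.Agent.L27.IndEtale
import Groth.Agent.L05.WE.Field
import Mathlib.RingTheory.Valuation.ValuationRing

/-!
# Local ind-étale algebras over valuation rings
-/

set_option autoImplicit false
set_option linter.style.haveILetI false

open IsLocalRing TensorProduct Polynomial

namespace Groth.L05.Henselization.ValuationExt

universe u

/-- A root of a polynomial with a unit coefficient over an integrally closed local domain lies in the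
ring, or its inverse does. -/
theorem mem_or_inv_mem {S L : Type u} [CommRing S] [IsLocalRing S] [IsDomain S] [IsIntegrallyClosed S]
    [Field L] [Algebra S L] [IsFractionRing S L] (x : L) :
    ∀ (n : ℕ) (f : S[X]), f.natDegree ≤ n → aeval x f = 0 → (∃ i, IsUnit (f.coeff i)) →
      (∃ s, algebraMap S L s = x) ∨ ∃ s, algebraMap S L s = x⁻¹ := by
  intro n
  induction n with
  | zero =>
    intro f hf h0 hu
    obtain ⟨i, hi⟩ := hu
    rw [eq_C_of_natDegree_le_zero hf, aeval_C] at h0
    rw [eq_C_of_natDegree_le_zero hf, (map_eq_zero_iff _ (IsFractionRing.injective S L)).mp h0,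
      map_zero, coeff_zero] at hi
    exact absurd hi not_isUnit_zero
  | succ n ih =>
    intro f hf h0 hu
    obtain ⟨i, hi⟩ := hu
    rcases (lt_or_eq_of_le hf) with hlt | hdeg
    · exact ih f (Nat.lt_succ_iff.mp hlt) h0 ⟨i, hi⟩
    have hile : i ≤ n + 1 := hdeg ▸ le_natDegree_of_ne_zero hi.ne_zero
    have hlead : f.leadingCoeff = f.coeff (n + 1) := by rw [leadingCoeff, hdeg]
    obtain ⟨b, hb⟩ := IsIntegrallyClosed.isIntegral_iff.mp (isIntegral_leadingCoeff_smul f x h0)
    rw [Algebra.smul_def, hlead] at hb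
    by_cases ha : IsUnit (f.coeff (n + 1))
    · refine Or.inl ⟨↑ha.unit⁻¹ * b, ?_⟩
      rw [map_mul, hb, ← mul_assoc, ← map_mul, IsUnit.val_inv_mul, map_one, one_mul]
    let g : S[X] := (f - C (f.coeff (n + 1)) * X ^ (n + 1)) + C b * X ^ n
    have hg0 : aeval x g = 0 := by
      simp only [g, map_add, map_sub, map_mul, map_pow, aeval_C, aeval_X, h0, hb]
      ring
    have hgc : ∀ j, g.coeff j =
        (if j = n + 1 then 0 else f.coeff j) + if j = n then b else 0 := fun j => by
      simp only [g, coeff_add, coeff_sub, coeff_C_mul, coeff_X_pow, mul_ite, mul_one, mul_zero]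
      split_ifs with h1 <;> simp [h1]
    have hgd : g.natDegree ≤ n := natDegree_le_iff_coeff_eq_zero.mpr fun m hm => by
      rw [hgc, if_neg hm.ne', add_zero]
      rcases eq_or_ne m (n + 1) with rfl | hm'
      · exact if_pos rfl
      · rw [if_neg hm']
        exact coeff_eq_zero_of_natDegree_lt (by omega)
    by_cases hin : i = n
    · subst hin
      by_cases hu' : IsUnit (f.coeff i + b)
      · exact ih g hgd hg0 ⟨i, by rw [hgc, if_neg (by omega), if_pos rfl]; exact hu'⟩
      · have hbu : IsUnit b := by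
          by_contra hb'
          exact (mem_maximalIdeal _).mp (show f.coeff i ∈ maximalIdeal S by
            simpa using (maximalIdeal S).sub_mem ((mem_maximalIdeal _).mpr hu') ((mem_maximalIdeal _).mpr hb')) hi
        refine Or.inr ⟨f.coeff (i + 1) * ↑hbu.unit⁻¹, ?_⟩
        have hb0 : algebraMap S L b ≠ 0 := (hbu.map _).ne_zero
        have ha0 : algebraMap S L (f.coeff (i + 1)) ≠ 0 := fun h => hb0 (by rw [hb, h, zero_mul])
        have hx : x ≠ 0 := fun h => hb0 (by rw [hb, h, mul_zero])
        rw [map_mul, map_units_inv, IsUnit.unit_spec, hb]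
        field_simp
    · have hin' : i ≠ n + 1 := fun h => ha (h ▸ hi)
      exact ih g hgd hg0 ⟨i, by rw [hgc, if_neg hin', if_neg hin, add_zero]; exact hi⟩


theorem exists_dvd_all {A : Type u} [CommRing A] [IsDomain A] [ValuationRing A] {ι : Type*} (s : Finset ι)
    (hs : s.Nonempty) (a : ι → A) : ∃ i ∈ s, ∀ j ∈ s, a i ∣ a j := by
  classical
  induction hs using Finset.Nonempty.cons_induction with
  | singleton i => exact ⟨i, Finset.mem_singleton_self i, fun j hj => by rw [Finset.mem_singleton.mp hj]⟩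
  | cons i t hit _ ih =>
    obtain ⟨k, hk, hkd⟩ := ih
    rcases ValuationRing.dvd_total (a i) (a k) with h | h
    · refine ⟨i, Finset.mem_cons_self _ _, fun j hj => ?_⟩
      rcases Finset.mem_cons.mp hj with rfl | hj
      · exact dvd_rfl
      · exact h.trans (hkd j hj)
    · refine ⟨k, Finset.mem_cons.mpr (Or.inr hk), fun j hj => ?_⟩
      rcases Finset.mem_cons.mp hj with rfl | hj
      · exact h
      · exact hkd j hj

theorem main (A S : Type u) [CommRing A] [IsDomain A] [ValuationRing A] [CommRing S] [IsLocalRing S]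
    [Algebra A S] [IsLocalHom (algebraMap A S)] (hie : EtPBC.IsIndEtale A S) [Module.Flat A S] :
    IsDomain S ∧ (∀ _ : IsDomain S, ValuationRing S) ∧ Function.Injective (algebraMap A S) ∧
      ∀ s : S, s ≠ 0 → ∃ (a : A) (u : Sˣ), s = u * algebraMap A S a := by
  classical
  haveI : Module.FaithfullyFlat A S := Module.FaithfullyFlat.of_flat_of_isLocalHom
  haveI : Algebra.WeaklyEtale A S := Groth.L27.IndEtale.weaklyEtale A S hie
  obtain ⟨hdom, hic⟩ := Groth.L20.NormalWE.isNormal A S
  haveI := hdom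
  haveI := hic
  have hinj : Function.Injective (algebraMap A S) := FaithfulSMul.algebraMap_injective A S
  let K := FractionRing A
  let L := FractionRing S
  have hSL : Function.Injective (algebraMap S L) := IsFractionRing.injective S L
  haveI : FaithfulSMul A L := (faithfulSMul_iff_algebraMap_injective A L).mpr (by
    rw [IsScalarTower.algebraMap_eq A S L]
    exact hSL.comp hinj)
  letI : Algebra K L := (IsFractionRing.lift (FaithfulSMul.algebraMap_injective A L)).toAlgebra
  haveI : IsScalarTower A K L := IsScalarTower.of_algebraMap_eq fun a =>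
    (IsFractionRing.lift_algebraMap (FaithfulSMul.algebraMap_injective A L) a).symm
  let f : K ⊗[A] S →ₐ[K] L :=
    Algebra.TensorProduct.lift (Algebra.ofId _ _) (IsScalarTower.toAlgHom A S L) fun _ _ => Commute.all _ _
  have hS' : ∀ s : S, IsIntegral K (algebraMap S L s) := fun s => by
    have := ((Groth.L05.WE.isSepRoot (K := K) (B := K ⊗[A] S) (1 ⊗ₜ s)).map f).isIntegral
    simpa [f] using this
  have hpoly : ∀ x : L, IsIntegral K x →
      ∃ p : A[X], aeval x p = 0 ∧ ∃ i, p.coeff i = 1 := fun x hx => by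
    obtain ⟨p, hp0, hp⟩ := (IsFractionRing.isAlgebraic_iff A K L).mpr hx.isAlgebraic
    obtain ⟨i, hi, hdvd⟩ := exists_dvd_all p.support (support_nonempty.mpr hp0) p.coeff
    have hi0 : p.coeff i ≠ 0 := mem_support_iff.mp hi
    have hall : ∀ j, p.coeff i ∣ p.coeff j := fun j => by
      by_cases hj : j ∈ p.support
      · exact hdvd j hj
      · rw [notMem_support_iff.mp hj]; exact dvd_zero _
    obtain ⟨p', hp'⟩ := (C_dvd_iff_dvd_coeff (p.coeff i) p).mpr hall
    refine ⟨p', ?_, i, ?_⟩
    · rw [hp', map_mul, aeval_C] at hp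
      exact (mul_eq_zero.mp hp).resolve_left
        ((map_ne_zero_iff _ (FaithfulSMul.algebraMap_injective A L)).mpr hi0)
    · have := congrArg (fun q => q.coeff i) hp'
      simp only [coeff_C_mul] at this
      exact mul_left_cancel₀ hi0 (this.symm.trans (mul_one _).symm)
  haveI hval : ValuationRing S := by
    refine (ValuationRing.iff_isInteger_or_isInteger S L).mpr fun x => ?_
    obtain ⟨a, b, -, rfl⟩ := IsFractionRing.div_surjective (A := S) x
    obtain ⟨p, hp, i, hi⟩ := hpoly (algebraMap S L a / algebraMap S L b) (by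
      rw [div_eq_mul_inv]; exact (hS' a).mul (hS' b).inv)
    exact mem_or_inv_mem _ (p.map (algebraMap A S)).natDegree (p.map (algebraMap A S)) le_rfl
      (by rw [aeval_map_algebraMap, hp]) ⟨i, by rw [coeff_map, hi, map_one]; exact isUnit_one⟩
  refine ⟨hdom, fun _ => hval, hinj, fun s hs => ?_⟩
  by_cases hsu : IsUnit s
  · exact ⟨1, hsu.unit, by simp⟩
  -- some power of `s` is a unit times an element of `A`
  obtain ⟨n, hn0, a, ha0, v, hv⟩ : ∃ n : ℕ, n ≠ 0 ∧ ∃ a : A, a ≠ 0 ∧ ∃ v : Sˣ, s ^ n = v * algebraMap A S a := by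
    obtain ⟨p, hp, i0, hi0⟩ := hpoly (algebraMap S L s) (hS' s)
    have hp' : aeval s p = 0 := hSL (by rw [← aeval_algebraMap_apply, hp, map_zero])
    let t : ℕ → S := fun j => algebraMap A S (p.coeff j) * s ^ j
    have hp1 : p ≠ 0 := fun h => by simp [h] at hi0
    obtain ⟨i, hi, hdvd⟩ := exists_dvd_all p.support (support_nonempty.mpr hp1) t
    have hci : ∀ j ∈ p.support, algebraMap A S (p.coeff j) ≠ 0 := fun j hj =>
      (map_ne_zero_iff _ hinj).mpr (mem_support_iff.mp hj)
    have hti : ∀ j ∈ p.support, t j ≠ 0 := fun j hj => mul_ne_zero (hci j hj) (pow_ne_zero _ hs)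
    obtain ⟨j, hj, hji, e, he⟩ : ∃ j ∈ p.support, j ≠ i ∧ ∃ e : Sˣ, t j = e * t i := by
      by_contra hcon
      push Not at hcon
      choose q hq using fun j (hj : j ∈ p.support) => hdvd j hj
      have hqm : ∀ (j : ℕ) (hj : j ∈ p.support), j ≠ i → q j hj ∈ maximalIdeal S := fun j hj hji => by
        rw [mem_maximalIdeal, mem_nonunits_iff]
        exact fun hu => hcon j hj hji hu.unit (by rw [IsUnit.unit_spec, mul_comm]; exact hq j hj)
      let Q := ∑ j ∈ (p.support.erase i).attach, q j.1 (Finset.mem_of_mem_erase j.2)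
      have hQ : Q ∈ maximalIdeal S :=
        Ideal.sum_mem _ fun j _ => hqm _ _ (Finset.ne_of_mem_erase j.2)
      have hsum : t i * (1 + Q) = 0 := by
        rw [← hp', aeval_eq_sum_range, mul_add, mul_one, Finset.mul_sum]
        rw [← Finset.sum_subset (s₁ := p.support) (fun j hj => Finset.mem_range.mpr
          (Nat.lt_succ_of_le (le_natDegree_of_mem_supp j hj))) fun j _ hj => by
            simp [notMem_support_iff.mp hj],
          ← Finset.add_sum_erase _ _ hi, ← Finset.sum_attach (p.support.erase i)]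
        simp only [Algebra.smul_def]
        congr 1
        exact Finset.sum_congr rfl fun j _ => (hq _ _).symm
      rcases mul_eq_zero.mp hsum with h | h
      · exact hti i hi h
      · exact (mem_maximalIdeal _).mp hQ ((IsUnit.neg_iff _).mp
          (by rw [show -Q = 1 by linear_combination -h]; exact isUnit_one))
    have key : ∀ (i j : ℕ) (e : Sˣ), i ∈ p.support → j ∈ p.support → i < j → t j = e * t i →
        ∃ n : ℕ, n ≠ 0 ∧ ∃ a : A, a ≠ 0 ∧ ∃ v : Sˣ, s ^ n = v * algebraMap A S a := by
      intro i j e hi hj hij he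
      obtain ⟨d, rfl⟩ := Nat.exists_eq_add_of_le hij.le
      have hd : d ≠ 0 := by omega
      have he' : algebraMap A S (p.coeff (i + d)) * s ^ d = e * algebraMap A S (p.coeff i) :=
        mul_right_cancel₀ (pow_ne_zero i hs) (by
          have : algebraMap A S (p.coeff (i + d)) * s ^ (i + d) = e * (algebraMap A S (p.coeff i) * s ^ i) := he
          linear_combination this)
      rcases ValuationRing.dvd_total (p.coeff (i + d)) (p.coeff i) with ⟨b, hb⟩ | ⟨b, hb⟩
      · refine ⟨d, hd, b, fun h0 => mem_support_iff.mp hi (by rw [hb, h0, mul_zero]), e,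
          mul_left_cancel₀ (hci _ hj) ?_⟩
        rw [he', hb, map_mul]; ring
      · exfalso
        apply hsu
        refine (isUnit_pow_iff hd).mp (isUnit_of_dvd_unit ⟨algebraMap A S b, ?_⟩ e.isUnit)
        refine mul_left_cancel₀ (hci _ hi) ?_
        rw [hb, map_mul] at he'
        linear_combination -he'
    rcases lt_or_gt_of_ne hji with h | h
    · exact key j i e⁻¹ hj hi h (by rw [he, Units.inv_mul_cancel_left])
    · exact key i j e hi hj h he
  obtain ⟨m, rfl⟩ := Nat.exists_eq_succ_of_ne_zero hn0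
  let C := S ⊗[A] S
  let aC : C := algebraMap A C a
  have haC : ∀ z : C, z * aC = 0 → z = 0 := fun z hz => by
    haveI : Module.Flat A C := inferInstance
    have h : IsSMulRegular C aC := IsSMulRegular.of_flat (isRegular_of_ne_zero ha0).left
    refine h ?_
    show aC * z = aC * 0
    rw [mul_zero, mul_comm]
    exact hz
  let x : C := s ⊗ₜ[A] 1
  let y : C := 1 ⊗ₜ[A] s
  let z : C := 1 ⊗ₜ[A] (↑v⁻¹ * s ^ m)
  have hyz : y * z = aC := by
    show (1 ⊗ₜ[A] s : C) * 1 ⊗ₜ[A] (↑v⁻¹ * s ^ m) = algebraMap A C a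
    rw [Algebra.TensorProduct.tmul_mul_tmul, one_mul, mul_left_comm, ← pow_succ', hv,
      Units.inv_mul_cancel_left, Algebra.TensorProduct.algebraMap_apply, Algebra.TensorProduct.tmul_one_eq_one_tmul]
  have hxn : x ^ (m + 1) = ((v : S) ⊗ₜ[A] (↑v⁻¹ : S)) * y ^ (m + 1) := by
    show (s ⊗ₜ[A] 1 : C) ^ (m + 1) = _ * (1 ⊗ₜ[A] s : C) ^ (m + 1)
    rw [Algebra.TensorProduct.tmul_pow, Algebra.TensorProduct.tmul_pow, one_pow,
      Algebra.TensorProduct.tmul_mul_tmul, mul_one, show s ^ (m + 1) = ↑v * algebraMap A S a from hv,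
      Units.inv_mul_cancel_left,
      show (v : S) * algebraMap A S a = a • (v : S) by rw [Algebra.smul_def, mul_comm],
      ← TensorProduct.smul_tmul' (R' := A), show algebraMap A S a = a • (1 : S) from Algebra.algebraMap_eq_smul_one a,
      TensorProduct.tmul_smul]
  haveI : Module.Flat S C := inferInstance
  have hsat : Groth.L20.NormalWE.Sat A C := Groth.L20.NormalWE.sat_of_isIndEtale A C
    (Groth.L27.IndEtale.trans A S C hie (Groth.L27.IndEtale.baseChange A S S hie))
  obtain ⟨c, hc⟩ : aC ∣ x * z := by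
    refine hsat a ha0 (x * z) (m + 1) (fun j => if (j : ℕ) = 0 then -((v : S) ⊗ₜ[A] (↑v⁻¹ : S)) else 0) ?_
    rw [Finset.sum_eq_single (⟨0, m.succ_pos⟩ : Fin (m + 1))
      (fun j _ hj => by rw [if_neg (fun h => hj (Fin.ext h)), zero_mul, zero_mul])
      (fun h => absurd (Finset.mem_univ _) h), if_pos rfl]
    rw [show algebraMap A C a = y * z from hyz.symm, mul_pow, hxn]
    simp only [Nat.sub_zero, pow_zero, mul_one]
    ring
  have hxy : x = y * c := by
    refine sub_eq_zero.mp (haC _ ?_)
    linear_combination y * hc - x * hyz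
  -- descend
  let I : Ideal S := Ideal.span {s}
  let J : Ideal A := I.comap (algebraMap A S)
  have hsJ : s ∈ J.map (algebraMap A S) := by
    let ι : (A ⧸ J) →ₐ[A] S ⧸ I := Ideal.Quotient.liftₐ J (Algebra.ofId A (S ⧸ I)) fun b hb =>
      Ideal.Quotient.eq_zero_iff_mem.mpr (show algebraMap A S b ∈ I from hb)
    have hι : Function.Injective ι := (injective_iff_map_eq_zero ι).mpr fun b hb => by
      obtain ⟨b, rfl⟩ := Ideal.Quotient.mk_surjective b
      exact Ideal.Quotient.eq_zero_iff_mem.mpr (show algebraMap A S b ∈ I from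
        Ideal.Quotient.eq_zero_iff_mem.mp hb)
    have h1 := Module.Flat.lTensor_preserves_injective_linearMap (M := S) ι.toLinearMap hι
    let π : C →ₐ[A] S ⊗[A] (S ⧸ I) :=
      Algebra.TensorProduct.map (AlgHom.id A S) (IsScalarTower.toAlgHom A S (S ⧸ I))
    have hy0 : π y = 0 := by
      show (1 : S) ⊗ₜ[A] (Ideal.Quotient.mk I s) = 0
      rw [Ideal.Quotient.eq_zero_iff_mem.mpr (Ideal.mem_span_singleton_self s), TensorProduct.tmul_zero]
    have h2 : (s ⊗ₜ[A] (1 : A ⧸ J) : S ⊗[A] (A ⧸ J)) = 0 := h1 (by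
      rw [map_zero]
      show s ⊗ₜ[A] ι 1 = 0
      rw [map_one]
      have : π x = 0 := by rw [hxy, map_mul, hy0, zero_mul]
      exact this)
    let φ : S ⊗[A] (A ⧸ J) →ₐ[A] S ⧸ J.map (algebraMap A S) :=
      Algebra.TensorProduct.lift (IsScalarTower.toAlgHom A S _)
        (Ideal.Quotient.liftₐ J (Algebra.ofId A _) fun b hb =>
          Ideal.Quotient.eq_zero_iff_mem.mpr (Ideal.mem_map_of_mem _ hb)) fun _ _ => Commute.all _ _
    have h3 := congrArg φ h2
    rw [map_zero, Algebra.TensorProduct.lift_tmul, map_one, mul_one] at h3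
    exact Ideal.Quotient.eq_zero_iff_mem.mp h3
  obtain ⟨j, hj, t, ht⟩ : ∃ j ∈ J, ∃ t, s = algebraMap A S j * t := by
    refine Submodule.span_induction (p := fun z _ => ∃ j ∈ J, ∃ t, z = algebraMap A S j * t)
      ?_ ?_ ?_ ?_ hsJ
    · rintro _ ⟨j, hj, rfl⟩
      exact ⟨j, hj, 1, (mul_one _).symm⟩
    · exact ⟨0, J.zero_mem, 0, by simp⟩
    · rintro _ _ - - ⟨j, hj, t, rfl⟩ ⟨j', hj', t', rfl⟩
      rcases ValuationRing.dvd_total j j' with ⟨d, rfl⟩ | ⟨d, rfl⟩
      · exact ⟨j, hj, t + algebraMap A S d * t', by rw [map_mul]; ring⟩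
      · exact ⟨j', hj', algebraMap A S d * t + t', by rw [map_mul]; ring⟩
    · rintro r _ - ⟨j, hj, t, rfl⟩
      exact ⟨j, hj, r * t, by rw [smul_eq_mul]; ring⟩
  obtain ⟨r, hr⟩ := Ideal.mem_span_singleton'.mp (show algebraMap A S j ∈ I from hj)
  have htu : r * t = 1 := mul_left_cancel₀ hs (by linear_combination -ht + t * hr)
  exact ⟨j, ⟨t, r, by rw [mul_comm]; exact htu, htu⟩, by rw [ht]; ring⟩

end Groth.L05.Henselization.ValuationExt
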